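import Mathlib
import Cfsg.Agent.H673.Dist

/-!
# The disconnected case: the two components of the relative degree graph

`N` solvable, normal in `G`, `N ≤ G'`, and the common-divisor graph on `cd(G|N)` disconnected:
one component is complete, the other one has diameter at most two.
-/

set_option autoImplicit false
set_option linter.style.haveILetI false
set_option linter.unusedSectionVars false
open Cfsg

namespace Cfsg.Agent.H673

open Cfsg.Agent.H672
open Cfsg.Agent.Characters.Core Cfsg.Agent.Characters.Clifford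
open scoped ComplexConjugate

universe u v w

variable {G : Type u} [Group G] [Finite G]

theorem commutator_lt_of_solvable {N : Subgroup G} (hs : Group.IsSolvable N) (h : N ≠ ⊥) :
    ⁅N, N⁆ < N := by
  haveI : Nontrivial N := (Subgroup.nontrivial_iff_ne_bot N).2 h
  have h1 : commutator N < ⊤ := Group.IsSolvable.commutator_lt_top_of_nontrivial (G := N)
  have h2 := Subgroup.map_subtype_lt_map_subtype.2 h1
  rwa [Subgroup.map_subtype_commutator, ← MonoidHom.range_eq_map, Subgroup.range_subtype] at h2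

theorem ne_bot_of_mem_rel {N : Subgroup G} {d : ℕ} (hd : d ∈ relCharDegrees N) : N ≠ ⊥ := by
  rintro rfl
  obtain ⟨χ, ⟨x, hx, hne⟩, -⟩ := hd
  rw [Subgroup.mem_bot] at hx
  exact hne (by rw [hx])

section
variable {N : Subgroup G} [hN : N.Normal]

/-- `x`, `y` in different components, `r ∣ x`, `r ∤ b`: then `x`, `b` are in different
components. -/
theorem not_conn_side (hNG : N ≤ commutator G) {r : ℕ} [hr : Fact r.Prime]
    (hrm : r ∣ ⁅N, N⁆.relIndex N) {x y b : ℕ} (hx : x ∈ relCharDegrees N)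
    (hy : y ∈ relCharDegrees N) (hxy : ¬ Conn N x y) (hb : b ∈ relCharDegrees N)
    (hrx : r ∣ x) (hrb : ¬ r ∣ b) : ¬ Conn N x b := by
  obtain ⟨h1, l, -, -, -, -, hc⟩ := xor_of_not_conn hNG hrm hx hy hxy
  have hry : ¬ r ∣ y := by
    rcases h1 with h | h
    · exact h.2
    · exact absurd hrx h.2
  intro hxb
  exact hxy ((hxb.trans (hc b hb hrb)).trans (hc y hy hry).symm)

/-- In the disconnected case all the degrees outside the component of `x`, where `r ∣ x`, are
prime to `|N : N'|`. -/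
theorem coprime_of_side (hN' : ⁅N, N⁆ < N) (hNG : N ≤ commutator G) {r : ℕ} (hr : r.Prime)
    (hrm : r ∣ ⁅N, N⁆.relIndex N) {x b : ℕ} (hx : x ∈ relCharDegrees N)
    (hb : b ∈ relCharDegrees N) (hxb : ¬ Conn N x b) (hrx : r ∣ x) :
    Nat.Coprime b (⁅N, N⁆.relIndex N) ∧ ∀ s : ℕ, s.Prime → s ∣ ⁅N, N⁆.relIndex N → s ∣ x := by
  rcases main_xor hN' hNG hx hb hxb with h | h
  · exact absurd (Nat.eq_one_of_dvd_coprimes h.1 hrx hrm) hr.one_lt.ne'
  · exact h

/-- If `b` lies over a nontrivial linear character of `N` and is prime to `|N : N'|` then any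
other degree prime to `|N : N'|` is within distance two. -/
theorem near_of_linear (hNG : N ≤ commutator G) {χ : G → ℂ} (hχ : IsIrrCharacter G χ)
    {ϕ : N →* ℂˣ} (hϕ : ϕ ≠ 1) (ho : Over N.subtype χ (lf ϕ))
    (hcop : Nat.Coprime (charDegree χ) (⁅N, N⁆.relIndex N)) {c : ℕ} (hc : c ∈ relCharDegrees N)
    (hcc : Nat.Coprime c (⁅N, N⁆.relIndex N)) :
    ∃ d ∈ relCharDegrees N, ¬ Nat.Coprime (charDegree χ) d ∧ ¬ Nat.Coprime d c := by
  obtain ⟨r, j, hr, ⟨x, hx⟩, hj⟩ := exists_pow_prime ϕ hϕ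
  haveI : Fact r.Prime := ⟨hr⟩
  have hl1 : ϕ ^ j ≠ 1 := fun h => hx (DFunLike.congr_fun h x)
  have hl : ∀ x, (ϕ ^ j) x ^ r = 1 := by
    intro x; rw [MonoidHom.pow_apply, ← pow_mul]; exact hj x
  have hrm := dvd_relIndex_of_pow hr hl1 hl
  have hrb : ¬ r ∣ charDegree χ := fun h => hr.one_lt.ne' (Nat.eq_one_of_dvd_coprimes hcop h hrm)
  have hrc : ¬ r ∣ c := fun h => hr.one_lt.ne' (Nat.eq_one_of_dvd_coprimes hcc h hrm)
  obtain ⟨R, ν, hν⟩ := exists_extends_of_lin hχ ho hrb
  obtain ⟨d, hd, h1, h2⟩ := caseI' hNG R (k := 1) hl1 (by intro n; rw [pow_one]; exact hl n)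
    (ν ^ j) (by intro n; rw [MonoidHom.pow_apply, MonoidHom.pow_apply, hν]) c hc hrc
  refine ⟨d, hd, ?_, fun h => h1 h.symm⟩
  intro h
  apply h2
  have h3 : (inertia N (lf (ϕ ^ j))).index ∣ charDegree χ :=
    (Subgroup.index_dvd_of_le (inertia_pow N ϕ j)).trans (index_dvd_of_over hχ (isIrr_lf _) ho)
  exact (h.coprime_dvd_left h3).symm

/-- The contradiction in the last case: `θ` nonlinear over a degree prime to `r`, `μ'` of order `r`,
all degrees over `μ' θ` prime to `r` and to `|G : I(μ')|`. -/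
theorem last_case (hNG : N ≤ commutator G) {r : ℕ} [hr : Fact r.Prime] {θ : N → ℂ}
    (hθ : IsIrrCharacter N θ) {χ : G → ℂ} (hχ : IsIrrCharacter G χ) (ho : Over N.subtype χ θ)
    (hrχ : ¬ r ∣ charDegree χ) {l : N →* ℂˣ} (hl1 : l ≠ 1) (hl : ∀ x, l x ^ r = 1)
    {ψ : G → ℂ} (hψ : IsIrrCharacter G ψ) (hψo : Over N.subtype ψ (fun n => (l n : ℂ) * θ n))
    (hrψ : ¬ r ∣ charDegree ψ)
    (h1 : Nat.Coprime (charDegree χ) (inertia N (lf l)).index)
    (h2 : Nat.Coprime (charDegree ψ) (inertia N (lf l)).index) : False := by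
  have hlθ := isIrr_mul_lf l hθ
  have hcl := index_mul_charDegree_dvd N hχ hθ ho
  have hS : (inertia N θ).index ∣ charDegree χ := (dvd_mul_right _ _).trans hcl
  have hθd : charDegree θ ∣ charDegree χ := (dvd_mul_left _ _).trans hcl
  have hψU := index_dvd_of_over hψ hlθ hψo
  have hl' : ∀ x, l x ^ r ^ 1 = 1 := by intro x; rw [pow_one]; exact hl x
  have htop : inertia N (lf l) = ⊤ := inertia_eq_top N hθ (fun h => hrχ (h.trans hθd))
    (fun h => hrχ (h.trans hS)) l hl' (h1.coprime_dvd_left hS) (h2.coprime_dvd_left hψU)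
  obtain ⟨R, hR⟩ := exists_sylow_le (r := r) (inertia N θ) (fun h => hrχ (h.trans hS))
  obtain ⟨ν, hν⟩ := extends_of_two R hθ hR hχ ho hrχ l (by rw [htop]; exact le_top) hψ hψo hrψ
  exact inertia_ne_top hNG R hl1 hl' ν hν htop

end

/-- **The disconnected case.** -/
theorem disc_aux (n : ℕ) : ∀ (N : Subgroup G) [N.Normal], Nat.card N = n → Group.IsSolvable N →
    N ≤ commutator G → ∀ {x y : ℕ}, x ∈ relCharDegrees N → y ∈ relCharDegrees N → ¬ Conn N x y →
    ∀ {r : ℕ}, r.Prime → r ∣ ⁅N, N⁆.relIndex N → r ∣ x →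
    ∀ b ∈ relCharDegrees N, ∀ c ∈ relCharDegrees N, ¬ r ∣ b → ¬ r ∣ c →
      ∃ d ∈ relCharDegrees N, ¬ Nat.Coprime b d ∧ ¬ Nat.Coprime d c := by
  induction n using Nat.strong_induction_on with
  | _ n ih =>
  intro N _ hcard hs hNG x y hx hy hxy r hr hrm hrx b hb c hc hrb hrc
  haveI : Fact r.Prime := ⟨hr⟩
  have hN' : ⁅N, N⁆ < N := commutator_lt_of_solvable hs (ne_bot_of_mem_rel hx)
  have hxb := not_conn_side hNG hrm hx hy hxy hb hrx hrb
  have hxc := not_conn_side hNG hrm hx hy hxy hc hrx hrc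
  have hbm := (coprime_of_side hN' hNG hr hrm hx hb hxb hrx).1
  have hcm := (coprime_of_side hN' hNG hr hrm hx hc hxc hrx).1
  have hxall := (coprime_of_side hN' hNG hr hrm hx hb hxb hrx).2
  obtain ⟨⟨χb, hχb⟩, hkb, hdb⟩ := id hb
  dsimp only at hkb hdb
  subst hdb
  obtain ⟨⟨χc, hχc⟩, hkc, hdc⟩ := id hc
  dsimp only at hkc hdc
  subst hdc
  obtain ⟨θb, hθb, hob⟩ := exists_under (f := N.subtype) hχb
  obtain ⟨θc, hθc, hoc⟩ := exists_under (f := N.subtype) hχc
  have hθb1 := ne_one_of_over N hχb hkb hθb hob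
  have hθc1 := ne_one_of_over N hχc hkc hθc hoc
  by_cases h1 : charDegree θb = 1
  · obtain ⟨ϕ, rfl⟩ := exists_hom_of_degree_one hθb h1
    have hϕ : ϕ ≠ 1 := by rintro rfl; exact hθb1 lf_one
    exact near_of_linear hNG hχb hϕ hob hbm hc hcm
  by_cases h2 : charDegree θc = 1
  · obtain ⟨ϕ, rfl⟩ := exists_hom_of_degree_one hθc h2
    have hϕ : ϕ ≠ 1 := by rintro rfl; exact hθc1 lf_one
    obtain ⟨d, hd, h3, h4⟩ := near_of_linear hNG hχc hϕ hoc hcm hb hbm
    exact ⟨d, hd, fun h => h4 h.symm, fun h => h3 h.symm⟩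
  have hb' := mem_rel_commutator_of_nonlinear hχb hθb hob h1
  have hc' := mem_rel_commutator_of_nonlinear hχc hθc hoc h2
  have hmono : ∀ {d : ℕ}, d ∈ relCharDegrees ⁅N, N⁆ → d ∈ relCharDegrees N :=
    fun hd => rel_mono hN'.le hd
  have hNG' : ⁅N, N⁆ ≤ commutator G := hN'.le.trans hNG
  have hs' : Group.IsSolvable (⁅N, N⁆ : Subgroup G) := by
    haveI := hs
    exact Group.isSolvable_of_isSolvable_injective (f := Subgroup.inclusion hN'.le)
      (Subgroup.inclusion_injective _)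
  have hN'' : ⁅⁅N, N⁆, ⁅N, N⁆⁆ < ⁅N, N⁆ := commutator_lt_of_solvable hs' (ne_bot_of_mem_rel hb')
  by_cases h3 : ∃ x' ∈ relCharDegrees ⁅N, N⁆, r ∣ x'
  · -- the graph of `N'` is disconnected as well
    obtain ⟨x', hx', hrx'⟩ := h3
    have hx'b : ¬ Conn ⁅N, N⁆ x' (charDegree χb) := fun h =>
      not_conn_side hNG hrm hx hy hxy hb hrx hrb ((Conn.of_dvd hx (hmono hx') hr.one_lt hrx hrx').trans
        (conn_mono hN'.le h))
    have hx'c : ¬ Conn ⁅N, N⁆ x' (charDegree χc) := fun h =>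
      not_conn_side hNG hrm hx hy hxy hc hrx hrc ((Conn.of_dvd hx (hmono hx') hr.one_lt hrx hrx').trans
        (conn_mono hN'.le h))
    have hm1 : ⁅⁅N, N⁆, ⁅N, N⁆⁆.relIndex ⁅N, N⁆ ≠ 1 :=
      fun h => hN''.not_ge (Subgroup.relIndex_eq_one.1 h)
    obtain ⟨q, hq, hqm⟩ := Nat.exists_prime_and_dvd hm1
    rcases main_xor hN'' hNG' hx' hb' hx'b with h4 | h4
    · have hqb := h4.2 q hq hqm
      rcases main_xor hN'' hNG' hx' hc' hx'c with h5 | h5
      · have hqc := h5.2 q hq hqm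
        refine ⟨charDegree χb, hb, not_coprime_self (one_lt_of_mem_rel hNG hb), fun h => ?_⟩
        exact hq.one_lt.ne' (Nat.eq_one_of_dvd_coprimes h hqb hqc)
      · exact absurd (Nat.eq_one_of_dvd_coprimes h4.1 (h5.2 q hq hqm) hqm) hq.one_lt.ne'
    · have hqx' := h4.2 q hq hqm
      have hqb : ¬ q ∣ charDegree χb := fun h =>
        hq.one_lt.ne' (Nat.eq_one_of_dvd_coprimes h4.1 h hqm)
      have hqc : ¬ q ∣ charDegree χc := by
        intro h
        rcases main_xor hN'' hNG' hx' hc' hx'c with h5 | h5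
        · exact hq.one_lt.ne' (Nat.eq_one_of_dvd_coprimes h5.1 hqx' hqm)
        · exact hq.one_lt.ne' (Nat.eq_one_of_dvd_coprimes h5.1 h hqm)
      have hlt : Nat.card (⁅N, N⁆ : Subgroup G) < n := by
        rw [← hcard]
        exact Set.Finite.card_lt_card (Set.toFinite _) hN'
      obtain ⟨d, hd, h5, h6⟩ := ih _ hlt ⁅N, N⁆ rfl hs' hNG' hx' hb' hx'b hq hqm hqx' _ hb' _ hc'
        hqb hqc
      exact ⟨d, hmono hd, h5, h6⟩
  · -- otherwise `x` lies over a linear character
    exfalso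
    push Not at h3
    obtain ⟨⟨χx, hχx⟩, hkx, hdx⟩ := id hx
    dsimp only at hkx hdx
    subst hdx
    obtain ⟨θx, hθx, hox⟩ := exists_under (f := N.subtype) hχx
    have hθx1 := ne_one_of_over N hχx hkx hθx hox
    have h4 : charDegree θx = 1 := by
      by_contra h
      exact h3 _ (mem_rel_commutator_of_nonlinear hχx hθx hox h) hrx
    obtain ⟨μ, rfl⟩ := exists_hom_of_degree_one hθx h4
    have hμ : μ ≠ 1 := by rintro rfl; exact hθx1 lf_one
    obtain ⟨s, j, hs, ⟨z, hz⟩, hj⟩ := exists_pow_prime μ hμ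
    haveI : Fact s.Prime := ⟨hs⟩
    have hl1 : μ ^ j ≠ 1 := fun h => hz (DFunLike.congr_fun h z)
    have hl : ∀ x, (μ ^ j) x ^ s = 1 := by
      intro x; rw [MonoidHom.pow_apply, ← pow_mul]; exact hj x
    have hsm := dvd_relIndex_of_pow hs hl1 hl
    have hix : (inertia N (lf (μ ^ j))).index ∣ charDegree χx :=
      (Subgroup.index_dvd_of_le (inertia_pow N μ j)).trans (index_dvd_of_over hχx (isIrr_lf _) hox)
    have hlθ := isIrr_mul_lf (μ ^ j) hθb
    obtain ⟨ψ, hψ, hψo⟩ := exists_over N _ hlθ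
    have hψm : charDegree ψ ∈ relCharDegrees N := by
      refine mem_relCharDegrees_of_over N hψ hlθ hψo ?_
      apply one_ne_of_charDegree
      rwa [charDegree_mul_lf]
    have hψb : Conn N (charDegree ψ) (charDegree χb) := by
      refine Conn.of_dvd hψm hb (r := charDegree θb) ?_ ?_ ?_
      · have := charDegree_pos hθb; omega
      · have h1 := index_mul_charDegree_dvd N hψ hlθ hψo
        rw [charDegree_mul_lf] at h1
        exact (dvd_mul_left _ _).trans h1
      · exact (dvd_mul_left _ _).trans (index_mul_charDegree_dvd N hχb hθb hob)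
    have hxψ : ¬ Conn N (charDegree χx) (charDegree ψ) := fun h => hxb (h.trans hψb)
    have hψcop := (coprime_of_side hN' hNG hr hrm hx hψm hxψ hrx).1
    have hcop1 : Nat.Coprime (charDegree χb) (inertia N (lf (μ ^ j))).index := by
      by_contra h
      exact hxb (Conn.of_not_coprime hb hx (fun h' => h (h'.coprime_dvd_right hix))).symm
    have hcop2 : Nat.Coprime (charDegree ψ) (inertia N (lf (μ ^ j))).index := by
      by_contra h
      exact hxψ (Conn.of_not_coprime hψm hx (fun h' => h (h'.coprime_dvd_right hix))).symm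
    exact last_case hNG hθb hχb hob
      (fun h => hs.one_lt.ne' (Nat.eq_one_of_dvd_coprimes hbm h hsm)) hl1 hl hψ hψo
      (fun h => hs.one_lt.ne' (Nat.eq_one_of_dvd_coprimes hψcop h hsm)) hcop1 hcop2

end Cfsg.Agent.H673
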