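import Mathlib
import Cfsg.Agent.H672.Main
import Cfsg.Agent.H670.PSing

/-!
# The Itô-Michler theorem in the inertia group of a linear character of a normal subgroup
-/

set_option autoImplicit false
set_option linter.style.haveILetI false
set_option linter.unusedSectionVars false
open Cfsg

namespace Cfsg.Agent.H673

open Cfsg.Agent.H672
open Cfsg.Agent.Characters.Core Cfsg.Agent.Characters.Clifford
open scoped ComplexConjugate

universe u v w

variable {G : Type u} [Group G] [Finite G] {N : Subgroup G} [hN : N.Normal]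

/-- the induced twist lies over `l` -/
theorem twist_irr_over (l : N →* ℂˣ) (T : Subgroup G) (hT : T = inertia N (lf l)) (hNT : N ≤ T)
    (F : T →* ℂˣ) (hF : ∀ n : N, F ⟨n, hNT n.2⟩ = l n) {β : T → ℂ} (hβ : IsIrrCharacter T β)
    (hker : ∀ n : N, β ⟨n, hNT n.2⟩ = β 1) :
    ∃ χ : G → ℂ, IsIrrCharacter G χ ∧ Over N.subtype χ (lf l) ∧
      charDegree χ = T.index * charDegree β := by
  classical
  letI := Fintype.ofFinite G
  letI := Fintype.ofFinite N
  letI := Fintype.ofFinite T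
  have hTmem : ∀ g, g ∈ T ↔
      OddOrderCharacters.NormalInduced.conjFn N (fun n => (l n : ℂ)) g = fun n => (l n : ℂ) := by
    intro g
    rw [hT, mem_inertia_iff, funext_iff]
    rfl
  have hφ : IsIrrCharacter T (fun t => (F t : ℂ) * β t) :=
    OddOrderCharacters.InertiaAbelian.isIrr_mul_hom F hβ
  have hirr := OddOrderCharacters.PF9.CliffGen.irr_twist hTmem hNT hF hβ hker
  refine ⟨_, hirr, ?_, ?_⟩
  · have h1 : Over T.subtype (indFun T (fun t => (F t : ℂ) * β t)) (fun t => (F t : ℂ) * β t) := by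
      rw [over_iff]
      have h3 := CharactersDeep.NormalInd.classInner_indFun T (fun t => (F t : ℂ) * β t)
        (indFun T (fun t => (F t : ℂ) * β t)) (isIrr_isClassFunction hirr)
      rw [classInner_irr_self hirr] at h3
      intro h4
      have h5 := classInner_conj_symm (fun t => (F t : ℂ) * β t)
        (fun h : T => indFun T (fun t => (F t : ℂ) * β t) h)
      have h6 : classInner (fun h : T => indFun T (fun t => (F t : ℂ) * β t) h)
        (fun t => (F t : ℂ) * β t) = 0 := h4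
      rw [← h3, h6] at h5
      simp at h5
    have e : N.subtype = T.subtype.comp (Subgroup.inclusion hNT) := by ext; rfl
    rw [e]
    refine (over_comp_iff _ _ (isIrr_isCharacter hirr) (isIrr_lf l)).2 ⟨_, hφ, h1, ?_⟩
    rw [over_iff]
    have e2 : (fun t => (F t : ℂ) * β t) ∘ (Subgroup.inclusion hNT) = β 1 • lf l := by
      funext n
      show (F ⟨n, hNT n.2⟩ : ℂ) * β ⟨n, hNT n.2⟩ = β 1 * (l n : ℂ)
      rw [hF, hker, mul_comm]
    rw [e2, classInner_smul_left, classInner_irr_self (isIrr_lf l), mul_one]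
    exact isIrr_apply_one_ne_zero hβ
  · rw [charDegree_indFun T hφ rfl]
    congr 1
    apply charDegree_of_eq
    rw [map_one, Units.val_one, one_mul, coe_charDegree hβ]

/-- If all the characters over `l` have degree prime to `r` then `I(l) / N` has a normal abelian Sylow
`r`-subgroup. -/
theorem inertia_IM {r : ℕ} [hr : Fact r.Prime] (l : N →* ℂˣ) (T : Subgroup G)
    (hT : T = inertia N (lf l)) (hNT : N ≤ T)
    (F : T →* ℂˣ) (hF : ∀ n : N, F ⟨n, hNT n.2⟩ = l n)
    (hdeg : ∀ χ : G → ℂ, IsIrrCharacter G χ → Over N.subtype χ (lf l) → ¬ r ∣ charDegree χ)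
    (hIM : H670.PSing.IM r (T ⧸ N.subgroupOf T)) (Q : Sylow r G) (hQT : (Q : Subgroup G) ≤ T) :
    (∀ t ∈ T, ∀ x ∈ (Q : Subgroup G), t * x * t⁻¹ ∈ N ⊔ (Q : Subgroup G)) ∧
    (∀ x ∈ (Q : Subgroup G), ∀ y ∈ (Q : Subgroup G), x * y * x⁻¹ * y⁻¹ ∈ N) := by
  classical
  have h1 := hIM (by
    intro β hβ hrβ
    set β' : T → ℂ := β ∘ (QuotientGroup.mk' (N.subgroupOf T)) with hβ'
    have hβirr : IsIrrCharacter T β' :=
      isIrr_comp (QuotientGroup.mk' (N.subgroupOf T)) (QuotientGroup.mk'_surjective _) hβ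
    have hker : ∀ n : N, β' ⟨n, hNT n.2⟩ = β' 1 := by
      intro n
      show β (QuotientGroup.mk' (N.subgroupOf T) ⟨n, hNT n.2⟩) =
        β (QuotientGroup.mk' (N.subgroupOf T) 1)
      congr 1
      rw [map_one]
      exact (QuotientGroup.eq_one_iff _).2 (Subgroup.mem_subgroupOf.2 n.2)
    obtain ⟨χ, hχ, ho, hd⟩ := twist_irr_over l T hT hNT F hF hβirr hker
    apply hdeg χ hχ ho
    rw [hd]
    apply Dvd.dvd.mul_left
    have h6 : charDegree β' = charDegree β := by
      rw [hβ', charDegree_comp_one]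
    rw [h6]
    exact hrβ)
  let Q₁ : Sylow r T := Q.subtype hQT
  have hQ₁ : ∀ x : T, x ∈ (Q₁ : Subgroup T) ↔ (x : G) ∈ (Q : Subgroup G) := by
    intro x
    exact Iff.rfl
  have h2 := h1 (Q₁.mapSurjective (QuotientGroup.mk'_surjective (N.subgroupOf T)))
  constructor
  · intro t ht x hx
    have h3 : QuotientGroup.mk' (N.subgroupOf T) (⟨x, hQT hx⟩ : T) ∈
        ((Q₁.mapSurjective (QuotientGroup.mk'_surjective (N.subgroupOf T)) :
          Sylow r (T ⧸ N.subgroupOf T)) : Subgroup (T ⧸ N.subgroupOf T)) :=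
      Subgroup.mem_map_of_mem _ ((hQ₁ ⟨x, hQT hx⟩).2 hx)
    have h4 := h2.1.conj_mem _ h3 (QuotientGroup.mk' (N.subgroupOf T) (⟨t, ht⟩ : T))
    obtain ⟨y, hy, hyt⟩ := h4
    rw [← map_mul, ← map_inv, ← map_mul] at hyt
    have h5 : y⁻¹ * ((⟨t, ht⟩ : T) * ⟨x, hQT hx⟩ * (⟨t, ht⟩ : T)⁻¹) ∈ N.subgroupOf T :=
      QuotientGroup.eq.1 hyt
    have h6 : (y : G)⁻¹ * (t * x * t⁻¹) ∈ N := Subgroup.mem_subgroupOf.1 h5
    have h7 : (y : G) ∈ (Q : Subgroup G) := (hQ₁ y).1 hy
    have h8 := Subgroup.mul_mem_sup h6 h7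
    have h9 : t * x * t⁻¹ = (y : G) * ((y : G)⁻¹ * (t * x * t⁻¹)) := by group
    rw [h9]
    exact mul_mem (Subgroup.mem_sup_right h7) (Subgroup.mem_sup_left h6)
  · intro x hx y hy
    have h := h2.2
      (QuotientGroup.mk' _ (⟨x, hQT hx⟩ : T)) (Subgroup.mem_map_of_mem _ ((hQ₁ ⟨x, hQT hx⟩).2 hx))
      (QuotientGroup.mk' _ (⟨y, hQT hy⟩ : T)) (Subgroup.mem_map_of_mem _ ((hQ₁ ⟨y, hQT hy⟩).2 hy))
    have h3 : ((⟨x, hQT hx⟩ : T) * ⟨y, hQT hy⟩ * (⟨x, hQT hx⟩ : T)⁻¹ * (⟨y, hQT hy⟩ : T)⁻¹) ∈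
        N.subgroupOf T := by
      rw [← QuotientGroup.eq_one_iff]
      show QuotientGroup.mk' (N.subgroupOf T) _ = 1
      rw [map_mul, map_mul, map_mul, map_inv, map_inv, h]
      group
    exact Subgroup.mem_subgroupOf.1 h3

end Cfsg.Agent.H673
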