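import Mathlib
import Cfsg.Agent.S0543

/-!
# Orbits on an abelian group and coprime orbit lengths
-/

set_option autoImplicit false
set_option linter.unusedSectionVars false
set_option linter.style.haveILetI false

namespace Cfsg.Agent.H673.Orb

open MulAction

universe u v

section basic

variable {G : Type u} [Group G] [Finite G] {V : Type v} [CommGroup V] [MulDistribMulAction G V]

theorem exists_smul_pair {a b : V}
    (h : Nat.Coprime (stabilizer G a).index (stabilizer G b).index) (g k : G) :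
    ∃ x : G, x • a = g • a ∧ x • b = k • b := by
  obtain ⟨s, hs, t, ht, hst⟩ := S0543.exists_mul_eq_of_coprime_index _ _ h (g⁻¹ * k)
  refine ⟨g * s, ?_, ?_⟩
  · rw [mul_smul, mem_stabilizer_iff.1 hs]
  · have h1 : g * s = k * t⁻¹ := by
      rw [eq_mul_inv_iff_mul_eq, mul_assoc, ← hst, mul_inv_cancel_left]
    rw [h1, mul_smul, mem_stabilizer_iff.1 ((stabilizer G b).inv_mem ht)]

theorem index_inf_of_coprime (A B : Subgroup G) (h : Nat.Coprime A.index B.index) :
    (A ⊓ B).index = A.index * B.index := by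
  refine le_antisymm (Subgroup.index_inf_le) (Nat.le_of_dvd (Nat.pos_of_ne_zero
    Subgroup.index_ne_zero_of_finite) ?_)
  exact h.mul_dvd_of_dvd_of_dvd (Subgroup.index_dvd_of_le inf_le_left)
    (Subgroup.index_dvd_of_le inf_le_right)

/-- If the orbit lengths of `a` and `b`, and of `a * b` and `b`, are coprime then the orbit of `a`
is stable under multiplication by `(g • b) * b⁻¹`. -/
theorem shift {a b : V}
    (h1 : Nat.Coprime (stabilizer G a).index (stabilizer G b).index)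
    (h2 : Nat.Coprime (stabilizer G (a * b)).index (stabilizer G b).index) (g k : G) :
    ∃ y : G, y • a = (k • a) * ((g • b) * b⁻¹) := by
  have hinf : stabilizer G a ⊓ stabilizer G b = stabilizer G (a * b) ⊓ stabilizer G b := by
    ext x
    simp only [Subgroup.mem_inf, mem_stabilizer_iff, smul_mul']
    constructor
    · rintro ⟨h3, h4⟩
      rw [h3, h4]
      exact ⟨rfl, rfl⟩
    · rintro ⟨h3, h4⟩
      rw [h4] at h3
      exact ⟨mul_right_cancel h3, h4⟩
  have hcard : (stabilizer G a).index = (stabilizer G (a * b)).index := by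
    have h3 := index_inf_of_coprime _ _ h1
    have h4 := index_inf_of_coprime _ _ h2
    rw [hinf, h4] at h3
    exact (Nat.eq_of_mul_eq_mul_right (Nat.pos_of_ne_zero Subgroup.index_ne_zero_of_finite) h3).symm
  have hsub : (fun x : V => x * b) '' (orbit G a) ⊆ orbit G (a * b) := by
    rintro _ ⟨_, ⟨x, rfl⟩, rfl⟩
    obtain ⟨y, hy1, hy2⟩ := exists_smul_pair h1 x 1
    refine ⟨y, ?_⟩
    show y • (a * b) = x • a * b
    rw [smul_mul', hy1, hy2, one_smul]
  have hfin : (orbit G (a * b)).Finite := Set.finite_range _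
  have heq : (fun x : V => x * b) '' (orbit G a) = orbit G (a * b) := by
    refine Set.eq_of_subset_of_ncard_le hsub ?_ hfin
    rw [Set.ncard_image_of_injective _ (mul_left_injective b), ← index_stabilizer,
      ← index_stabilizer, hcard]
  obtain ⟨x, hx1, hx2⟩ := exists_smul_pair h1 k g
  have h3 : (k • a) * (g • b) ∈ (fun x : V => x * b) '' (orbit G a) := by
    rw [heq]
    exact ⟨x, by show x • (a * b) = _; rw [smul_mul', hx1, hx2]⟩
  obtain ⟨_, ⟨y, rfl⟩, hy⟩ := h3
  refine ⟨y, ?_⟩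
  dsimp only at hy
  rw [← mul_assoc, ← hy, mul_inv_cancel_right]

theorem pow_eq_one_of_stable (O : Finset V) {x : V} (h : ∀ a ∈ O, a * x ∈ O) :
    x ^ O.card = 1 := by
  classical
  have himg : O.image (fun a => a * x) = O := by
    refine Finset.eq_of_subset_of_card_le ?_ ?_
    · intro y hy
      obtain ⟨a, ha, rfl⟩ := Finset.mem_image.1 hy
      exact h a ha
    · rw [Finset.card_image_of_injective _ (mul_left_injective x)]
  have h1 : ∏ a ∈ O, (a * x) = ∏ a ∈ O, a := by
    conv_rhs => rw [← himg]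
    rw [Finset.prod_image (fun a _ b _ hab => mul_left_injective x hab)]
  rw [Finset.prod_mul_distrib, Finset.prod_const] at h1
  exact mul_eq_left.1 h1

/-- version for orbits -/
theorem pow_eq_one_of_orbit {a x : V} (h : ∀ k : G, ∃ y : G, y • a = (k • a) * x) :
    x ^ (stabilizer G a).index = 1 := by
  classical
  have hfin : (orbit G a).Finite := Set.finite_range _
  have h1 := pow_eq_one_of_stable hfin.toFinset (x := x) (by
    intro b hb
    rw [Set.Finite.mem_toFinset] at hb ⊢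
    obtain ⟨k, rfl⟩ := hb
    obtain ⟨y, hy⟩ := h k
    exact ⟨y, hy⟩)
  rwa [index_stabilizer, Set.ncard_eq_toFinset_card _ hfin]

theorem eq_one_of_coprime_pow {a : V} {m n : ℕ} (h : Nat.Coprime m n) (h1 : a ^ m = 1)
    (h2 : a ^ n = 1) : a = 1 := by
  have := pow_gcd_eq_one.2 ⟨h1, h2⟩
  rwa [Nat.Coprime.gcd_eq_one h, pow_one] at this

end basic

section str

variable {p : ℕ} {G : Type u} [Group G] {V : Type v} [CommGroup V] [MulDistribMulAction G V]

/-- The set of elements lying in one of the subgroups `E R`. -/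
def WS (E : Sylow p G → Subgroup V) : Set V := {a | ∃ R, a ∈ E R}

/-- The action of `G` on the dual of an abelian normal `p`-subgroup with disconnected relative
degree graph. -/
structure Hyp (E : Sylow p G → Subgroup V) : Prop where
  pV : ∃ k : ℕ, ∀ a : V, a ^ (p ^ k) = 1
  conj : ∀ (g : G) (R : Sylow p G) (a : V), a ∈ E R → g • a ∈ E (g • R)
  ne_top : ∀ (R : Sylow p G) (a : V), a ∈ E R → a ≠ 1 → stabilizer G a ≠ ⊤
  le : ∀ (R : Sylow p G) (a : V), a ∈ E R → (R : Subgroup G) ≤ stabilizer G a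
  inv : ∀ (R : Sylow p G) (a : V), a ∈ WS E → (R : Subgroup G) ≤ stabilizer G a → a ∈ E R
  cop : ∀ a b : V, a ∈ WS E → a ≠ 1 → b ∉ WS E →
    Nat.Coprime (stabilizer G a).index (stabilizer G b).index

variable {E : Sylow p G → Subgroup V} [Finite G] [hp : Fact p.Prime]

namespace Hyp

theorem not_dvd (h : Hyp E) {a : V} (ha : a ∈ WS E) : ¬ p ∣ (stabilizer G a).index := by
  obtain ⟨R, hR⟩ := ha
  exact fun h1 => R.not_dvd_index (h1.trans (Subgroup.index_dvd_of_le (h.le R a hR)))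

theorem one_mem (E : Sylow p G → Subgroup V) : (1 : V) ∈ WS E := by
  obtain ⟨R⟩ : Nonempty (Sylow p G) := inferInstance
  exact ⟨R, (E R).one_mem⟩

theorem inv_mem (E : Sylow p G → Subgroup V) {a : V} (ha : a ∈ WS E) : a⁻¹ ∈ WS E := by
  obtain ⟨R, hR⟩ := ha
  exact ⟨R, (E R).inv_mem hR⟩

theorem smul_mem (h : Hyp E) {a : V} (g : G) (ha : a ∈ WS E) : g • a ∈ WS E := by
  obtain ⟨R, hR⟩ := ha
  exact ⟨_, h.conj g R a hR⟩

theorem eq_one (h : Hyp E) {a : V} {m : ℕ} (hm : ¬ p ∣ m) (ha : a ^ m = 1) : a = 1 := by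
  obtain ⟨k, hk⟩ := h.pV
  exact eq_one_of_coprime_pow
    (Nat.Coprime.pow_right k ((Nat.Prime.coprime_iff_not_dvd hp.out).2 hm).symm) ha (hk a)

/-- the product of an element of `W` and an element outside `W` is outside `W` -/
theorem mul_notMem (h : Hyp E) {a b : V} (ha : a ∈ WS E) (hb : b ∉ WS E) : a * b ∉ WS E := by
  intro hab
  by_cases ha1 : a = 1
  · rw [ha1, one_mul] at hab; exact hb hab
  have hab1 : a * b ≠ 1 := by
    intro h1
    rw [mul_eq_one_iff_eq_inv'] at h1
    exact hb (h1 ▸ inv_mem E ha)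
  have h1 := h.cop a b ha ha1 hb
  have h2 := h.cop (a * b) b hab hab1 hb
  have hfix : ∀ g : G, g • b = b := by
    intro g
    have h3 := pow_eq_one_of_orbit (G := G) (a := a) (x := (g • b) * b⁻¹) (fun k => shift h1 h2 g k)
    have h4 := h.eq_one (h.not_dvd ha) h3
    exact mul_inv_eq_one.1 h4
  obtain ⟨R, hR⟩ := ha
  have hRs : (R : Subgroup G) ≤ stabilizer G (a * b) := by
    intro x hx
    rw [mem_stabilizer_iff, smul_mul', hfix x, mem_stabilizer_iff.1 (h.le R a hR hx)]
  have h5 := h.inv R _ hab hRs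
  have h6 : b ∈ E R := by
    have := (E R).mul_mem ((E R).inv_mem hR) h5
    rwa [inv_mul_cancel_left] at this
  exact hb ⟨R, h6⟩

theorem mul_mem (h : Hyp E) {a b : V} (ha : a ∈ WS E) (hb : b ∈ WS E) : a * b ∈ WS E := by
  by_contra hab
  apply h.mul_notMem (inv_mem E ha) hab
  rwa [inv_mul_cancel_left]

/-- `W` as a subgroup -/
def W (h : Hyp E) : Subgroup V where
  carrier := WS E
  one_mem' := one_mem E
  mul_mem' := h.mul_mem
  inv_mem' := inv_mem E

theorem mem_W (h : Hyp E) {a : V} : a ∈ h.W ↔ a ∈ WS E := Iff.rfl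

/-- Orbits of elements outside `W` are stable under multiplication by `W`. -/
theorem exists_smul_eq (h : Hyp E) {a b : V} (ha : a ∈ WS E) (hb : b ∉ WS E) :
    ∀ k : G, ∃ y : G, y • b = (k • b) * a := by
  classical
  by_cases ha1 : a = 1
  · intro k
    exact ⟨k, by rw [ha1, mul_one]⟩
  have h1 := h.cop a b ha ha1 hb
  have h2 := h.cop a (b * a) ha ha1 (by rw [mul_comm]; exact h.mul_notMem ha hb)
  have hsh := fun g k => shift (G := G) h1.symm h2.symm g k
  have hfin : (orbit G a).Finite := Set.finite_range _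
  set O : Finset V := hfin.toFinset with hO
  have hOmem : ∀ {x : V}, x ∈ O ↔ x ∈ orbit G a := by intro x; rw [hO, Set.Finite.mem_toFinset]
  have hOc : O.card = (stabilizer G a).index := by
    rw [index_stabilizer, Set.ncard_eq_toFinset_card _ hfin]
  -- the stable elements
  let H : Submonoid V :=
    { carrier := {x | ∀ k : G, ∃ y : G, y • b = (k • b) * x}
      one_mem' := fun k => ⟨k, by rw [mul_one]⟩
      mul_mem' := by
        intro x y hx hy k
        obtain ⟨k1, hk1⟩ := hx k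
        obtain ⟨k2, hk2⟩ := hy k1
        exact ⟨k2, by rw [hk2, hk1, mul_assoc]⟩ }
  -- the product of the orbit
  have hprod : ∏ x ∈ O, x = 1 := by
    by_contra hne
    have hW : ∏ x ∈ O, x ∈ h.W := Subgroup.prod_mem _ (by
      intro x hx
      obtain ⟨g, rfl⟩ := hOmem.1 hx
      exact h.smul_mem g ha)
    obtain ⟨R, hR⟩ := hW
    apply h.ne_top R _ hR hne
    rw [eq_top_iff]
    intro g _
    rw [mem_stabilizer_iff, Finset.smul_prod']
    have himg : O.image (fun x => g • x) = O := by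
      refine Finset.eq_of_subset_of_card_le ?_ ?_
      · intro y hy
        obtain ⟨x, hx, rfl⟩ := Finset.mem_image.1 hy
        obtain ⟨k, rfl⟩ := hOmem.1 hx
        exact hOmem.2 ⟨g * k, mul_smul g k a⟩
      · rw [Finset.card_image_of_injective _ (MulAction.injective g)]
    conv_rhs => rw [← himg]
    rw [Finset.prod_image (fun x _ y _ hxy => MulAction.injective g hxy)]
  have h3 : ∏ x ∈ O, (x * a⁻¹) ∈ H := Submonoid.prod_mem _ (by
    intro x hx
    obtain ⟨g, rfl⟩ := hOmem.1 hx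
    exact fun k => hsh g k)
  rw [Finset.prod_mul_distrib, hprod, one_mul, Finset.prod_const, hOc] at h3
  -- `a⁻¹` is a power of this element
  have hm := h.not_dvd ha
  set m := (stabilizer G a).index with hmdef
  obtain ⟨k, hk⟩ := h.pV
  have hcop : Nat.Coprime m (p ^ k) :=
    Nat.Coprime.pow_right k ((Nat.Prime.coprime_iff_not_dvd hp.out).2 hm).symm
  obtain ⟨j, hj⟩ : ∃ j : ℕ, m * j ≡ 1 [MOD p ^ k] := by
    by_cases hk1 : 1 < p ^ k
    · obtain ⟨j, hj⟩ := Nat.exists_mul_mod_eq_one_of_coprime hcop hk1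
      exact ⟨j, by rw [Nat.ModEq, hj.2, Nat.mod_eq_of_lt hk1]⟩
    · have : p ^ k = 1 := le_antisymm (not_lt.1 hk1) (Nat.one_le_pow _ _ hp.out.pos)
      exact ⟨0, by rw [this]; exact Nat.modEq_one⟩
  have h4 : a⁻¹ ∈ H := by
    have h5 := H.pow_mem h3 j
    rw [← pow_mul] at h5
    have h6 : a⁻¹ ^ (m * j) = a⁻¹ ^ 1 :=
      pow_eq_pow_iff_modEq.2 (hj.of_dvd (orderOf_dvd_of_pow_eq_one (hk a⁻¹)))
    rwa [h6, pow_one] at h5
  have h7 : a ∈ H := by
    have h5 := H.pow_mem h4 (p ^ k - 1)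
    have h6 : a⁻¹ ^ (p ^ k - 1) = a := by
      have h8 : a⁻¹ ^ (p ^ k - 1) * a⁻¹ = 1 := by
        rw [← pow_succ, Nat.sub_add_cancel (Nat.one_le_pow _ _ hp.out.pos), hk]
      rw [mul_inv_eq_one] at h8
      exact h8
    rwa [h6] at h5
  exact h7

/-- A `p`-subgroup normalising a Sylow subgroup is contained in it. -/
theorem _root_.Cfsg.Agent.H673.Orb.le_sylow_of_normalizes {Q : Subgroup G} (hQ : IsPGroup p Q)
    (R : Sylow p G) (hn : ∀ t ∈ Q, ∀ x ∈ (R : Subgroup G), t * x * t⁻¹ ∈ (R : Subgroup G)) :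
    Q ≤ (R : Subgroup G) := by
  have h1 := hQ.inf_normalizer_sylow R
  have h2 : Q ≤ Subgroup.normalizer (R : Set G) := by
    intro t ht
    exact Subgroup.mem_normalizer_fintype (fun x hx => hn t ht x hx)
  intro t ht
  have h3 : t ∈ Q ⊓ Subgroup.normalizer (R : Set G) := ⟨ht, h2 ht⟩
  rw [h1] at h3
  exact h3.2

theorem exists_fixed_coset [Finite V] (h : Hyp E) (hW : ∃ b : V, b ∉ WS E) (P : Sylow p G) :
    ∃ b : V, b ∉ WS E ∧ ∀ x ∈ (P : Subgroup G), b⁻¹ * (x • b) ∈ WS E := by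
  haveI : MulAction.QuotientAction (P : Subgroup G) h.W := ⟨by
    intro x a a' ha
    show _ ∈ WS E
    have h1 : (x • a)⁻¹ * (x • a') = (x : G) • (a⁻¹ * a') := by
      rw [smul_mul', smul_inv']; rfl
    rw [h1]
    exact h.smul_mem _ ha⟩
  obtain ⟨k, hk⟩ := h.pV
  have hVp : IsPGroup p V := fun a => ⟨k, hk a⟩
  have hcard : p ∣ Nat.card (V ⧸ h.W) := by
    have h1 := hVp.to_quotient h.W
    obtain ⟨n, hn⟩ := IsPGroup.iff_card.1 h1
    rcases Nat.eq_zero_or_pos n with h0 | h0
    · exfalso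
      rw [h0, pow_zero] at hn
      obtain ⟨b, hb⟩ := hW
      apply hb
      have h2 : h.W.index = 1 := hn
      rw [Subgroup.index_eq_one] at h2
      rw [← h.mem_W, h2]
      trivial
    · rw [hn]; exact dvd_pow_self p h0.ne'
  have hfix : ((1 : V) : V ⧸ h.W) ∈ fixedPoints (P : Subgroup G) (V ⧸ h.W) := by
    intro x
    show (((x : G) • (1 : V) : V) : V ⧸ h.W) = _
    rw [smul_one]
  obtain ⟨c, hc, hne⟩ :=
    P.isPGroup'.exists_fixed_point_of_prime_dvd_card_of_fixed_point _ hcard hfix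
  obtain ⟨b, rfl⟩ := QuotientGroup.mk_surjective c
  refine ⟨b, ?_, ?_⟩
  · intro hb
    apply hne
    rw [QuotientGroup.eq, inv_one, one_mul]
    exact hb
  · intro x hx
    have h2 := hc ⟨x, hx⟩
    have h3 : ((x • b : V) : V ⧸ h.W) = (b : V ⧸ h.W) := h2
    exact QuotientGroup.eq.1 h3.symm

theorem exists_smul_P [Finite V] (h : Hyp E) (P : Sylow p G) {b : V} (hb : b ∉ WS E)
    (hcos : ∀ x ∈ (P : Subgroup G), b⁻¹ * (x • b) ∈ WS E) {w : V} (hw : w ∈ WS E) :
    ∃ x ∈ (P : Subgroup G), x • b = b * w := by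
  classical
  let S : Subgroup G :=
    { carrier := {g | b⁻¹ * (g • b) ∈ WS E}
      one_mem' := by
        show b⁻¹ * ((1 : G) • b) ∈ WS E
        rw [one_smul, inv_mul_cancel]; exact one_mem E
      mul_mem' := by
        intro x y hx hy
        have hx' : b⁻¹ * (x • b) ∈ WS E := hx
        have hy' : b⁻¹ * (y • b) ∈ WS E := hy
        show b⁻¹ * ((x * y) • b) ∈ WS E
        have h1 : b⁻¹ * ((x * y) • b) = (b⁻¹ * (x • b)) * (x • (b⁻¹ * (y • b))) := by
          rw [smul_mul', smul_inv', mul_smul]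
          group
        rw [h1]
        exact h.mul_mem hx' (h.smul_mem x hy')
      inv_mem' := by
        intro x hx
        have hx' : b⁻¹ * (x • b) ∈ WS E := hx
        show b⁻¹ * (x⁻¹ • b) ∈ WS E
        have h1 : b⁻¹ * (x⁻¹ • b) = (x⁻¹ • (b⁻¹ * (x • b)))⁻¹ := by
          rw [smul_mul', smul_inv', inv_smul_smul, mul_inv_rev, inv_inv]
        rw [h1]
        exact inv_mem E (h.smul_mem _ hx') }
  have hS : ∀ g : G, g ∈ S ↔ b⁻¹ * (g • b) ∈ WS E := fun g => Iff.rfl
  have hPS : (P : Subgroup G) ≤ S := hcos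
  have hA : ¬ p ∣ ((P : Subgroup G).subgroupOf S).index := by
    have h1 : ((P : Subgroup G).subgroupOf S).index = (P : Subgroup G).relIndex S := rfl
    rw [h1]
    exact fun h2 => P.not_dvd_index (h2.trans (Subgroup.relIndex_dvd_index_of_le hPS))
  have horb : orbit S b = (fun x : V => b * x) '' (WS E) := by
    ext v
    constructor
    · rintro ⟨g, rfl⟩
      refine ⟨b⁻¹ * ((g : G) • b), g.2, ?_⟩
      show b * (b⁻¹ * ((g : G) • b)) = (g : G) • b
      rw [mul_inv_cancel_left]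
    · rintro ⟨w, hw, rfl⟩
      obtain ⟨y, hy⟩ := h.exists_smul_eq hw hb 1
      rw [one_smul] at hy
      refine ⟨⟨y, ?_⟩, hy⟩
      rw [hS, hy, inv_mul_cancel_left]
      exact hw
  obtain ⟨k, hk⟩ := h.pV
  have hWp : IsPGroup p h.W := fun a => ⟨k, Subtype.ext (hk a)⟩
  obtain ⟨n, hn⟩ := IsPGroup.iff_card.1 hWp
  have hB : (stabilizer S b).index = p ^ n := by
    rw [index_stabilizer, horb, Set.ncard_image_of_injective _ (mul_right_injective b), ← hn]
    rfl
  have hcop : Nat.Coprime ((P : Subgroup G).subgroupOf S).index (stabilizer S b).index := by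
    rw [hB]
    exact Nat.Coprime.pow_right n ((Nat.Prime.coprime_iff_not_dvd hp.out).2 hA).symm
  obtain ⟨y, hy⟩ := h.exists_smul_eq hw hb 1
  rw [one_smul] at hy
  have hyS : y ∈ S := by
    rw [hS, hy, inv_mul_cancel_left]
    exact hw
  obtain ⟨a, ha, c, hc, hac⟩ := S0543.exists_mul_eq_of_coprime_index _ _ hcop ⟨y, hyS⟩
  refine ⟨a, ha, ?_⟩
  rw [← hy]
  have h1 : y = (a : G) * (c : G) := congrArg Subtype.val hac
  have h2 : (c : G) • b = b := hc
  rw [h1, mul_smul, h2]

/-- an element fixed by a Sylow subgroup lies in `W` -/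
theorem fixed_mem (h : Hyp E) (P : Sylow p G) (hW1 : ∃ a ∈ WS E, a ≠ 1) {b : V}
    (hb : ∀ x ∈ (P : Subgroup G), x • b = b) : b ∈ WS E := by
  by_contra hbW
  obtain ⟨a, ha, ha1⟩ := hW1
  have h1 := pow_eq_one_of_orbit (h.exists_smul_eq ha hbW)
  refine ha1 (h.eq_one ?_ h1)
  have h2 : (P : Subgroup G) ≤ stabilizer G b := hb
  exact fun h3 => P.not_dvd_index (h3.trans (Subgroup.index_dvd_of_le h2))

/-- **Normality of the Sylow subgroup.** -/
theorem sylow_normal [Finite V] (h : Hyp E) (hW : ∃ b : V, b ∉ WS E) (hW1 : ∃ a ∈ WS E, a ≠ 1)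
    (huniq : ∀ (R : Sylow p G) (a : V), a ∈ WS E → a ≠ 1 → (∀ x ∈ (R : Subgroup G), x • a = a) →
      ∀ t : G, t • a = a → ∀ x ∈ (R : Subgroup G), t * x * t⁻¹ ∈ (R : Subgroup G))
    (hcomm : ∀ (R : Sylow p G), ∀ x ∈ (R : Subgroup G), ∀ y ∈ (R : Subgroup G), ∀ b : V,
      x • y • b = y • x • b) (P : Sylow p G) : (P : Subgroup G).Normal := by
  obtain ⟨b, hb, hcos⟩ := h.exists_fixed_coset hW P
  obtain ⟨e, heP, he1⟩ : ∃ e, e ∈ E P ∧ e ≠ 1 := by
    obtain ⟨a, ⟨R, hR⟩, ha1⟩ := hW1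
    obtain ⟨g, rfl⟩ := MulAction.exists_smul_eq G R P
    refine ⟨g • a, h.conj g R a hR, fun h1 => ha1 ?_⟩
    rw [← inv_smul_smul g a, h1, smul_one]
  have heW : e ∈ WS E := ⟨P, heP⟩
  have hPe : ∀ y ∈ (P : Subgroup G), y • e = e := fun y hy => h.le P e heP hy
  obtain ⟨x, hxP, hx⟩ := h.exists_smul_P P hb hcos heW
  have hxw : ∀ w ∈ WS E, x • w = w := by
    intro w hw
    obtain ⟨y, hyP, hy⟩ := h.exists_smul_P P hb hcos hw
    have h1 := hcomm P x hxP y hyP b
    rw [hx, hy, smul_mul', smul_mul', hx, hy, hPe y hyP] at h1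
    -- b * e * x • w = b * w * e
    have h2 : b * e * (x • w) = b * e * w := by rw [h1, mul_right_comm]
    exact mul_left_cancel h2
  have key : ∀ t : G, t • b = b → ∀ z ∈ (P : Subgroup G), t * z * t⁻¹ ∈ (P : Subgroup G) := by
    intro t ht
    have hte : t • e ∈ E (t • P) := h.conj t P e heP
    have hteW : t • e ∈ WS E := ⟨_, hte⟩
    have hte1 : t • e ≠ 1 := by
      intro h1
      apply he1
      rw [← inv_smul_smul t e, h1, smul_one]
    have hP1e : ∀ y ∈ ((t • P : Sylow p G) : Subgroup G), y • (t • e) = t • e :=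
      fun y hy => h.le _ _ hte hy
    have hxP1 : x ∈ ((t • P : Sylow p G) : Subgroup G) := by
      have h1 : Subgroup.zpowers x ≤ ((t • P : Sylow p G) : Subgroup G) := by
        apply le_sylow_of_normalizes (P.isPGroup'.to_le (by rwa [Subgroup.zpowers_le]))
        intro s hs
        have h2 : s • (t • e) = t • e := by
          have h3 : Subgroup.zpowers x ≤ stabilizer G (t • e) := by
            rw [Subgroup.zpowers_le]; exact hxw _ hteW
          exact h3 hs
        exact huniq _ _ hteW hte1 hP1e s h2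
      exact h1 (Subgroup.mem_zpowers x)
    have hmem : ∀ y ∈ ((t • P : Sylow p G) : Subgroup G), ∃ y' ∈ (P : Subgroup G),
        y = t * y' * t⁻¹ := by
      intro y hy
      rw [Sylow.coe_subgroup_smul] at hy
      obtain ⟨y', hy', rfl⟩ := hy
      exact ⟨y', hy', rfl⟩
    have hye : ∀ y ∈ ((t • P : Sylow p G) : Subgroup G), y • e = e := by
      intro y hy
      obtain ⟨y', hy', hyy⟩ := hmem y hy
      have h1 : y • b = b * (t • (b⁻¹ * (y' • b))) := by
        rw [hyy, mul_smul, mul_smul, smul_mul', smul_inv', ht, mul_inv_cancel_left]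
        congr 2
        rw [inv_smul_eq_iff, ht]
      set w := t • (b⁻¹ * (y' • b)) with hw
      have hwW : w ∈ WS E := h.smul_mem t (hcos y' hy')
      have h2 := hcomm _ x hxP1 y hy b
      rw [hx, h1, smul_mul', smul_mul', hx, h1, hxw w hwW] at h2
      -- b * e * w = b * w * y • e
      have h3 : b * w * (y • e) = b * w * e := by rw [← h2, mul_right_comm]
      exact mul_left_cancel h3
    have hle : ((t • P : Sylow p G) : Subgroup G) ≤ (P : Subgroup G) := by
      apply le_sylow_of_normalizes (t • P).isPGroup'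
      intro s hs
      exact huniq P e heW he1 hPe s (hye s hs)
    intro z hz
    apply hle
    rw [Sylow.coe_subgroup_smul]
    exact ⟨z, hz, rfl⟩
  refine ⟨fun z hz g => ?_⟩
  obtain ⟨s, hs, t, ht, hst⟩ :=
    S0543.exists_mul_eq_of_coprime_index _ _ (h.cop e b heW he1 hb) g
  have h1 := key t ht z hz
  have h2 := huniq P e heW he1 hPe s hs _ h1
  have h3 : g * z * g⁻¹ = s * (t * z * t⁻¹) * s⁻¹ := by rw [hst]; group
  rw [h3]
  exact h2

/-- **Coprime action.** -/
theorem q_trivial [Finite V] (h : Hyp E) (hW : ∃ b : V, b ∉ WS E) (P : Sylow p G)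
    (hPW : ∀ x ∈ (P : Subgroup G), ∀ w ∈ WS E, x • w = w) (Q : Subgroup G)
    (hc : ∀ x ∈ (P : Subgroup G), ∀ y ∈ Q, ∀ b : V, x • y • b = y • x • b)
    (hfix : ∃ a ∈ WS E, a ≠ 1 ∧ ∀ y ∈ Q, y • a = a) (hQ : ¬ p ∣ Nat.card Q) :
    ∀ y ∈ Q, ∀ v : V, y • v = v := by
  classical
  letI := Fintype.ofFinite Q
  obtain ⟨a, haW, ha1, haQ⟩ := hfix
  let nm : V →* V :=
    { toFun := fun v => ∏ g : Q, (g : G) • v
      map_one' := by simp
      map_mul' := by
        intro v w
        simp only [smul_mul', Finset.prod_mul_distrib] }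
  have hnm : ∀ v, nm v = ∏ g : Q, (g : G) • v := fun v => rfl
  have hnm1 : ∀ y ∈ Q, ∀ v, y • nm v = nm v := by
    intro y hy v
    rw [hnm, Finset.smul_prod']
    refine Fintype.prod_equiv (Equiv.mulLeft (⟨y, hy⟩ : Q)) _ _ (fun g => ?_)
    rw [Equiv.coe_mulLeft, ← mul_smul]; rfl
  have hnm2 : ∀ y ∈ Q, ∀ v, nm (y • v) = nm v := by
    intro y hy v
    rw [hnm, hnm]
    refine Fintype.prod_equiv (Equiv.mulRight (⟨y, hy⟩ : Q)) _ _ (fun g => ?_)
    rw [Equiv.coe_mulRight, ← mul_smul]; rfl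
  have hnm3 : ∀ x ∈ (P : Subgroup G), ∀ v, nm (x • v) = x • nm v := by
    intro x hx v
    rw [hnm, hnm, Finset.smul_prod']
    refine Finset.prod_congr rfl (fun g _ => ?_)
    rw [hc x hx g g.2]
  have hnm4 : ∀ v, (∀ y ∈ Q, y • v = v) → nm v = v ^ Nat.card Q := by
    intro v hv
    rw [hnm, Finset.prod_congr rfl (fun (g : Q) _ => hv (g : G) g.2), Finset.prod_const,
      Finset.card_univ, Nat.card_eq_fintype_card]
  have hnmW : ∀ w ∈ WS E, nm w ∈ WS E := by
    intro w hw
    rw [hnm]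
    exact Subgroup.prod_mem h.W (fun g _ => h.smul_mem (g : G) hw)
  obtain ⟨b, hb, hcos⟩ := h.exists_fixed_coset hW P
  have hκ : nm b ∉ WS E := by
    intro hκ
    obtain ⟨x, hxP, hx⟩ := h.exists_smul_P P hb hcos haW
    have h1 := hnm3 x hxP b
    rw [hPW x hxP _ hκ, hx, map_mul, mul_eq_left, hnm4 a haQ] at h1
    exact ha1 (h.eq_one hQ h1)
  have hκcos : ∀ x ∈ (P : Subgroup G), (nm b)⁻¹ * (x • nm b) ∈ WS E := by
    intro x hx
    rw [← hnm3 x hx, ← map_inv, ← map_mul]
    exact hnmW _ (hcos x hx)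
  have hQW : ∀ y ∈ Q, ∀ w ∈ WS E, y • w = w := by
    intro y hy w hw
    obtain ⟨x, hxP, hx⟩ := h.exists_smul_P P hκ hκcos hw
    have h1 := hc x hxP y hy (nm b)
    rw [hnm1 y hy, hx, smul_mul', hnm1 y hy] at h1
    exact (mul_left_cancel h1).symm
  -- the kernel of the norm
  have hK : nm.ker = ⊥ := by
    by_contra hne
    letI : MulAction (P : Subgroup G) nm.ker :=
      { smul := fun x k => ⟨(x : G) • (k : V), by
          rw [MonoidHom.mem_ker, hnm3 x x.2, MonoidHom.mem_ker.1 k.2, smul_one]⟩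
        one_smul := fun k => Subtype.ext (one_smul G (k : V))
        mul_smul := fun x y k => Subtype.ext (mul_smul (x : G) (y : G) (k : V)) }
    obtain ⟨k, hk⟩ := h.pV
    have hKp : IsPGroup p nm.ker := fun a => ⟨k, Subtype.ext (hk a)⟩
    have hcard : p ∣ Nat.card nm.ker := by
      obtain ⟨n, hn⟩ := IsPGroup.iff_card.1 hKp
      rcases Nat.eq_zero_or_pos n with h0 | h0
      · exact absurd (Subgroup.card_eq_one.1 (by rw [hn, h0, pow_zero])) hne
      · rw [hn]; exact dvd_pow_self p h0.ne'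
    have hfix1 : (1 : nm.ker) ∈ fixedPoints (P : Subgroup G) nm.ker := by
      intro x
      exact Subtype.ext (smul_one (x : G))
    obtain ⟨c, hc', hne'⟩ :=
      P.isPGroup'.exists_fixed_point_of_prime_dvd_card_of_fixed_point _ hcard hfix1
    apply hne'
    have h1 : (c : V) ∈ WS E := h.fixed_mem P ⟨a, haW, ha1⟩ (fun x hx =>
      congrArg Subtype.val (hc' ⟨x, hx⟩))
    have h2 := hnm4 c (fun y hy => hQW y hy c h1)
    rw [MonoidHom.mem_ker.1 c.2] at h2
    exact (Subtype.ext (h.eq_one hQ h2.symm)).symm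
  intro y hy v
  have h1 : (y • v) * v⁻¹ ∈ nm.ker := by
    rw [MonoidHom.mem_ker, map_mul, map_inv, hnm2 y hy, mul_inv_cancel]
  rw [hK, Subgroup.mem_bot, mul_inv_eq_one] at h1
  exact h1

end Hyp

end str

end Cfsg.Agent.H673.Orb
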