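import Mathlib
import Cfsg.Agent.H673.Orb
import Cfsg.Agent.H673.InIM
import Cfsg.Agent.H673.Disc
import Cfsg.Agent.CharDeep.PowerDegrees
import Cfsg.Agent.H681.DegBasic
import Cfsg.Agent.S0169
import Cfsg.Agent.Characters.CCBasic
import Cfsg.Agent.H597.FrobC

/-!
# Disconnected relative degree graph, `N` an abelian normal `p`-subgroup
-/

set_option autoImplicit false
set_option linter.style.haveILetI false
set_option linter.unusedSectionVars false
open Cfsg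

namespace Cfsg.Agent.H673

open Cfsg.Agent.H672
open Cfsg.Agent.Characters.Core Cfsg.Agent.Characters.Clifford
open scoped ComplexConjugate

universe u v w

section

variable {G : Type u} [Group G] {N : Subgroup G} [hN : N.Normal]

/-- the action of `G` on the linear characters of `N` -/
@[reducible] def dualAct (N : Subgroup G) [N.Normal] : MulDistribMulAction G (N →* ℂˣ) where
  smul g l := l.comp (MulAut.conjNormal g⁻¹ : MulAut N).toMonoidHom
  one_smul l := by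
    ext n
    show ((l (MulAut.conjNormal (1 : G)⁻¹ n) : ℂˣ) : ℂ) = l n
    rw [inv_one, map_one]; rfl
  mul_smul g h l := by
    ext n
    show ((l (MulAut.conjNormal (g * h)⁻¹ n) : ℂˣ) : ℂ) =
      l (MulAut.conjNormal h⁻¹ (MulAut.conjNormal g⁻¹ n))
    rw [mul_inv_rev, map_mul]; rfl
  smul_one g := by ext n; rfl
  smul_mul g l m := by ext n; rfl

attribute [local instance] dualAct

theorem smul_apply (g : G) (l : N →* ℂˣ) (n : N) :
    (g • l) n = l (MulAut.conjNormal g⁻¹ n) := rfl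

theorem smul_eq_iff [Finite G] (g : G) (l : N →* ℂˣ) : g • l = l ↔ g ∈ inertia N (lf l) := by
  rw [← inv_mem_iff, mem_inertia_lf, MonoidHom.ext_iff]
  rfl

theorem stabilizer_eq [Finite G] (l : N →* ℂˣ) : MulAction.stabilizer G l = inertia N (lf l) := by
  ext g
  rw [MulAction.mem_stabilizer_iff, smul_eq_iff]

theorem smul_of_mem (hab : ∀ a b : N, a * b = b * a) {g : G} (hg : g ∈ N) (l : N →* ℂˣ) :
    g • l = l := by
  ext n
  rw [smul_apply]
  congr 2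
  apply Subtype.ext
  rw [MulAut.conjNormal_apply]
  have h1 := congrArg Subtype.val (hab n ⟨g, hg⟩)
  have h2 : (n : G) * g = g * n := h1
  rw [inv_inv, mul_assoc, h2, inv_mul_cancel_left]

end

section

variable {G : Type u} [Group G] [Finite G] {N : Subgroup G} [hN : N.Normal]
variable {p : ℕ} [hp : Fact p.Prime]

attribute [local instance] dualAct

/-- the linear characters of `N` which extend to `R` -/
def ER (hNp : IsPGroup p N) (R : Sylow p G) : Subgroup (N →* ℂˣ) where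
  carrier := {l | ∃ ν : (R : Subgroup G) →* ℂˣ, ∀ n : N, ν ⟨n, hNp.le_sylow_of_normal R n.2⟩ = l n}
  one_mem' := ⟨1, fun n => rfl⟩
  mul_mem' := by
    rintro a b ⟨ν, hν⟩ ⟨ν', hν'⟩
    exact ⟨ν * ν', fun n => by rw [MonoidHom.mul_apply, hν, hν', MonoidHom.mul_apply]⟩
  inv_mem' := by
    rintro a ⟨ν, hν⟩
    exact ⟨ν⁻¹, fun n => by rw [MonoidHom.inv_apply, hν, MonoidHom.inv_apply]⟩

theorem mem_ER (hNp : IsPGroup p N) (R : Sylow p G) (l : N →* ℂˣ) :
    l ∈ ER hNp R ↔ ∃ ν : (R : Subgroup G) →* ℂˣ,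
      ∀ n : N, ν ⟨n, hNp.le_sylow_of_normal R n.2⟩ = l n := Iff.rfl

theorem mem_ER_iff (hNp : IsPGroup p N) (R : Sylow p G) (l : N →* ℂˣ) :
    l ∈ ER hNp R ↔ ∃ ν : (N ⊔ (R : Subgroup G) : Subgroup G) →* ℂˣ,
      ∀ n : N, ν (inclK N R n) = l n := by
  have hle := hNp.le_sylow_of_normal R
  constructor
  · rintro ⟨ν, hν⟩
    refine ⟨ν.comp (Subgroup.inclusion (sup_le hle le_rfl)), fun n => ?_⟩
    exact hν n
  · rintro ⟨ν, hν⟩
    refine ⟨ν.comp (Subgroup.inclusion le_sup_right), fun n => ?_⟩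
    exact hν n

theorem exists_pow_pV (hNp : IsPGroup p N) : ∃ k : ℕ, ∀ (l : N →* ℂˣ) (n : N), l n ^ p ^ k = 1 := by
  obtain ⟨k, hk⟩ := IsPGroup.iff_card.1 hNp
  refine ⟨k, fun l n => ?_⟩
  rw [← hk, ← map_pow, pow_card_eq_one', map_one]

theorem finite_dual (N : Subgroup G) : Finite (N →* ℂˣ) := by
  apply Nat.finite_of_card_ne_zero
  rw [Characters.Linear.card_hom_eq_index_commutator]
  exact Subgroup.index_ne_zero_of_finite

/-- two linear constituents of an irreducible character are conjugate -/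
theorem exists_smul_of_over {χ : G → ℂ} (hχ : IsIrrCharacter G χ) {a b : N →* ℂˣ}
    (ha : Over N.subtype χ (lf a)) (hb : Over N.subtype χ (lf b)) : ∃ g : G, b = g • a := by
  classical
  letI := Fintype.ofFinite G
  letI := Fintype.ofFinite N
  obtain ⟨x, hx⟩ := exists_conj_of_constituents N hχ (isIrr_lf a) (isIrr_lf b)
    ((over_subtype_iff N χ _).1 ha) ((over_subtype_iff N χ _).1 hb)
  refine ⟨x⁻¹, MonoidHom.ext fun n => Units.ext ?_⟩
  have := congrFun hx n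
  rw [smul_apply, inv_inv]
  exact this

/-- The hypotheses: `N` an abelian normal `p`-subgroup of `G` contained in `G'`, and the degrees
divisible by `p` are prime to the others. -/
structure Dat (p : ℕ) (N : Subgroup G) [N.Normal] : Prop where
  hNp : IsPGroup p N
  hab : ∀ a b : N, a * b = b * a
  hNG : N ≤ commutator G
  cop : ∀ a ∈ relCharDegrees N, ∀ b ∈ relCharDegrees N, ¬ p ∣ a → p ∣ b → Nat.Coprime a b
  exa : ∃ a ∈ relCharDegrees N, ¬ p ∣ a
  exb : ∃ b ∈ relCharDegrees N, p ∣ b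

namespace Dat

variable (h : Dat p N)
include h

theorem degree_one {θ : N → ℂ} (hθ : IsIrrCharacter N θ) : ∃ l : N →* ℂˣ, θ = lf l :=
  Characters.CCBasic.exists_hom_of_comm h.hab hθ

theorem index_mem {R : Sylow p G} {l : N →* ℂˣ} (hl : l ∈ ER h.hNp R) (hl1 : l ≠ 1) :
    (inertia N (lf l)).index ∈ relCharDegrees N ∧ ¬ p ∣ (inertia N (lf l)).index := by
  obtain ⟨ν, hν⟩ := (mem_ER_iff h.hNp R l).1 hl
  obtain ⟨k, hk⟩ := exists_pow_pV h.hNp
  refine ⟨(caseI h.hNG R hl1 (hk l) ν hν).1, fun hdvd => ?_⟩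
  have hKT : N ⊔ (R : Subgroup G) ≤ inertia N (lf l) := by
    refine le_inertia_of_extends (isIrr_isClassFunction (isIrr_lf ν)) ?_
    funext n
    exact congrArg _ (hν n)
  exact R.not_dvd_index (hdvd.trans (Subgroup.index_dvd_of_le (le_sup_right.trans hKT)))

/-- characters over an extendible character have degree prime to `p` -/
theorem not_dvd {l : N →* ℂˣ} (hl : l ∈ Orb.WS (ER h.hNp)) (hl1 : l ≠ 1) {χ : G → ℂ}
    (hχ : IsIrrCharacter G χ) (ho : Over N.subtype χ (lf l)) : ¬ p ∣ charDegree χ := by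
  obtain ⟨R, hR⟩ := hl
  intro hdvd
  obtain ⟨h1, h2⟩ := h.index_mem hR hl1
  have h3 := mem_relCharDegrees_of_over N hχ (isIrr_lf l) ho (lf_ne_one hl1)
  have h4 := h.cop _ h1 _ h3 h2 hdvd
  have h5 := index_dvd_of_over hχ (isIrr_lf l) ho
  have h6 := Nat.eq_one_of_dvd_coprimes h4 dvd_rfl h5
  have h7 := one_lt_of_mem_rel h.hNG h1
  omega

/-- a character of degree prime to `p` lies over an extendible character -/
theorem exists_of_not_dvd (P : Sylow p G) {χ : G → ℂ} (hχ : IsIrrCharacter G χ)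
    (hd : ¬ p ∣ charDegree χ) : ∃ l : N →* ℂˣ, l ∈ ER h.hNp P ∧ Over N.subtype χ (lf l) := by
  obtain ⟨θ, hθ, ho, ξ, hξ, he⟩ := exists_extendible N P hχ hd
  obtain ⟨l, rfl⟩ := h.degree_one hθ
  have hξ1 : charDegree ξ = 1 := by
    rw [← charDegree_comp_one (inclK N (P : Subgroup G)), he, charDegree_lf]
  obtain ⟨ν, rfl⟩ := exists_hom_of_degree_one hξ hξ1
  refine ⟨l, (mem_ER_iff h.hNp P l).2 ⟨ν, fun n => Units.ext ?_⟩, ho⟩
  exact congrFun he n

theorem dvd {b : N →* ℂˣ} (hb : b ∉ Orb.WS (ER h.hNp)) {χ : G → ℂ}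
    (hχ : IsIrrCharacter G χ) (ho : Over N.subtype χ (lf b))
    (hconj : ∀ (g : G) (R : Sylow p G) (a : N →* ℂˣ), a ∈ ER h.hNp R → g • a ∈ ER h.hNp (g • R)) :
    p ∣ charDegree χ := by
  by_contra hd
  obtain ⟨P⟩ : Nonempty (Sylow p G) := inferInstance
  obtain ⟨l, hl, hol⟩ := h.exists_of_not_dvd P hχ hd
  obtain ⟨g, rfl⟩ := exists_smul_of_over hχ hol ho
  exact hb ⟨_, hconj g P l hl⟩

end Dat

theorem ER_conj (hNp : IsPGroup p N) (g : G) (R : Sylow p G) (a : N →* ℂˣ) (ha : a ∈ ER hNp R) :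
    g • a ∈ ER hNp (g • R) := by
  obtain ⟨ν, hν⟩ := ha
  have hmem : ∀ y : ((g • R : Sylow p G) : Subgroup G), g⁻¹ * (y : G) * g ∈ (R : Subgroup G) := by
    rintro ⟨y, hy⟩
    rw [Sylow.coe_subgroup_smul] at hy
    obtain ⟨z, hz, hzy⟩ := hy
    have h1 : g * z * g⁻¹ = y := hzy
    show g⁻¹ * y * g ∈ _
    rw [← h1]
    have h2 : g⁻¹ * (g * z * g⁻¹) * g = z := by group
    rw [h2]
    exact hz
  let f : ((g • R : Sylow p G) : Subgroup G) →* (R : Subgroup G) :=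
    { toFun := fun y => ⟨g⁻¹ * (y : G) * g, hmem y⟩
      map_one' := by
        apply Subtype.ext
        show g⁻¹ * 1 * g = 1
        group
      map_mul' := by
        intro x y
        apply Subtype.ext
        show g⁻¹ * ((x : G) * y) * g = (g⁻¹ * x * g) * (g⁻¹ * y * g)
        group }
  refine ⟨ν.comp f, fun n => ?_⟩
  rw [smul_apply, ← hν]
  rw [MonoidHom.comp_apply]
  congr 1
  apply Subtype.ext
  show g⁻¹ * (n : G) * g = _
  rw [MulAut.conjNormal_apply, inv_inv]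

/-- the hypotheses on orbits hold -/
theorem Dat.hyp (h : Dat p N) : Orb.Hyp (G := G) (ER h.hNp) := by
  refine ⟨?_, ER_conj h.hNp, ?_, ?_, ?_, ?_⟩
  · obtain ⟨k, hk⟩ := exists_pow_pV h.hNp
    exact ⟨k, fun l => MonoidHom.ext (hk l)⟩
  · intro R l hl hl1
    rw [stabilizer_eq]
    obtain ⟨ν, hν⟩ := (mem_ER_iff h.hNp R l).1 hl
    obtain ⟨k, hk⟩ := exists_pow_pV h.hNp
    exact inertia_ne_top h.hNG R hl1 (hk l) ν hν
  · intro R l hl
    rw [stabilizer_eq]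
    obtain ⟨ν, hν⟩ := (mem_ER_iff h.hNp R l).1 hl
    have hKT : N ⊔ (R : Subgroup G) ≤ inertia N (lf l) := by
      refine le_inertia_of_extends (isIrr_isClassFunction (isIrr_lf ν)) ?_
      funext n
      exact congrArg _ (hν n)
    exact le_sup_right.trans hKT
  · intro R l hl hR
    by_cases hl1 : l = 1
    · rw [hl1]; exact (ER h.hNp R).one_mem
    rw [stabilizer_eq] at hR
    obtain ⟨ψ, hψ, ho⟩ := exists_over N _ (isIrr_lf l)
    obtain ⟨ξ, hξ, he⟩ := extends_of_invariant N R (isIrr_lf l) hR hψ ho (h.not_dvd hl hl1 hψ ho)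
    have hξ1 : charDegree ξ = 1 := by
      rw [← charDegree_comp_one (inclK N (R : Subgroup G)), he, charDegree_lf]
    obtain ⟨ν, rfl⟩ := exists_hom_of_degree_one hξ hξ1
    exact (mem_ER_iff h.hNp R l).2 ⟨ν, fun n => Units.ext (congrFun he n)⟩
  · intro a b ha ha1 hb
    rw [stabilizer_eq, stabilizer_eq]
    obtain ⟨R, hR⟩ := id ha
    obtain ⟨h1, h2⟩ := h.index_mem hR ha1
    obtain ⟨ψ, hψ, ho⟩ := exists_over N _ (isIrr_lf b)
    have hb1 : b ≠ 1 := by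
      rintro rfl
      exact hb (Orb.Hyp.one_mem _)
    have h3 := mem_relCharDegrees_of_over N hψ (isIrr_lf b) ho (lf_ne_one hb1)
    have h4 := h.cop _ h1 _ h3 h2 (h.dvd hb hψ ho (ER_conj h.hNp))
    exact h4.coprime_dvd_right (index_dvd_of_over hψ (isIrr_lf b) ho)

/-! ### Consequences -/

theorem charDegree_dvd_index {A : Subgroup G} [A.Normal] (hA : ∀ a ∈ A, ∀ b ∈ A, a * b = b * a)
    {χ : G → ℂ} (hχ : IsIrrCharacter G χ) : charDegree χ ∣ A.index := by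
  obtain ⟨d, ρ, hρ, rfl⟩ := hχ
  have hdvd := Cfsg.Agent.S0169.result ρ A hA
  have h2 : charDegree ρ.character = d := by
    apply charDegree_of_eq
    rw [Representation.char_one]
    simp
  rw [Module.finrank_fin_fun] at hdvd
  rwa [h2]

namespace Dat

variable (h : Dat p N)
include h

theorem exists_W : ∃ a ∈ Orb.WS (ER h.hNp), a ≠ 1 := by
  obtain ⟨P⟩ : Nonempty (Sylow p G) := inferInstance
  obtain ⟨_, ⟨⟨χ, hχ⟩, hk, rfl⟩, hd⟩ := h.exa
  dsimp only at hk hd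
  obtain ⟨l, hl, ho⟩ := h.exists_of_not_dvd P hχ hd
  refine ⟨l, ⟨P, hl⟩, ?_⟩
  rintro rfl
  exact ne_one_of_over N hχ hk (isIrr_lf _) ho lf_one

theorem exists_notW : ∃ b : N →* ℂˣ, b ∉ Orb.WS (ER h.hNp) := by
  obtain ⟨_, ⟨⟨χ, hχ⟩, hk, rfl⟩, hd⟩ := h.exb
  dsimp only at hk hd
  obtain ⟨θ, hθ, ho⟩ := exists_under (f := N.subtype) hχ
  obtain ⟨l, rfl⟩ := h.degree_one hθ
  refine ⟨l, fun hl => ?_⟩
  have hl1 : l ≠ 1 := by
    rintro rfl
    exact ne_one_of_over N hχ hk (isIrr_lf _) ho lf_one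
  exact h.not_dvd hl hl1 hχ ho hd

/-- extension to the inertia group -/
theorem exists_ext {l : N →* ℂˣ} (hl : l ∈ Orb.WS (ER h.hNp)) :
    ∃ (hNT : N ≤ inertia N (lf l)) (F : inertia N (lf l) →* ℂˣ), ∀ n : N, F ⟨n, hNT n.2⟩ = l n := by
  obtain ⟨R, hR⟩ := hl
  obtain ⟨ν, hν⟩ := (mem_ER_iff h.hNp R l).1 hR
  obtain ⟨k, hk⟩ := exists_pow_pV h.hNp
  have hKT : N ⊔ (R : Subgroup G) ≤ inertia N (lf l) := by
    refine le_inertia_of_extends (isIrr_isClassFunction (isIrr_lf ν)) ?_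
    funext n
    exact congrArg _ (hν n)
  obtain ⟨m, hm⟩ := lin_extends_to N R (N ⊔ (R : Subgroup G)) (inertia N (lf l)) le_sup_left
    le_sup_right hKT l (hk l) le_rfl ν hν
  exact ⟨le_sup_left.trans hKT, m, hm⟩

theorem inertia_pair {r : ℕ} [hr : Fact r.Prime] {l : N →* ℂˣ} (hl : l ∈ Orb.WS (ER h.hNp))
    (hdeg : ∀ χ : G → ℂ, IsIrrCharacter G χ → Over N.subtype χ (lf l) → ¬ r ∣ charDegree χ)
    (hIM : ∀ T : Subgroup G, N ≤ T → H670.PSing.IM r (T ⧸ N.subgroupOf T))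
    (Q : Sylow r G) (hQT : (Q : Subgroup G) ≤ inertia N (lf l)) :
    (∀ t ∈ inertia N (lf l), ∀ x ∈ (Q : Subgroup G), t * x * t⁻¹ ∈ N ⊔ (Q : Subgroup G)) ∧
    (∀ x ∈ (Q : Subgroup G), ∀ y ∈ (Q : Subgroup G), x * y * x⁻¹ * y⁻¹ ∈ N) := by
  obtain ⟨hNT, F, hF⟩ := h.exists_ext hl
  exact inertia_IM l _ rfl hNT F hF hdeg (hIM _ hNT) Q hQT

theorem comm_mem (hIM : ∀ T : Subgroup G, N ≤ T → H670.PSing.IM p (T ⧸ N.subgroupOf T))
    (R : Sylow p G) : ∀ x ∈ (R : Subgroup G), ∀ y ∈ (R : Subgroup G), x * y * x⁻¹ * y⁻¹ ∈ N := by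
  obtain ⟨a, ⟨R', hR'⟩, ha1⟩ := h.exists_W
  obtain ⟨g, rfl⟩ := MulAction.exists_smul_eq G R' R
  have h1 := h.hyp.conj g R' a hR'
  have h2 : g • a ≠ 1 := by
    intro h1
    apply ha1
    rw [← inv_smul_smul g a, h1]
    exact MonoidHom.ext fun n => rfl
  refine (h.inertia_pair ⟨_, h1⟩ (fun χ hχ ho => h.not_dvd ⟨_, h1⟩ h2 hχ ho) hIM (g • R') ?_).2
  rw [← stabilizer_eq]
  exact h.hyp.le _ _ h1

theorem sylow_normal (hIM : ∀ T : Subgroup G, N ≤ T → H670.PSing.IM p (T ⧸ N.subgroupOf T))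
    (P : Sylow p G) : (P : Subgroup G).Normal := by
  haveI := finite_dual N
  refine h.hyp.sylow_normal h.exists_notW h.exists_W ?_ ?_ P
  · intro R a ha ha1 hRa t ht x hx
    have hRT : (R : Subgroup G) ≤ inertia N (lf a) := fun y hy => (smul_eq_iff y a).1 (hRa y hy)
    have h1 := (h.inertia_pair ha (fun χ hχ ho => h.not_dvd ha ha1 hχ ho) hIM R hRT).1 t
      ((smul_eq_iff t a).1 ht) x hx
    rwa [sup_eq_right.2 (h.hNp.le_sylow_of_normal R)] at h1
  · intro R x hx y hy b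
    have h1 := h.comm_mem hIM R x hx y hy
    have h2 := smul_of_mem h.hab h1 (y • x • b)
    rw [← mul_smul, ← mul_smul] at h2
    have h3 : x * y * x⁻¹ * y⁻¹ * y * x = x * y := by group
    rw [h3, mul_smul] at h2
    exact h2

theorem fix_W (P : Sylow p G) (hP : (P : Subgroup G).Normal) : ∀ x ∈ (P : Subgroup G),
    ∀ w ∈ Orb.WS (ER h.hNp), x • w = w := by
  rintro x hx w ⟨R, hR⟩
  obtain ⟨g, hg⟩ := MulAction.exists_smul_eq G P R
  have h1 : (R : Subgroup G) = (P : Subgroup G) := by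
    rw [← hg, Sylow.coe_subgroup_smul]
    exact hP.conj_smul_eq_self g
  exact h.hyp.le R w hR (h1 ▸ hx)

end Dat

theorem exists_dual_ne {A : Type v} [Group A] [Finite A] (hab : ∀ a b : A, a * b = b * a) {a : A}
    (ha : a ≠ 1) : ∃ f : A →* ℂˣ, f a ≠ 1 := by
  letI : CommGroup A := { (inferInstance : Group A) with mul_comm := hab }
  obtain ⟨f, hf⟩ := CommGroup.exists_apply_ne_one_of_hasEnoughRootsOfUnity A ℂ ha
  exact ⟨f, hf⟩

theorem exists_dual_ext {A : Type v} [Group A] [Finite A] (hab : ∀ a b : A, a * b = b * a)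
    (B : Subgroup A) (f : B →* ℂˣ) : ∃ F : A →* ℂˣ, ∀ b : B, F b = f b := by
  letI : CommGroup A := { (inferInstance : Group A) with mul_comm := hab }
  obtain ⟨F, hF⟩ := MonoidHom.domRestrict_surjective (G := A) (M := ℂ) B f
  exact ⟨F, fun b => by rw [← hF]; rfl⟩

theorem disjoint_sylow {q : ℕ} [hq : Fact q.Prime] (hqp : q ≠ p) (P : Sylow p G) (Q : Sylow q G)
    {x : G} (h1 : x ∈ (P : Subgroup G)) (h2 : x ∈ (Q : Subgroup G)) : x = 1 := by
  have h3 : (P : Subgroup G) ⊓ (Q : Subgroup G) = ⊥ := by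
    rw [← disjoint_iff]
    apply Subgroup.disjoint_of_coprime_natCard
    obtain ⟨a, ha⟩ := IsPGroup.iff_card.1 P.isPGroup'
    obtain ⟨b, hb⟩ := IsPGroup.iff_card.1 Q.isPGroup'
    rw [ha, hb]
    exact Nat.Coprime.pow _ _ ((Nat.coprime_primes hp.out hq.out).2 hqp.symm)
  have h4 : x ∈ (P : Subgroup G) ⊓ (Q : Subgroup G) := ⟨h1, h2⟩
  rwa [h3, Subgroup.mem_bot] at h4

namespace Dat

variable (h : Dat p N)
include h

theorem eq_of_prime_dvd (hIM : ∀ (r : ℕ) [Fact r.Prime] (T : Subgroup G), N ≤ T →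
    H670.PSing.IM r (T ⧸ N.subgroupOf T)) (P : Sylow p G) {d : ℕ} (hd : d ∈ relCharDegrees N)
    (hpd : p ∣ d) {q : ℕ} (hq : q.Prime) (hqd : q ∣ d) : q = p := by
  by_contra hqp
  haveI : Fact q.Prime := ⟨hq⟩
  have hPn := h.sylow_normal (hIM p) P
  have hqa : ∀ a ∈ relCharDegrees N, ¬ p ∣ a → ¬ q ∣ a := fun a ha hpa hqa =>
    hq.one_lt.ne' (Nat.eq_one_of_dvd_coprimes (h.cop a ha d hd hpa hpd) hqa hqd)
  obtain ⟨l, hl, hl1⟩ := h.exists_W
  have hdeg : ∀ χ : G → ℂ, IsIrrCharacter G χ → Over N.subtype χ (lf l) → ¬ q ∣ charDegree χ :=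
    fun χ hχ ho => hqa _ (mem_relCharDegrees_of_over N hχ (isIrr_lf l) ho (lf_ne_one hl1))
      (h.not_dvd hl hl1 hχ ho)
  obtain ⟨χ0, hχ0, ho0⟩ := exists_over N _ (isIrr_lf l)
  have hqi : ¬ q ∣ (inertia N (lf l)).index := fun h' =>
    hdeg χ0 hχ0 ho0 (h'.trans (index_dvd_of_over hχ0 (isIrr_lf l) ho0))
  obtain ⟨Q, hQ⟩ := exists_sylow_le (inertia N (lf l)) hqi
  obtain ⟨hQ1, hQ2⟩ := h.inertia_pair hl hdeg (hIM q) Q hQ
  have hNP := h.hNp.le_sylow_of_normal P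
  have hPT : (P : Subgroup G) ≤ inertia N (lf l) := fun x hx =>
    (smul_eq_iff x l).1 (h.fix_W P hPn x hx l hl)
  have hPQ : ∀ x ∈ (P : Subgroup G), ∀ y ∈ (Q : Subgroup G), x * y * x⁻¹ * y⁻¹ ∈ N := by
    intro x hx y hy
    have h1 := hQ1 x (hPT hx) y hy
    have h2 : x * y * x⁻¹ * y⁻¹ ∈ N ⊔ (Q : Subgroup G) :=
      mul_mem h1 (Subgroup.mem_sup_right (inv_mem hy))
    have h3 : x * y * x⁻¹ * y⁻¹ ∈ (P : Subgroup G) := by
      have h4 : x * y * x⁻¹ * y⁻¹ = x * (y * x⁻¹ * y⁻¹) := by group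
      rw [h4]
      exact mul_mem hx (hPn.conj_mem _ (inv_mem hx) y)
    obtain ⟨n, hn, z, hz, hnz⟩ := Subgroup.mem_sup_of_normal_left.1 h2
    have h5 : z = n⁻¹ * (x * y * x⁻¹ * y⁻¹) := by rw [← hnz]; group
    have h6 : z ∈ (P : Subgroup G) := by
      rw [h5]; exact mul_mem (inv_mem (hNP hn)) h3
    have h7 := disjoint_sylow hqp P Q h6 hz
    rw [← hnz, h7, mul_one]
    exact hn
  haveI := finite_dual N
  have hcardQ : ¬ p ∣ Nat.card (Q : Subgroup G) := by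
    obtain ⟨b, hb⟩ := IsPGroup.iff_card.1 Q.isPGroup'
    rw [hb]
    intro h1
    exact hqp ((Nat.prime_dvd_prime_iff_eq hp.out hq).1 (hp.out.dvd_of_dvd_pow h1)).symm
  have hQV : ∀ y ∈ (Q : Subgroup G), ∀ v : N →* ℂˣ, y • v = v := by
    refine h.hyp.q_trivial h.exists_notW P (h.fix_W P hPn) Q ?_
      ⟨l, hl, hl1, fun y hy => (smul_eq_iff y l).2 (hQ hy)⟩ hcardQ
    intro x hx y hy b
    have h1 := hPQ x hx y hy
    have h2 := smul_of_mem h.hab h1 (y • x • b)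
    rw [← mul_smul, ← mul_smul] at h2
    have h3 : x * y * x⁻¹ * y⁻¹ * y * x = x * y := by group
    rw [h3, mul_smul] at h2
    exact h2
  -- `Q` centralises `N`
  have hQN : ∀ y ∈ (Q : Subgroup G), ∀ n ∈ N, n * y = y * n := by
    intro y hy n hn
    by_contra hne
    have hm : MulAut.conjNormal y⁻¹ (⟨n, hn⟩ : N) * (⟨n, hn⟩ : N)⁻¹ ≠ 1 := by
      intro h1
      rw [mul_inv_eq_one] at h1
      apply hne
      have h2 := congrArg Subtype.val h1
      rw [MulAut.conjNormal_apply, inv_inv] at h2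
      have h3 : y⁻¹ * n * y = n := h2
      calc n * y = y * (y⁻¹ * n * y) := by group
        _ = y * n := by rw [h3]
    obtain ⟨v, hv⟩ := exists_dual_ne h.hab hm
    apply hv
    have e : v (MulAut.conjNormal y⁻¹ (⟨n, hn⟩ : N)) = v ⟨n, hn⟩ :=
      DFunLike.congr_fun (hQV y hy v) ⟨n, hn⟩
    rw [map_mul, e, ← map_mul, mul_inv_cancel, map_one]
  have hQab : ∀ x ∈ (Q : Subgroup G), ∀ y ∈ (Q : Subgroup G), x * y = y * x := by
    intro x hx y hy
    have h1 := hQ2 x hx y hy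
    have h2 : x * y * x⁻¹ * y⁻¹ ∈ (Q : Subgroup G) :=
      mul_mem (mul_mem (mul_mem hx hy) (inv_mem hx)) (inv_mem hy)
    have h3 := disjoint_sylow hqp P Q (hNP h1) h2
    calc x * y = (x * y * x⁻¹ * y⁻¹) * (y * x) := by group
      _ = y * x := by rw [h3, one_mul]
  -- `N ⊔ Q` is normal
  have hQle : ∀ g : G, ∀ x ∈ (Q : Subgroup G), g * x * g⁻¹ ∈ N ⊔ (Q : Subgroup G) := by
    intro g x hx
    have hg : ((g • Q : Sylow q G) : Subgroup G) ≤ inertia N (lf l) := by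
      intro z hz
      rw [Sylow.coe_subgroup_smul] at hz
      obtain ⟨y, hy, hyz⟩ := hz
      have h1 : g * y * g⁻¹ = z := hyz
      rw [← smul_eq_iff, ← h1, mul_smul, mul_smul, hQV y hy, smul_inv_smul]
    obtain ⟨t, ht⟩ := MulAction.exists_smul_eq (inertia N (lf l)) (Q.subtype hQ)
      ((g • Q : Sylow q G).subtype hg)
    have h1 : g * x * g⁻¹ ∈ ((g • Q : Sylow q G) : Subgroup G) := by
      rw [Sylow.coe_subgroup_smul]
      exact ⟨x, hx, rfl⟩
    have h2 : (⟨g * x * g⁻¹, hg h1⟩ : inertia N (lf l)) ∈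
        (((g • Q : Sylow q G).subtype hg : Sylow q (inertia N (lf l))) :
          Subgroup (inertia N (lf l))) := h1
    rw [← ht, Sylow.coe_subgroup_smul] at h2
    obtain ⟨y, hy, hyx⟩ := h2
    have h3 : (t : G) * y * (t : G)⁻¹ = g * x * g⁻¹ := congrArg Subtype.val hyx
    rw [← h3]
    exact hQ1 t t.2 y hy
  have hMn : (N ⊔ (Q : Subgroup G)).Normal := by
    refine ⟨fun x hx g => ?_⟩
    obtain ⟨n, hn, z, hz, rfl⟩ := Subgroup.mem_sup_of_normal_left.1 hx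
    have h1 : g * (n * z) * g⁻¹ = (g * n * g⁻¹) * (g * z * g⁻¹) := by group
    rw [h1]
    exact mul_mem (Subgroup.mem_sup_left (hN.conj_mem n hn g)) (hQle g z hz)
  have hMab : ∀ a ∈ N ⊔ (Q : Subgroup G), ∀ b ∈ N ⊔ (Q : Subgroup G), a * b = b * a := by
    intro a ha b hb
    obtain ⟨n, hn, z, hz, rfl⟩ := Subgroup.mem_sup_of_normal_left.1 ha
    obtain ⟨m, hm, w, hw, rfl⟩ := Subgroup.mem_sup_of_normal_left.1 hb
    have e1 : n * m = m * n := congrArg Subtype.val (h.hab ⟨n, hn⟩ ⟨m, hm⟩)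
    calc n * z * (m * w) = n * (z * m) * w := by group
      _ = n * (m * z) * w := by rw [hQN z hz m hm]
      _ = (n * m) * (z * w) := by group
      _ = (m * n) * (w * z) := by rw [e1, hQab z hz w hw]
      _ = m * (n * w) * z := by group
      _ = m * (w * n) * z := by rw [hQN w hw n hn]
      _ = m * w * (n * z) := by group
  obtain ⟨⟨χ, hχ⟩, -, rfl⟩ := hd
  have h1 := charDegree_dvd_index hMab hχ
  exact Q.not_dvd_index ((hqd.trans h1).trans (Subgroup.index_dvd_of_le le_sup_right))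

theorem exists_pow (hIM : ∀ (r : ℕ) [Fact r.Prime] (T : Subgroup G), N ≤ T →
    H670.PSing.IM r (T ⧸ N.subgroupOf T)) (P : Sylow p G) {d : ℕ} (hd : d ∈ relCharDegrees N)
    (hpd : p ∣ d) : ∃ k : ℕ, d = p ^ k :=
  ⟨_, Nat.eq_prime_pow_of_unique_prime_dvd (relCharDegrees_pos hd).ne'
    (fun hq hqd => h.eq_of_prime_dvd hIM P hd hpd hq hqd)⟩

end Dat

end

end Cfsg.Agent.H673
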