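import Mathlib
import Cfsg.Agent.H673.DiscAb

/-!
# Disconnected relative degree graph, `N` an abelian normal `p`-subgroup: the theorem
-/

set_option autoImplicit false
set_option linter.style.haveILetI false
set_option linter.unusedSectionVars false
open Cfsg

namespace Cfsg.Agent.H673

open Cfsg.Agent.H672
open Cfsg.Agent.Characters.Core Cfsg.Agent.Characters.Clifford
open scoped ComplexConjugate commutatorElement

universe u v w

variable {G : Type u} [Group G] [Finite G] {N : Subgroup G} [hN : N.Normal]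
variable {p : ℕ} [hp : Fact p.Prime]

attribute [local instance] dualAct

/-- the degree of a product over a linear character -/
theorem over_mul_of_ker {χ β : G → ℂ} {l : N →* ℂˣ} (ho : Over N.subtype χ (lf l))
    (hβ : IsIrrCharacter G β) (hker : ∀ n ∈ N, β n = β 1) : Over N.subtype (β * χ) (lf l) := by
  classical
  letI := Fintype.ofFinite N
  rw [over_iff] at ho ⊢
  have e : (β * χ) ∘ N.subtype = β 1 • (χ ∘ N.subtype) := by
    funext n
    show β n * χ n = β 1 * χ n
    rw [hker n n.2]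
  rw [e, classInner_smul_left]
  exact mul_ne_zero (isIrr_apply_one_ne_zero hβ) ho

namespace Dat

variable (h : Dat p N)
include h

theorem commutator_le (hIM : ∀ (r : ℕ) [Fact r.Prime] (T : Subgroup G), N ≤ T →
    H670.PSing.IM r (T ⧸ N.subgroupOf T)) (P : Sylow p G) :
    commutator G ≤ (P : Subgroup G) := by
  classical
  letI := Fintype.ofFinite G
  letI := Fintype.ofFinite (P : Subgroup G)
  have hPn := h.sylow_normal (hIM p) P
  have hNP := h.hNp.le_sylow_of_normal P
  obtain ⟨b, hb⟩ := h.exists_notW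
  have hb1 : b ≠ 1 := by
    rintro rfl
    exact hb (Orb.Hyp.one_mem _)
  obtain ⟨χ, hχ, ho⟩ := exists_over N _ (isIrr_lf b)
  have hpow : ∀ ψ : G → ℂ, IsIrrCharacter G ψ → Over N.subtype ψ (lf b) →
      ∃ k : ℕ, charDegree ψ = p ^ k := fun ψ hψ hψo =>
    h.exists_pow hIM P (mem_relCharDegrees_of_over N hψ (isIrr_lf b) hψo (lf_ne_one hb1))
      (h.dvd hb hψ hψo (ER_conj h.hNp))
  obtain ⟨k, hk⟩ := hpow χ hχ ho
  -- the restriction to `P` is irreducible
  obtain ⟨θ, hθ, hoθ⟩ := exists_under (f := (P : Subgroup G).subtype) hχ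
  obtain ⟨h1, h2⟩ := charDegree_dvd_of_over (P : Subgroup G) hχ hθ hoθ
  have hpi := P.not_dvd_index
  have hdeg : charDegree θ = charDegree χ := by
    have h3 : charDegree χ / charDegree θ ∣ p ^ k := by
      rw [← hk]
      exact Nat.div_dvd_of_dvd h1
    have h4 : Nat.Coprime (charDegree χ / charDegree θ) (p ^ k) := by
      apply Nat.Coprime.pow_right
      apply Nat.Coprime.symm
      rw [Nat.Prime.coprime_iff_not_dvd hp.out]
      exact fun h5 => hpi (h5.trans h2)
    have h5 : charDegree χ / charDegree θ = 1 := Nat.eq_one_of_dvd_coprimes h4 dvd_rfl h3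
    have h6 := Nat.div_mul_cancel h1
    rw [h5, one_mul] at h6
    exact h6
  have hres := eq_of_over_of_charDegree_eq hχ hθ hoθ hdeg
  have hresirr : IsIrrCharacter (P : Subgroup G) (fun n : (P : Subgroup G) => χ n) := by
    have h7 : (fun n : (P : Subgroup G) => χ n) = θ := hres
    rw [h7]; exact hθ
  -- all the characters of `G ⧸ P` are linear
  have hlin : ∀ β : IrrCharacter (G ⧸ (P : Subgroup G)), (β : G ⧸ (P : Subgroup G) → ℂ) 1 = 1 := by
    rintro ⟨β, hβ⟩
    have hβ' : IsIrrCharacter G (β ∘ QuotientGroup.mk' (P : Subgroup G)) :=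
      isIrr_comp (QuotientGroup.mk' (P : Subgroup G)) (QuotientGroup.mk'_surjective _) hβ
    have hker : ∀ n ∈ (P : Subgroup G), (β ∘ QuotientGroup.mk' (P : Subgroup G)) n =
        (β ∘ QuotientGroup.mk' (P : Subgroup G)) 1 := by
      intro n hn
      show β (QuotientGroup.mk' (P : Subgroup G) n) = β (QuotientGroup.mk' (P : Subgroup G) 1)
      congr 1
      rw [map_one]
      exact (QuotientGroup.eq_one_iff _).2 hn
    have hmul := H597.FrobC.isIrr_mul_of_restrict (P : Subgroup G) hχ hresirr hβ' hker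
    obtain ⟨j, hj⟩ := hpow _ hmul (over_mul_of_ker ho hβ' (fun n hn => hker n (hNP hn)))
    rw [H597.FrobC.charDegree_mul hχ hβ'] at hj
    rw [charDegree_comp_one] at hj
    have h3 : charDegree β ∣ p ^ j := ⟨_, hj.symm⟩
    have h4 : charDegree β ∣ (P : Subgroup G).index := by
      have := Blocks.Knorr.charDegree_dvd hβ
      exact this
    have h5 : charDegree β = 1 := by
      have h6 : Nat.Coprime (charDegree β) (p ^ j) := by
        apply Nat.Coprime.pow_right
        apply Nat.Coprime.symm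
        rw [Nat.Prime.coprime_iff_not_dvd hp.out]
        exact fun h5 => hpi (h5.trans h4)
      exact Nat.eq_one_of_dvd_coprimes h6 dvd_rfl h3
    show β 1 = 1
    rw [← coe_charDegree hβ, h5, Nat.cast_one]
  have hcomm := CharDeep.PowerDegrees.comm_of_forall_linear hlin
  rw [_root_.commutator, Subgroup.commutator_le]
  intro x _ y _
  rw [commutatorElement_def, ← QuotientGroup.eq_one_iff]
  have h1 := hcomm (QuotientGroup.mk' (P : Subgroup G) x) (QuotientGroup.mk' (P : Subgroup G) y)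
  show QuotientGroup.mk' (P : Subgroup G) (x * y * x⁻¹ * y⁻¹) = 1
  rw [map_mul, map_mul, map_mul, map_inv, map_inv, h1]
  group

/-- Normal subgroups of `G` centralised by `P` with `[M, G] = M` lie in the kernel of the characters
over a character outside `W`. -/
theorem eq_one_of_over_min (hIM : ∀ (r : ℕ) [Fact r.Prime] (T : Subgroup G), N ≤ T →
    H670.PSing.IM r (T ⧸ N.subgroupOf T)) (P : Sylow p G) (M : Subgroup G) [hM : M.Normal]
    (hMP : ∀ m ∈ M, ∀ x ∈ (P : Subgroup G), m * x = x * m) (hMG : ⁅M, (⊤ : Subgroup G)⁆ = M)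
    {b : N →* ℂˣ} (hb : b ∉ Orb.WS (ER h.hNp)) {χ : G → ℂ} (hχ : IsIrrCharacter G χ)
    (ho : Over N.subtype χ (lf b)) {w : M →* ℂˣ} (hw : Over M.subtype χ (lf w)) : w = 1 := by
  have hb1 : b ≠ 1 := by
    rintro rfl
    exact hb (Orb.Hyp.one_mem _)
  obtain ⟨k, hk⟩ := h.exists_pow hIM P
    (mem_relCharDegrees_of_over N hχ (isIrr_lf b) ho (lf_ne_one hb1))
    (h.dvd hb hχ ho (ER_conj h.hNp))
  have h1 := index_dvd_of_over hχ (isIrr_lf w) hw
  rw [hk] at h1
  have h2 : (P : Subgroup G) ≤ inertia M (lf w) := by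
    intro x hx
    rw [mem_inertia_lf]
    intro m
    congr 1
    apply Subtype.ext
    rw [MulAut.conjNormal_apply, ← hMP m m.2 x hx, mul_inv_cancel_right]
  have h3 : (inertia M (lf w)).index = 1 := by
    have h4 : Nat.Coprime (inertia M (lf w)).index (p ^ k) := by
      apply Nat.Coprime.pow_right
      apply Nat.Coprime.symm
      rw [Nat.Prime.coprime_iff_not_dvd hp.out]
      exact fun h5 => P.not_dvd_index (h5.trans (Subgroup.index_dvd_of_le h2))
    exact Nat.eq_one_of_dvd_coprimes h4 dvd_rfl h1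
  rw [Subgroup.index_eq_one] at h3
  -- `w` is trivial on `[M, G] = M`
  have h4 : ⁅M, (⊤ : Subgroup G)⁆ ≤ w.ker.map M.subtype := by
    rw [Subgroup.commutator_le]
    intro m hm g _
    have hmem : m * (g * m⁻¹ * g⁻¹) ∈ M := mul_mem hm (hM.conj_mem _ (inv_mem hm) g)
    have e : ⁅m, g⁆ = m * (g * m⁻¹ * g⁻¹) := by rw [commutatorElement_def]; group
    rw [e]
    refine ⟨⟨m * (g * m⁻¹ * g⁻¹), hmem⟩, ?_, rfl⟩
    show (⟨m * (g * m⁻¹ * g⁻¹), hmem⟩ : M) ∈ w.ker
    rw [MonoidHom.mem_ker]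
    have h5 : g ∈ inertia M (lf w) := by rw [h3]; trivial
    rw [mem_inertia_lf] at h5
    have h6 := h5 (⟨m, hm⟩ : M)⁻¹
    have h7 : (⟨m * (g * m⁻¹ * g⁻¹), hmem⟩ : M) =
        ⟨m, hm⟩ * MulAut.conjNormal g (⟨m, hm⟩ : M)⁻¹ := by
      apply Subtype.ext
      rw [Subgroup.coe_mul, MulAut.conjNormal_apply]
      rfl
    rw [h7, map_mul, h6, map_inv, mul_inv_cancel]
  rw [hMG] at h4
  ext m
  obtain ⟨m', hm', hmm⟩ := h4 m.2
  have h8 : m' = m := Subtype.ext hmm
  have h9 : w m' = 1 := hm'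
  rw [← h8, h9, MonoidHom.one_apply]

/-- minimal normal subgroups in `G'` are central -/
theorem central_of_min (hIM : ∀ (r : ℕ) [Fact r.Prime] (T : Subgroup G), N ≤ T →
    H670.PSing.IM r (T ⧸ N.subgroupOf T)) (M : Subgroup G) (hM : M.Normal) (hM1 : M ≠ ⊥)
    (hmin : ∀ K : Subgroup G, K.Normal → K < M → K = ⊥) (hMG : M ≤ commutator G) :
    M ≤ Subgroup.center G := by
  classical
  obtain ⟨P⟩ : Nonempty (Sylow p G) := inferInstance
  have hPn := h.sylow_normal (hIM p) P
  have hNP := h.hNp.le_sylow_of_normal P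
  have hMPle : M ≤ (P : Subgroup G) := hMG.trans (h.commutator_le hIM P)
  -- `M` is central in `P`
  have hMP : ∀ m ∈ M, ∀ x ∈ (P : Subgroup G), m * x = x * m := by
    obtain ⟨m, hm1, hmM, hmc⟩ : ∃ m : G, m ≠ 1 ∧ m ∈ M ∧ ∀ x ∈ (P : Subgroup G), m * x = x * m := by
      letI : MulAction (P : Subgroup G) M :=
        { smul := fun x m => MulAut.conjNormal (x : G) m
          one_smul := fun m => by
            show MulAut.conjNormal ((1 : (P : Subgroup G)) : G) m = m
            rw [OneMemClass.coe_one, map_one]; rfl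
          mul_smul := fun x y m => by
            show MulAut.conjNormal ((x * y : (P : Subgroup G)) : G) m = _
            rw [Subgroup.coe_mul, map_mul]; rfl }
      have hMp : IsPGroup p M := P.isPGroup'.to_le hMPle
      have hcard : p ∣ Nat.card M := by
        obtain ⟨n, hn⟩ := IsPGroup.iff_card.1 hMp
        rcases Nat.eq_zero_or_pos n with h0 | h0
        · exact absurd (Subgroup.card_eq_one.1 (by rw [hn, h0, pow_zero])) hM1
        · rw [hn]; exact dvd_pow_self p h0.ne'
      have hfix1 : (1 : M) ∈ MulAction.fixedPoints (P : Subgroup G) M := by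
        intro x
        exact map_one (MulAut.conjNormal (x : G))
      obtain ⟨c, hc', hne'⟩ :=
        P.isPGroup'.exists_fixed_point_of_prime_dvd_card_of_fixed_point _ hcard hfix1
      refine ⟨c, fun hc1 => hne' (Subtype.ext hc1.symm), c.2, fun x hx => ?_⟩
      have h1 := congrArg Subtype.val (hc' ⟨x, hx⟩)
      have h2 : x * (c : G) * x⁻¹ = c := h1
      calc (c : G) * x = x * c * x⁻¹ * x := by rw [h2]
        _ = x * c := by group
    let K : Subgroup G := M ⊓ Subgroup.centralizer (P : Set G)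
    have hKn : K.Normal := by
      have : (Subgroup.centralizer ((P : Subgroup G) : Set G)).Normal := inferInstance
      exact Subgroup.normal_inf_normal M _
    have hmK : m ∈ K := ⟨hmM, by
      show m ∈ Subgroup.centralizer _
      rw [Subgroup.mem_centralizer_iff]
      intro x hx
      exact (hmc x hx).symm⟩
    have hKM : K = M := by
      by_contra hne
      have h1 := hmin K hKn (lt_of_le_of_ne inf_le_left hne)
      rw [h1, Subgroup.mem_bot] at hmK
      exact hm1 hmK
    intro m' hm' x hx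
    rw [← hKM] at hm'
    exact (Subgroup.mem_centralizer_iff.1 hm'.2 x hx).symm
  by_contra hcen
  -- `[M, G] = M`
  haveI := hM
  have hMGM : ⁅M, (⊤ : Subgroup G)⁆ = M := by
    by_contra hne
    have hle : ⁅M, (⊤ : Subgroup G)⁆ ≤ M := Subgroup.commutator_le_left M ⊤
    have h1 := hmin _ inferInstance (lt_of_le_of_ne hle hne)
    apply hcen
    intro m hm
    rw [Subgroup.mem_center_iff]
    intro g
    have h2 : ⁅m, g⁆ ∈ ⁅M, (⊤ : Subgroup G)⁆ := Subgroup.commutator_mem_commutator hm trivial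
    rw [h1, Subgroup.mem_bot, commutatorElement_eq_one_iff_mul_comm] at h2
    exact h2.symm
  -- the abelian group `L = M N`
  set L : Subgroup G := M ⊔ N with hL
  have hML : M ≤ L := le_sup_left
  have hNL : N ≤ L := le_sup_right
  have hLab : ∀ a b : L, a * b = b * a := by
    have h1 : ∀ a ∈ L, ∀ b ∈ L, a * b = b * a := by
      intro a ha b hb
      obtain ⟨n, hn, z, hz, rfl⟩ := Subgroup.mem_sup_of_normal_left.1 ha
      obtain ⟨m, hm, w, hw, rfl⟩ := Subgroup.mem_sup_of_normal_left.1 hb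
      have e1 : n * m = m * n := hMP n hn m (hMPle hm)
      have e2 : z * w = w * z := congrArg Subtype.val (h.hab ⟨z, hz⟩ ⟨w, hw⟩)
      calc n * z * (m * w) = n * (z * m) * w := by group
        _ = n * (m * z) * w := by rw [hMP m hm z (hNP hz)]
        _ = (n * m) * (z * w) := by group
        _ = (m * n) * (w * z) := by rw [e1, e2]
        _ = m * (n * w) * z := by group
        _ = m * (w * n) * z := by rw [hMP n hn w (hNP hw)]
        _ = m * w * (n * z) := by group
    intro a b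
    exact Subtype.ext (h1 a a.2 b b.2)
  obtain ⟨m0, hm0M, hm01⟩ := (Subgroup.ne_bot_iff_exists_ne_one.1 hM1 : ∃ a : M, a ≠ 1) |>.elim
    (fun a ha => (⟨(a : G), a.2, fun h1 => ha (Subtype.ext h1)⟩ : ∃ m0 : G, m0 ∈ M ∧ m0 ≠ 1))
  let rN : (L →* ℂˣ) → (N →* ℂˣ) := fun ρ => ρ.comp (Subgroup.inclusion hNL)
  have key : ∃ ρ : L →* ℂˣ, rN ρ ∉ Orb.WS (ER h.hNp) ∧ ρ ⟨m0, hML hm0M⟩ ≠ 1 := by
    obtain ⟨b, hb⟩ := h.exists_notW
    obtain ⟨ρ1, hρ1⟩ := exists_dual_ext hLab (N.subgroupOf L)
      (b.comp (Subgroup.subgroupOfEquivOfLe hNL).toMonoidHom)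
    have hρ1' : rN ρ1 = b := by
      ext n
      have := hρ1 ⟨⟨n, hNL n.2⟩, n.2⟩
      exact congrArg Units.val this
    obtain ⟨ρ2, hρ2⟩ := exists_dual_ne hLab (a := (⟨m0, hML hm0M⟩ : L))
      (fun h1 => hm01 (congrArg Subtype.val h1))
    by_cases h1 : ρ1 ⟨m0, hML hm0M⟩ = 1
    · by_cases h2 : rN ρ2 ∈ Orb.WS (ER h.hNp)
      · refine ⟨ρ2 * ρ1, ?_, ?_⟩
        · have e : rN (ρ2 * ρ1) = rN ρ2 * rN ρ1 := rfl
          rw [e, hρ1']
          exact h.hyp.mul_notMem h2 hb
        · rw [MonoidHom.mul_apply, h1, mul_one]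
          exact hρ2
      · exact ⟨ρ2, h2, hρ2⟩
    · exact ⟨ρ1, by rw [hρ1']; exact hb, h1⟩
  obtain ⟨ρ, hρ1, hρ2⟩ := key
  haveI hLn : L.Normal := Subgroup.sup_normal M N
  obtain ⟨χ, hχ, ho⟩ := exists_over L _ (isIrr_lf ρ)
  have hover : ∀ (K : Subgroup G) (hK : K ≤ L), Over K.subtype χ
      (lf (ρ.comp (Subgroup.inclusion hK))) := by
    intro K hK
    letI := Fintype.ofFinite K
    have e : K.subtype = L.subtype.comp (Subgroup.inclusion hK) := by ext; rfl
    rw [e]
    refine (over_comp_iff _ _ (isIrr_isCharacter hχ) (isIrr_lf _)).2 ⟨lf ρ, isIrr_lf ρ, ho, ?_⟩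
    rw [over_iff]
    have e2 : lf ρ ∘ (Subgroup.inclusion hK) = lf (ρ.comp (Subgroup.inclusion hK)) := rfl
    rw [e2, classInner_irr_self (isIrr_lf _)]
    exact one_ne_zero
  have h1 := h.eq_one_of_over_min hIM P M hMP hMGM hρ1 hχ (hover N hNL) (hover M hML)
  apply hρ2
  exact DFunLike.congr_fun h1 ⟨m0, hm0M⟩

end Dat

/-- **The theorem**, from the Itô-Michler theorem for the sections `T ⧸ N`. -/
theorem disc_abelian (p : ℕ) [hp : Fact p.Prime] (N : Subgroup G) [hN : N.Normal]
    (hNp : IsPGroup p N) (hNab : IsMulCommutative N) (hNG : N ≤ commutator G) (P : Sylow p G)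
    (hdisc : ¬ (Cfsg.commonDivisorGraph.induce (Cfsg.relCharDegrees N)).Preconnected)
    (hIM : ∀ (r : ℕ) [Fact r.Prime] (T : Subgroup G), N ≤ T →
      H670.PSing.IM r (T ⧸ N.subgroupOf T)) :
    (P : Subgroup G).Normal ∧ commutator G ≤ P ∧ ⁅(P : Subgroup G), (P : Subgroup G)⁆ ≤ N ∧
      (∀ d ∈ Cfsg.relCharDegrees N, (∃ k : ℕ, d = p ^ k) ∨ Nat.Coprime d p) ∧
      (∃ x ∈ N, ∃ y ∈ (P : Subgroup G), x * y ≠ y * x) ∧
      ∀ M : Subgroup G, M.Normal → M ≠ ⊥ → (∀ K : Subgroup G, K.Normal → K < M → K = ⊥) →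
        M ≤ commutator G → M ≤ Subgroup.center G := by
  have hab : ∀ a b : N, a * b = b * a := fun a b => hNab.is_comm.comm a b
  -- the two vertices
  obtain ⟨a, b, hab'⟩ : ∃ a b : ↥(relCharDegrees N),
      ¬ (commonDivisorGraph.induce (relCharDegrees N)).Reachable a b := by
    by_contra hcon
    push Not at hcon
    exact hdisc hcon
  have hnc : ¬ Conn N (a : ℕ) (b : ℕ) := fun ⟨_, _, h⟩ => hab' h
  have hNcomm : ⁅N, N⁆ = ⊥ := by
    rw [Subgroup.commutator_eq_bot_iff_le_centralizer]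
    intro x hx
    rw [Subgroup.mem_centralizer_iff]
    intro y hy
    exact congrArg Subtype.val (hab ⟨y, hy⟩ ⟨x, hx⟩)
  have hNne := ne_bot_of_mem_rel a.2
  have hpm : p ∣ ⁅N, N⁆.relIndex N := by
    rw [hNcomm, Subgroup.relIndex_bot_left]
    obtain ⟨n, hn⟩ := IsPGroup.iff_card.1 hNp
    rcases Nat.eq_zero_or_pos n with h0 | h0
    · exact absurd (Subgroup.card_eq_one.1 (by rw [hn, h0, pow_zero])) hNne
    · rw [hn]; exact dvd_pow_self p h0.ne'
  obtain ⟨x, y, hx, hy, hxy, hpx, hpy⟩ : ∃ x y : ℕ, x ∈ relCharDegrees N ∧ y ∈ relCharDegrees N ∧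
      ¬ Conn N x y ∧ p ∣ x ∧ ¬ p ∣ y := by
    rcases (xor_of_not_conn hNG hpm a.2 b.2 hnc).1 with h1 | h1
    · exact ⟨a, b, a.2, b.2, hnc, h1.1, h1.2⟩
    · exact ⟨b, a, b.2, a.2, fun h2 => hnc h2.symm, h1.1, h1.2⟩
  have h : Dat p N :=
    { hNp := hNp
      hab := hab
      hNG := hNG
      cop := by
        intro c hc d hd hpc hpd
        by_contra hncop
        have h1 := not_conn_side hNG hpm hx hy hxy hc hpx hpc
        apply h1
        exact (Conn.of_dvd hx hd hp.out.one_lt hpx hpd).trans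
          (Conn.of_not_coprime hd hc (fun h2 => hncop h2.symm))
      exa := ⟨y, hy, hpy⟩
      exb := ⟨x, hx, hpx⟩ }
  have hPn := h.sylow_normal (hIM p) P
  refine ⟨hPn, h.commutator_le hIM P, ?_, ?_, ?_, ?_⟩
  · rw [Subgroup.commutator_le]
    intro x hx y hy
    rw [commutatorElement_def]
    exact h.comm_mem (hIM p) P x hx y hy
  · intro d hd
    by_cases hpd : p ∣ d
    · exact Or.inl (h.exists_pow hIM P hd hpd)
    · exact Or.inr ((Nat.Prime.coprime_iff_not_dvd hp.out).2 hpd).symm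
  · by_contra hcon
    push Not at hcon
    obtain ⟨b, hb⟩ := h.exists_notW
    apply hb
    refine h.hyp.fixed_mem P h.exists_W (fun x hx => ?_)
    ext n
    rw [smul_apply]
    congr 2
    apply Subtype.ext
    rw [MulAut.conjNormal_apply, inv_inv, mul_assoc, hcon n n.2 x hx, inv_mul_cancel_left]
  · intro M hM hM1 hmin hMG
    exact h.central_of_min hIM M hM hM1 hmin hMG

end Cfsg.Agent.H673
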