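import Mathlib
import Cfsg.Agent.H673.Disc
import Cfsg.Agent.H706.Canon

/-!
# The relative degree graph: the connected case, diameter at most four
-/

set_option autoImplicit false
set_option linter.style.haveILetI false
set_option linter.unusedSectionVars false
open Cfsg

namespace Cfsg.Agent.H673

open Cfsg.Agent.H672
open Cfsg.Agent.Characters.Core Cfsg.Agent.Characters.Clifford
open scoped ComplexConjugate

universe u v w

section one

variable {G : Type u} [Group G] [Finite G] {N : Subgroup G} [hN : N.Normal]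

/-- **Case II**, refined. -/
theorem caseII' (hNG : N ≤ commutator G) {p : ℕ} [hp : Fact p.Prime] (P : Sylow p G)
    (hpm : p ∣ ⁅N, N⁆.relIndex N)
    (hno : ∀ (l : N →* ℂˣ) (k : ℕ), (∀ n, l n ^ p ^ k = 1) →
      ∀ ν : (N ⊔ (P : Subgroup G) : Subgroup G) →* ℂˣ, (∀ n : N, ν (inclK N P n) = l n) → l = 1) :
    ∀ a ∈ relCharDegrees N, ∃ b ∈ relCharDegrees N, p ∣ b ∧ ¬ Nat.Coprime a b := by
  intro a ha
  by_cases hpa : p ∣ a
  · exact ⟨a, ha, hpa, not_coprime_self (one_lt_of_mem_rel hNG ha)⟩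
  obtain ⟨⟨χ, hχ⟩, hk, rfl⟩ := ha
  dsimp only at hk hpa ⊢
  have ha : charDegree χ ∈ relCharDegrees N := ⟨⟨χ, hχ⟩, hk, rfl⟩
  obtain ⟨θ, hθ, ho, ξ, hξ, hξθ⟩ := exists_extendible N P hχ hpa
  obtain ⟨l, hl1, hl, hPl⟩ := exists_invariant N (P : Subgroup G) P.isPGroup' hpm
  have hl' : ∀ n, l n ^ p ^ 1 = 1 := by intro n; rw [pow_one]; exact hl n
  have hθ1 := ne_one_of_over N hχ hk hθ ho
  have hKl : N ⊔ (P : Subgroup G) ≤ inertia N (lf l) :=
    sup_le (le_inertia (isIrr_isClassFunction (isIrr_lf l))) hPl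
  have hKθ : N ⊔ (P : Subgroup G) ≤ inertia N θ :=
    le_inertia_of_extends (isIrr_isClassFunction hξ) hξθ
  have hlθ := isIrr_mul_lf l hθ
  obtain ⟨ψ, hψ, hψo⟩ := exists_over N _ hlθ
  have hlθ1 : (fun n : N => (l n : ℂ) * θ n) ≠ 1 := by
    intro h
    have hd : charDegree θ = 1 := by
      rw [← charDegree_mul_lf l θ, h]
      exact charDegree_of_eq (by simp)
    have hdξ : charDegree ξ = 1 := by
      rw [← charDegree_comp_one (inclK N (P : Subgroup G)), hξθ, hd]
    obtain ⟨ν, rfl⟩ := exists_hom_of_degree_one hξ hdξ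
    apply hl1
    refine hno l 1 hl' ν⁻¹ ?_
    intro n
    have h1 := congrFun h n
    rw [← hξθ] at h1
    have h2 : l n * ν (inclK N P n) = 1 := by
      apply Units.ext
      rw [Units.val_mul]
      exact h1
    rw [MonoidHom.inv_apply]
    exact (eq_inv_of_mul_eq_one_left h2).symm
  have hψm : charDegree ψ ∈ relCharDegrees N :=
    mem_relCharDegrees_of_over N hψ hlθ hψo hlθ1
  have hpψ : p ∣ charDegree ψ := by
    by_contra hcon
    have hinv : (P : Subgroup G) ≤ inertia N (fun n => (l n : ℂ) * θ n) := fun g hg =>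
      (mem_inertia_mul N (hPl hg)).2 (hKθ (le_sup_right (a := N) hg))
    obtain ⟨ξ₂, hξ₂, hξ₂θ⟩ := extends_of_invariant N P hlθ hinv hψ hψo hcon
    obtain ⟨m, hm⟩ := lin_ext_of_two (inclK N (P : Subgroup G)) (inclK_injective N _)
      (inclK_range_normal N _) hξ hξ₂ hθ l (by
        intro k h h' e
        have h1 := (mem_inertia_lf N).1 (hKl k.2) h
        rw [← h1]
        have e' : h' = MulAut.conjNormal (k : G) h := by
          apply Subtype.ext
          rw [MulAut.conjNormal_apply]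
          exact congrArg Subtype.val e
        rw [e']) hξθ hξ₂θ
    exact hl1 (hno l 1 hl' m hm)
  refine ⟨charDegree ψ, hψm, hpψ, ?_⟩
  have hθχ : charDegree θ ∣ charDegree χ :=
    (dvd_mul_left _ _).trans (index_mul_charDegree_dvd N hχ hθ ho)
  by_cases hθ2 : charDegree θ = 1
  swap
  · intro hcop
    have h1 := index_mul_charDegree_dvd N hψ hlθ hψo
    rw [charDegree_mul_lf] at h1
    exact hθ2 (Nat.eq_one_of_dvd_coprimes hcop hθχ ((dvd_mul_left _ _).trans h1))
  · obtain ⟨ϕ, rfl⟩ := exists_hom_of_degree_one hθ hθ2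
    have hdξ : charDegree ξ = 1 := by
      rw [← charDegree_comp_one (inclK N (P : Subgroup G)), hξθ, hθ2]
    obtain ⟨ν, rfl⟩ := exists_hom_of_degree_one hξ hdξ
    obtain ⟨b, n', hn', hn'0, hpow⟩ := card_factor (H := N) p
    have hϕn : ∀ x, ϕ x ^ (1 * n') = 1 := by
      have h1 : ϕ ^ n' = 1 := by
        refine hno (ϕ ^ n') b ?_ (ν ^ n') ?_
        · intro n
          rw [MonoidHom.pow_apply, ← pow_mul, mul_comm]
          exact hpow ϕ n
        · intro n
          rw [MonoidHom.pow_apply, MonoidHom.pow_apply]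
          congr 1
          exact Units.ext (congrFun hξθ n)
      intro x
      rw [one_mul]
      exact DFunLike.congr_fun h1 x
    have e : (fun n : N => (l n : ℂ) * lf ϕ n) = lf (l * ϕ ^ 1) := by
      funext n
      rw [lf_apply, lf_apply, MonoidHom.mul_apply, MonoidHom.pow_apply, pow_one, Units.val_mul]
    refine not_coprime_of_over hNG hl' hn' hϕn ?_ hχ ho hψ (e ▸ hψo)
    by_contra hcon
    push Not at hcon
    apply hθ1
    funext n
    have := hcon n
    rw [pow_one] at this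
    simp [lf, this]

/-- If `b` lies over a nontrivial linear character of `N` and is prime to `|N : N'|` then there is a
prime divisor `r` of `|N : N'|` such that every degree prime to `r` is within distance two. -/
theorem near_of_linear' (hNG : N ≤ commutator G) {χ : G → ℂ} (hχ : IsIrrCharacter G χ)
    {ϕ : N →* ℂˣ} (hϕ : ϕ ≠ 1) (ho : Over N.subtype χ (lf ϕ))
    (hcop : Nat.Coprime (charDegree χ) (⁅N, N⁆.relIndex N)) :
    ∃ r : ℕ, r.Prime ∧ r ∣ ⁅N, N⁆.relIndex N ∧ ∀ c ∈ relCharDegrees N, ¬ r ∣ c →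
    ∃ d ∈ relCharDegrees N, ¬ Nat.Coprime (charDegree χ) d ∧ ¬ Nat.Coprime d c := by
  obtain ⟨r, j, hr, ⟨x, hx⟩, hj⟩ := exists_pow_prime ϕ hϕ
  haveI : Fact r.Prime := ⟨hr⟩
  have hl1 : ϕ ^ j ≠ 1 := fun h => hx (DFunLike.congr_fun h x)
  have hl : ∀ x, (ϕ ^ j) x ^ r = 1 := by
    intro x; rw [MonoidHom.pow_apply, ← pow_mul]; exact hj x
  have hrm := dvd_relIndex_of_pow hr hl1 hl
  have hrb : ¬ r ∣ charDegree χ := fun h => hr.one_lt.ne' (Nat.eq_one_of_dvd_coprimes hcop h hrm)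
  obtain ⟨R, ν, hν⟩ := exists_extends_of_lin hχ ho hrb
  refine ⟨r, hr, hrm, fun c hc hrc => ?_⟩
  obtain ⟨d, hd, h1, h2⟩ := caseI' hNG R (k := 1) hl1 (by intro n; rw [pow_one]; exact hl n)
    (ν ^ j) (by intro n; rw [MonoidHom.pow_apply, MonoidHom.pow_apply, hν]) c hc hrc
  refine ⟨d, hd, ?_, fun h => h1 h.symm⟩
  intro h
  apply h2
  have h3 : (inertia N (lf (ϕ ^ j))).index ∣ charDegree χ :=
    (Subgroup.index_dvd_of_le (inertia_pow N ϕ j)).trans (index_dvd_of_over hχ (isIrr_lf _) ho)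
  exact (h.coprime_dvd_left h3).symm

/-- The inertia group of a suitable twist of `θ` is contained in the one of `l`. -/
theorem exists_twist {θ : N → ℂ} (hθ : IsIrrCharacter N θ)
    (hcop : Nat.Coprime (charDegree θ) (⁅N, N⁆.relIndex N)) (l : N →* ℂˣ) :
    ∃ μ : N →* ℂˣ, inertia N (fun n => (μ n : ℂ) * θ n) ≤ inertia N (lf l) := by
  obtain ⟨δ, hδ⟩ := CharactersDeep.ExtUnique.exists_hom_detChar hθ
  rw [← index_commutator_eq_relIndex] at hcop
  set m := (commutator N).index with hm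
  set d := charDegree θ with hd
  have hpow : ∀ a : N →* ℂˣ, a ^ m = 1 := by
    intro a
    ext x
    have h1 : a = (Abelianization.lift a).comp Abelianization.of := by
      ext y
      rw [MonoidHom.comp_apply, Abelianization.lift_apply_of]
    rw [MonoidHom.pow_apply, h1, MonoidHom.comp_apply, ← map_pow]
    have h2 : (Abelianization.of x) ^ m = 1 := by
      have h3 : m = Nat.card (Abelianization N) := rfl
      rw [h3, pow_card_eq_one']
    rw [h2, map_one]
    rfl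
  obtain ⟨e, he⟩ : ∃ e : ℕ, ∀ a : N →* ℂˣ, a ^ (d * e) = a := by
    by_cases hm1 : 1 < m
    · obtain ⟨e, he⟩ := Nat.exists_mul_mod_eq_one_of_coprime hcop hm1
      refine ⟨e, fun a => ?_⟩
      have h1 : d * e = m * (d * e / m) + 1 := by
        have := Nat.div_add_mod (d * e) m
        rw [he.2] at this
        exact this.symm
      ext x
      have h2 := DFunLike.congr_fun (hpow a) x
      rw [MonoidHom.pow_apply, MonoidHom.one_apply] at h2
      rw [h1, MonoidHom.pow_apply, pow_add, pow_mul, h2, one_pow, one_mul, pow_one]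
    · have hm0 : m ≠ 0 := Subgroup.index_ne_zero_of_finite
      have hm2 : m = 1 := by omega
      refine ⟨1, fun a => ?_⟩
      ext x
      have h2 := DFunLike.congr_fun (hpow a) x
      rw [MonoidHom.pow_apply, MonoidHom.one_apply, hm2, pow_one] at h2
      rw [MonoidHom.pow_apply, h2, one_pow]
  refine ⟨l * (δ⁻¹) ^ e, fun g hg => ?_⟩
  set μ := l * (δ⁻¹) ^ e with hμ
  have hμd : μ ^ d * δ = l ^ d := by
    ext x
    have h2 := DFunLike.congr_fun (he δ⁻¹) x
    rw [MonoidHom.pow_apply, MonoidHom.inv_apply] at h2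
    rw [hμ, MonoidHom.mul_apply, MonoidHom.pow_apply, MonoidHom.pow_apply, MonoidHom.mul_apply,
      MonoidHom.pow_apply, MonoidHom.inv_apply, mul_pow, ← pow_mul, mul_comm e d, h2,
      inv_mul_cancel_right]
  have hdet : detChar (fun n => (μ n : ℂ) * θ n) = lf (l ^ d) := by
    have h1 := CharactersDeep.ExtUnique.detChar_mul_hom hθ (coe_charDegree hθ).symm μ
    have h2 : (fun n => (μ n : ℂ) * θ n) = fun n => θ n * (μ n : ℂ) := by
      funext n; rw [mul_comm]
    rw [h2, h1]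
    funext n
    have h5 : ((μ n) ^ d * δ n : ℂˣ) = (l ^ d) n := by rw [← hμd]; rfl
    rw [hδ, lf_apply, ← h5, Units.val_mul, Units.val_pow_eq_pow_val, mul_comm]
  have hinv : g ∈ inertia N (lf (l ^ d)) := by
    rw [mem_inertia] at hg ⊢
    rw [← hdet, ← H706.Canon.detChar_comp (isIrr_mul_lf μ hθ) (MulAut.conjNormal g), hg]
  have h3 := inertia_pow N (l ^ d) e hinv
  have h4 : (l ^ d) ^ e = l := by
    ext x
    have h2 := DFunLike.congr_fun (he l) x
    rw [MonoidHom.pow_apply] at h2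
    rw [MonoidHom.pow_apply, MonoidHom.pow_apply, ← pow_mul, h2]
  rwa [h4] at h3

end one

variable {G : Type u} [Group G] [Finite G]

/-- chains of length four -/
def Ch4 (N : Subgroup G) (a b : ℕ) : Prop :=
  ∃ c ∈ relCharDegrees N, ∃ d ∈ relCharDegrees N, ∃ e ∈ relCharDegrees N,
    ¬ Nat.Coprime a c ∧ ¬ Nat.Coprime c d ∧ ¬ Nat.Coprime d e ∧ ¬ Nat.Coprime e b

theorem Ch4.symm {N : Subgroup G} {a b : ℕ} (h : Ch4 N a b) : Ch4 N b a := by
  obtain ⟨c, hc, d, hd, e, he, h1, h2, h3, h4⟩ := h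
  exact ⟨e, he, d, hd, c, hc, fun h => h4 h.symm, fun h => h3 h.symm, fun h => h2 h.symm,
    fun h => h1 h.symm⟩

theorem Ch4.mono {M N : Subgroup G} (hMN : M ≤ N) {a b : ℕ} (h : Ch4 M a b) : Ch4 N a b := by
  obtain ⟨c, hc, d, hd, e, he, h1⟩ := h
  exact ⟨c, rel_mono hMN hc, d, rel_mono hMN hd, e, rel_mono hMN he, h1⟩

/-- a connected pair is joined by an edge leaving a set -/
theorem exists_edge {N : Subgroup G} {a b : ℕ} (h : Conn N a b) (S : ℕ → Prop) (ha : S a)
    (hb : ¬ S b) : ∃ x ∈ relCharDegrees N, ∃ y ∈ relCharDegrees N, S x ∧ ¬ S y ∧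
      ¬ Nat.Coprime x y := by
  obtain ⟨ha', hb', hr⟩ := h
  obtain ⟨w⟩ := hr
  suffices key : ∀ (u v : ↥(relCharDegrees N))
      (_ : (commonDivisorGraph.induce (relCharDegrees N)).Walk u v), S u.1 → ¬ S v.1 →
      ∃ x ∈ relCharDegrees N, ∃ y ∈ relCharDegrees N, S x ∧ ¬ S y ∧ ¬ Nat.Coprime x y by
    exact key _ _ w ha hb
  intro u v w
  induction w with
  | nil => intro h1 h2; exact absurd h1 h2
  | @cons u v' w' hadj p ih =>
    intro h1 h2
    by_cases h3 : S v'.1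
    · exact ih h3 h2
    · refine ⟨u.1, u.2, v'.1, v'.2, h1, h3, ?_⟩
      rw [SimpleGraph.comap_adj] at hadj
      intro hc
      have h4 := hadj.2
      have h5 : Nat.gcd u.1 v'.1 = 1 := hc
      change 1 < Nat.gcd u.1 v'.1 at h4
      omega

/-- the constituents on `N` of a character whose kernel does not contain `N'` are not linear -/
theorem nonlinear_of_mem {N : Subgroup G} [hN : N.Normal] {χ : G → ℂ} (hχ : IsIrrCharacter G χ)
    (hk : ∃ x ∈ ⁅N, N⁆, χ x ≠ χ 1) {θ : N → ℂ} (hθ : IsIrrCharacter N θ)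
    (ho : Over N.subtype χ θ) : charDegree θ ≠ 1 := by
  intro h1
  obtain ⟨ϕ, rfl⟩ := exists_hom_of_degree_one hθ h1
  have hle : ⁅N, N⁆ ≤ N := Subgroup.commutator_le_left N N
  have h2 : Over (Subgroup.inclusion hle) (lf ϕ) (1 : (⁅N, N⁆ : Subgroup G) → ℂ) := by
    letI := Fintype.ofFinite (⁅N, N⁆ : Subgroup G)
    rw [over_iff]
    have e : (lf ϕ) ∘ (Subgroup.inclusion hle) = 1 := by
      funext n
      have h3 : (Subgroup.inclusion hle n) ∈ commutator N := by
        have h4 : (n : G) ∈ (commutator N).map N.subtype := by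
          rw [Subgroup.map_subtype_commutator]; exact n.2
        obtain ⟨y, hy, hyn⟩ := h4
        have : y = Subgroup.inclusion hle n := Subtype.ext hyn
        rwa [← this]
      have h5 : (Subgroup.inclusion hle n) ∈ ϕ.ker := Abelianization.commutator_subset_ker ϕ h3
      show ((ϕ (Subgroup.inclusion hle n) : ℂˣ) : ℂ) = 1
      rw [MonoidHom.mem_ker.1 h5]; rfl
    rw [e, classInner_irr_self isIrr_one]
    exact one_ne_zero
  have h3 : Over (⁅N, N⁆ : Subgroup G).subtype χ 1 := by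
    have e : (⁅N, N⁆ : Subgroup G).subtype = N.subtype.comp (Subgroup.inclusion hle) := by
      ext; rfl
    rw [e]
    exact (over_comp_iff _ _ (isIrr_isCharacter hχ) isIrr_one).2 ⟨_, hθ, ho, h2⟩
  exact ne_one_of_over _ hχ hk isIrr_one h3 rfl

/-- Over a twist of a nonlinear constituent. -/
theorem link_lin {N : Subgroup G} [hN : N.Normal] (hNG : N ≤ commutator G) {r : ℕ} [hr : Fact r.Prime]
    {θ : N → ℂ} (hθ : IsIrrCharacter N θ) (h1 : charDegree θ ≠ 1) {χ : G → ℂ}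
    (hχ : IsIrrCharacter G χ) (ho : Over N.subtype χ θ)
    (hrχ : ¬ r ∣ charDegree χ) {l : N →* ℂˣ} (hl1 : l ≠ 1) (hl : ∀ x, l x ^ r = 1) :
    ∃ b ∈ relCharDegrees ⁅N, N⁆, ¬ Nat.Coprime (charDegree χ) b ∧
      (r ∣ b ∨ ¬ Nat.Coprime (charDegree χ) (inertia N (lf l)).index ∨
        ¬ Nat.Coprime b (inertia N (lf l)).index) := by
  have hlθ := isIrr_mul_lf l hθ
  obtain ⟨ψ, hψ, hψo⟩ := exists_over N _ hlθ
  have hθχ : charDegree θ ∣ charDegree χ :=
    (dvd_mul_left _ _).trans (index_mul_charDegree_dvd N hχ hθ ho)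
  have hθψ : charDegree θ ∣ charDegree ψ := by
    have h2 := index_mul_charDegree_dvd N hψ hlθ hψo
    rw [charDegree_mul_lf] at h2
    exact (dvd_mul_left _ _).trans h2
  refine ⟨charDegree ψ, mem_rel_commutator_of_nonlinear hψ hlθ hψo
    (by rwa [charDegree_mul_lf]), fun h => h1 (Nat.eq_one_of_dvd_coprimes h hθχ hθψ), ?_⟩
  by_contra hcon
  push Not at hcon
  exact last_case hNG hθ hχ ho hrχ hl1 hl hψ hψo hcon.1 hcon.2.1 hcon.2.2

theorem conn_aux (n : ℕ) : ∀ (N : Subgroup G) [N.Normal], Nat.card N = n → Group.IsSolvable N →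
    N ≤ commutator G → (∀ x ∈ relCharDegrees N, ∀ y ∈ relCharDegrees N, Conn N x y) →
    ∀ a ∈ relCharDegrees N, ∀ b ∈ relCharDegrees N, Ch4 N a b := by
  induction n using Nat.strong_induction_on with
  | _ n ih =>
  intro N _ hcard hs hNG hconn
  have self : ∀ {x : ℕ}, x ∈ relCharDegrees N → ¬ Nat.Coprime x x := fun hx =>
    not_coprime_self (one_lt_of_mem_rel hNG hx)
  have common : ∀ {r x y : ℕ}, r.Prime → r ∣ x → r ∣ y → ¬ Nat.Coprime x y := fun hr h1 h2 h =>
    hr.one_lt.ne' (Nat.eq_one_of_dvd_coprimes h h1 h2)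
  -- the asymmetric case
  have key : ∀ a ∈ relCharDegrees N, ∀ b ∈ relCharDegrees N,
      (∀ r : ℕ, r.Prime → r ∣ ⁅N, N⁆.relIndex N → r ∣ a ∧ ¬ r ∣ b) →
      (∃ l : N →* ℂˣ, inertia N (lf l) ≠ ⊤) → Ch4 N a b := by
    intro a ha b hb hab hex
    by_contra hcon
    have hN' : ⁅N, N⁆ < N := commutator_lt_of_solvable hs (ne_bot_of_mem_rel ha)
    have hbm : Nat.Coprime b (⁅N, N⁆.relIndex N) := by
      by_contra h
      obtain ⟨r, hr, h2, h3⟩ := Nat.Prime.not_coprime_iff_dvd.1 h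
      exact (hab r hr h3).2 h2
    obtain ⟨⟨χb, hχb⟩, hkb, hdb⟩ := id hb
    dsimp only at hkb hdb
    subst hdb
    obtain ⟨θb, hθb, hob⟩ := exists_under (f := N.subtype) hχb
    have hθb1 := ne_one_of_over N hχb hkb hθb hob
    by_cases h1 : charDegree θb = 1
    · obtain ⟨ϕ, rfl⟩ := exists_hom_of_degree_one hθb h1
      have hϕ : ϕ ≠ 1 := by rintro rfl; exact hθb1 lf_one
      obtain ⟨r, hr, hrm, hnear⟩ := near_of_linear' hNG hχb hϕ hob hbm
      obtain ⟨x, hx, y, hy, hrx, hry, hxy⟩ := exists_edge (hconn a ha _ hb) (fun z => r ∣ z)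
        (hab r hr hrm).1 (hab r hr hrm).2
      obtain ⟨d, hd, h2, h3⟩ := hnear y hy hry
      exact hcon ⟨x, hx, y, hy, d, hd, common hr (hab r hr hrm).1 hrx, hxy, fun h => h3 h.symm,
        fun h => h2 h.symm⟩
    obtain ⟨⟨χa, hχa⟩, hka, hda⟩ := id ha
    dsimp only at hka hda
    subst hda
    obtain ⟨θa, hθa, hoa⟩ := exists_under (f := N.subtype) hχa
    have hθa1 := ne_one_of_over N hχa hka hθa hoa
    have hmono : ∀ {d : ℕ}, d ∈ relCharDegrees ⁅N, N⁆ → d ∈ relCharDegrees N :=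
      fun hd => rel_mono hN'.le hd
    by_cases h2 : charDegree θa = 1
    · obtain ⟨μ, rfl⟩ := exists_hom_of_degree_one hθa h2
      have hμ : μ ≠ 1 := by rintro rfl; exact hθa1 lf_one
      obtain ⟨s, j, hs', ⟨z, hz⟩, hj⟩ := exists_pow_prime μ hμ
      haveI : Fact s.Prime := ⟨hs'⟩
      have hl1 : μ ^ j ≠ 1 := fun h => hz (DFunLike.congr_fun h z)
      have hl : ∀ x, (μ ^ j) x ^ s = 1 := by
        intro x; rw [MonoidHom.pow_apply, ← pow_mul]; exact hj x
      have hsm := dvd_relIndex_of_pow hs' hl1 hl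
      have hia : (inertia N (lf (μ ^ j))).index ∣ charDegree χa :=
        (Subgroup.index_dvd_of_le (inertia_pow N μ j)).trans
          (index_dvd_of_over hχa (isIrr_lf _) hoa)
      obtain ⟨c, hc, h3, h4⟩ := link_lin hNG hθb h1 hχb hob (hab s hs' hsm).2 hl1 hl
      have hca : ¬ Nat.Coprime (charDegree χa) c ∨
          ¬ Nat.Coprime (charDegree χa) (charDegree χb) := by
        rcases h4 with h4 | h4 | h4
        · exact Or.inl (common hs' (hab s hs' hsm).1 h4)
        · exact Or.inr fun h => h4 (h.coprime_dvd_left hia).symm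
        · exact Or.inl fun h => h4 (h.coprime_dvd_left hia).symm
      rcases hca with h5 | h5
      · exact hcon ⟨_, ha, _, ha, c, hmono hc, self ha, self ha, h5, fun h => h3 h.symm⟩
      · exact hcon ⟨_, ha, _, ha, _, ha, self ha, self ha, self ha, h5⟩
    have hb' := mem_rel_commutator_of_nonlinear hχb hθb hob h1
    have ha' := mem_rel_commutator_of_nonlinear hχa hθa hoa h2
    have hNG' : ⁅N, N⁆ ≤ commutator G := hN'.le.trans hNG
    have hs' : Group.IsSolvable (⁅N, N⁆ : Subgroup G) := by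
      haveI := hs
      exact Group.isSolvable_of_isSolvable_injective (f := Subgroup.inclusion hN'.le)
        (Subgroup.inclusion_injective _)
    have hN'' : ⁅⁅N, N⁆, ⁅N, N⁆⁆ < ⁅N, N⁆ := commutator_lt_of_solvable hs' (ne_bot_of_mem_rel hb')
    have hlt : Nat.card (⁅N, N⁆ : Subgroup G) < n := by
      rw [← hcard]
      exact Set.Finite.card_lt_card (Set.toFinite _) hN'
    by_cases hc' : ∀ x ∈ relCharDegrees ⁅N, N⁆, ∀ y ∈ relCharDegrees ⁅N, N⁆, Conn ⁅N, N⁆ x y
    · exact hcon ((ih _ hlt ⁅N, N⁆ rfl hs' hNG' hc' _ ha' _ hb').mono hN'.le)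
    push Not at hc'
    obtain ⟨x0, hx0, y0, hy0, hxy0⟩ := hc'
    have hm1 : ⁅⁅N, N⁆, ⁅N, N⁆⁆.relIndex ⁅N, N⁆ ≠ 1 :=
      fun h => hN''.not_ge (Subgroup.relIndex_eq_one.1 h)
    obtain ⟨q, hq, hqm⟩ := Nat.exists_prime_and_dvd hm1
    haveI : Fact q.Prime := ⟨hq⟩
    obtain ⟨hxor, l0, -, -, -, hl0, hcc⟩ := xor_of_not_conn hNG' hqm hx0 hy0 hxy0
    obtain ⟨x1, hx1, y1, hy1, hxy1, hqx1⟩ : ∃ x1 ∈ relCharDegrees ⁅N, N⁆,
        ∃ y1 ∈ relCharDegrees ⁅N, N⁆, ¬ Conn ⁅N, N⁆ x1 y1 ∧ q ∣ x1 := by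
      rcases hxor with h | h
      · exact ⟨x0, hx0, y0, hy0, hxy0, h.1⟩
      · exact ⟨y0, hy0, x0, hx0, fun h' => hxy0 h'.symm, h.1⟩
    have hdvd : ∀ {c d : ℕ}, c ∈ relCharDegrees ⁅N, N⁆ → d ∈ relCharDegrees ⁅N, N⁆ →
        (q ∣ c ↔ q ∣ d) → Conn ⁅N, N⁆ c d := by
      intro c d hc hd h
      by_cases hqc : q ∣ c
      · exact Conn.of_dvd hc hd hq.one_lt hqc (h.1 hqc)
      · exact (hcc c hc hqc).trans (hcc d hd (fun h' => hqc (h.2 h'))).symm
    have hnot : ¬ (q ∣ charDegree χa ↔ q ∣ charDegree χb) := by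
      intro h
      by_cases hqa : q ∣ charDegree χa
      · exact hcon ⟨_, ha, _, ha, _, ha, self ha, self ha, self ha, common hq hqa (h.1 hqa)⟩
      · obtain ⟨d, hd, h3, h4⟩ := disc_aux _ ⁅N, N⁆ rfl hs' hNG' hx1 hy1 hxy1 hq hqm hqx1 _ ha' _ hb'
          hqa (fun h' => hqa (h.2 h'))
        exact hcon ⟨_, ha, _, ha, d, hmono hd, self ha, self ha, h3, h4⟩
    have hnab : ¬ Conn ⁅N, N⁆ (charDegree χa) (charDegree χb) := by
      intro h
      by_cases hqa : q ∣ charDegree χa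
      · have hqb : ¬ q ∣ charDegree χb := fun h' => hnot ⟨fun _ => h', fun _ => hqa⟩
        exact not_conn_side hNG' hqm hx1 hy1 hxy1 hb' hqx1 hqb
          ((Conn.of_dvd hx1 ha' hq.one_lt hqx1 hqa).trans h)
      · have hqb : q ∣ charDegree χb := by
          by_contra h'
          exact hnot ⟨fun h3 => absurd h3 hqa, fun h3 => absurd h3 h'⟩
        exact not_conn_side hNG' hqm hx1 hy1 hxy1 ha' hqx1 hqa
          ((Conn.of_dvd hx1 hb' hq.one_lt hqx1 hqb).trans h.symm)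
    obtain ⟨l, hl⟩ := hex
    have hl1 : 1 < (inertia N (lf l)).index := by
      have h6 : (inertia N (lf l)).index ≠ 1 := fun h => hl (Subgroup.index_eq_one.1 h)
      have h7 : (inertia N (lf l)).index ≠ 0 := Subgroup.index_ne_zero_of_finite
      omega
    -- degrees above suitable twists
    have htw : ∀ {χ : G → ℂ}, IsIrrCharacter G χ → ∀ {θ : N → ℂ}, IsIrrCharacter N θ →
        Over N.subtype χ θ → charDegree θ ≠ 1 → Nat.Coprime (charDegree χ) (⁅N, N⁆.relIndex N) →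
        charDegree χ ∈ relCharDegrees ⁅N, N⁆ →
        ∃ c ∈ relCharDegrees ⁅N, N⁆, Conn ⁅N, N⁆ (charDegree χ) c ∧ (inertia N (lf l)).index ∣ c := by
      intro χ hχ θ hθ ho hθ1 hcop hmem
      have hθχ : charDegree θ ∣ charDegree χ :=
        (dvd_mul_left _ _).trans (index_mul_charDegree_dvd N hχ hθ ho)
      obtain ⟨μ, hμ⟩ := exists_twist hθ (hcop.coprime_dvd_left hθχ) l
      have hμθ := isIrr_mul_lf μ hθ
      obtain ⟨ψ, hψ, hψo⟩ := exists_over N _ hμθ
      have hψm := mem_rel_commutator_of_nonlinear hψ hμθ hψo (by rwa [charDegree_mul_lf])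
      refine ⟨charDegree ψ, hψm, ?_, ?_⟩
      · refine Conn.of_dvd hmem hψm (r := charDegree θ) ?_ hθχ ?_
        · have := charDegree_pos hθ; omega
        · have h2 := index_mul_charDegree_dvd N hψ hμθ hψo
          rw [charDegree_mul_lf] at h2
          exact (dvd_mul_left _ _).trans h2
      · exact (Subgroup.index_dvd_of_le hμ).trans (index_dvd_of_over hψ hμθ hψo)
    obtain ⟨cb, hcb, hcb1, hcb2⟩ := htw hχb hθb hob h1 hbm hb'
    have hclaim : ∀ x ∈ relCharDegrees ⁅N, N⁆, Conn ⁅N, N⁆ (charDegree χa) x →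
        ¬ Nat.Coprime (charDegree χa) x := by
      intro x hx hax
      have hxm : ¬ Nat.Coprime x (⁅N, N⁆.relIndex N) := by
        intro hxm
        obtain ⟨⟨χx, hχx⟩, hkx, hdx⟩ := id hx
        dsimp only at hkx hdx
        subst hdx
        obtain ⟨θx, hθx, hox⟩ := exists_under (f := N.subtype) hχx
        obtain ⟨cx, hcx, hcx1, hcx2⟩ := htw hχx hθx hox (nonlinear_of_mem hχx hkx hθx hox) hxm hx
        exact hnab (((hax.trans hcx1).trans (Conn.of_dvd hcx hcb hl1 hcx2 hcb2)).trans hcb1.symm)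
      obtain ⟨r, hr, h3, h4⟩ := Nat.Prime.not_coprime_iff_dvd.1 hxm
      exact common hr (hab r hr h4).1 h3
    obtain ⟨x, hx, c, hc, ⟨hx', hax⟩, hSc, hxc⟩ := exists_edge (hconn _ ha _ hb)
      (fun z => z ∈ relCharDegrees ⁅N, N⁆ ∧ Conn ⁅N, N⁆ (charDegree χa) z)
      ⟨ha', Conn.refl ha'⟩ (fun h => hnab h.2)
    have hc' : c ∉ relCharDegrees ⁅N, N⁆ := fun h =>
      hSc ⟨h, hax.trans (Conn.of_not_coprime hx' h hxc)⟩
    obtain ⟨⟨χc, hχc⟩, hkc, hdc⟩ := id hc
    dsimp only at hkc hdc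
    subst hdc
    obtain ⟨θc, hθc, hoc⟩ := exists_under (f := N.subtype) hχc
    have hθc1 := ne_one_of_over N hχc hkc hθc hoc
    have h3 : charDegree θc = 1 := by
      by_contra h
      exact hc' (mem_rel_commutator_of_nonlinear hχc hθc hoc h)
    obtain ⟨μ, rfl⟩ := exists_hom_of_degree_one hθc h3
    have hμ : μ ≠ 1 := by rintro rfl; exact hθc1 lf_one
    obtain ⟨s, j, hs', ⟨z, hz⟩, hj⟩ := exists_pow_prime μ hμ
    haveI : Fact s.Prime := ⟨hs'⟩
    have hμ1 : μ ^ j ≠ 1 := fun h => hz (DFunLike.congr_fun h z)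
    have hμ2 : ∀ x, (μ ^ j) x ^ s = 1 := by
      intro x; rw [MonoidHom.pow_apply, ← pow_mul]; exact hj x
    have hsm := dvd_relIndex_of_pow hs' hμ1 hμ2
    have hic : (inertia N (lf (μ ^ j))).index ∣ charDegree χc :=
      (Subgroup.index_dvd_of_le (inertia_pow N μ j)).trans
        (index_dvd_of_over hχc (isIrr_lf _) hoc)
    obtain ⟨e, he, h4, h5⟩ := link_lin hNG hθb h1 hχb hob (hab s hs' hsm).2 hμ1 hμ2
    have hax' := hclaim x hx' hax
    rcases h5 with h5 | h5 | h5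
    · exact hnab ((Conn.of_dvd ha' he hs'.one_lt (hab s hs' hsm).1 h5).trans
        (Conn.of_not_coprime hb' he h4).symm)
    · exact hcon ⟨x, hx, _, hc, _, hb, hax', hxc, fun h => h5 (h.coprime_dvd_left hic).symm,
        self hb⟩
    · exact hcon ⟨x, hx, _, hc, e, hmono he, hax', hxc, fun h => h5 (h.coprime_dvd_left hic).symm,
        fun h => h4 h.symm⟩
  -- the general case
  intro a ha b hb
  by_contra hcon
  have hN' : ⁅N, N⁆ < N := commutator_lt_of_solvable hs (ne_bot_of_mem_rel ha)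
  have hm1 : ⁅N, N⁆.relIndex N ≠ 1 := fun h => hN'.not_ge (Subgroup.relIndex_eq_one.1 h)
  have hcase : ∀ r : ℕ, r.Prime → r ∣ ⁅N, N⁆.relIndex N →
      ((r ∣ a ∧ ¬ r ∣ b) ∨ (r ∣ b ∧ ¬ r ∣ a)) ∧ ∃ (l : N →* ℂˣ) (k : ℕ), l ≠ 1 ∧
        (∀ n, l n ^ r ^ k = 1) ∧ (inertia N (lf l)) ≠ ⊤ ∧
        (inertia N (lf l)).index ∈ relCharDegrees N ∧
        ∀ c ∈ relCharDegrees N, ¬ r ∣ c → ∃ d ∈ relCharDegrees N, ¬ Nat.Coprime c d ∧
          ¬ Nat.Coprime d (inertia N (lf l)).index := by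
    intro r hr hrm
    haveI : Fact r.Prime := ⟨hr⟩
    obtain ⟨R⟩ : Nonempty (Sylow r G) := inferInstance
    by_cases hno : ∀ (l : N →* ℂˣ) (k : ℕ), (∀ n, l n ^ r ^ k = 1) →
      ∀ ν : (N ⊔ (R : Subgroup G) : Subgroup G) →* ℂˣ, (∀ n : N, ν (inclK N R n) = l n) → l = 1
    · exfalso
      obtain ⟨c, hc, h1, h2⟩ := caseII' hNG R hrm hno a ha
      obtain ⟨d, hd, h3, h4⟩ := caseII' hNG R hrm hno b hb
      exact hcon ⟨c, hc, c, hc, d, hd, h2, self hc, common hr h1 h3, fun h => h4 h.symm⟩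
    · push Not at hno
      obtain ⟨l, k, hl, ν, hν, hl1⟩ := hno
      have h1 := caseI' hNG R hl1 hl ν hν
      have h2 := (caseI hNG R hl1 hl ν hν).1
      refine ⟨?_, l, k, hl1, hl, inertia_ne_top hNG R hl1 hl ν hν, h2, h1⟩
      by_cases hra : r ∣ a
      · refine Or.inl ⟨hra, fun hrb => ?_⟩
        exact hcon ⟨a, ha, a, ha, a, ha, self ha, self ha, self ha, common hr hra hrb⟩
      · refine Or.inr ⟨?_, hra⟩
        by_contra hrb
        obtain ⟨d, hd, h3, h4⟩ := h1 a ha hra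
        obtain ⟨e, he, h5, h6⟩ := h1 b hb hrb
        exact hcon ⟨d, hd, _, h2, e, he, h3, h4, fun h => h6 h.symm, fun h => h5 h.symm⟩
  have hmix : ∀ {r s : ℕ}, r.Prime → r ∣ ⁅N, N⁆.relIndex N → s.Prime → s ∣ ⁅N, N⁆.relIndex N →
      ¬ r ∣ a → ¬ s ∣ b → False := by
    intro r s hr hrm hs' hsm hra hsb
    haveI : Fact r.Prime := ⟨hr⟩
    haveI : Fact s.Prime := ⟨hs'⟩
    obtain ⟨hr1, l, k, hl1, hl, hlt, hlm, hlc⟩ := hcase r hr hrm
    obtain ⟨hs1, m, j, hm1, hm, hmt, hmm, hmc⟩ := hcase s hs' hsm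
    have hrs : r ≠ s := by
      rintro rfl
      rcases hr1 with h | h
      · exact hra h.1
      · exact hsb h.1
    obtain ⟨ψ, hψ, hψo⟩ := exists_over N _ (isIrr_lf (l * m))
    have hcop : Nat.Coprime (r ^ k) (s ^ j) :=
      Nat.Coprime.pow _ _ ((Nat.coprime_primes hr hs').2 hrs)
    have h1 : inertia N (lf (l * m)) ≤ inertia N (lf l) := inertia_mul_le N hcop hl hm
    have hcomm : l * m = m * l := by
      ext x
      rw [MonoidHom.mul_apply, MonoidHom.mul_apply, mul_comm]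
    have h2 : inertia N (lf (l * m)) ≤ inertia N (lf m) := by
      rw [hcomm]; exact inertia_mul_le N hcop.symm hm hl
    have h3 := (Subgroup.index_dvd_of_le h1).trans (index_dvd_of_over hψ (isIrr_lf _) hψo)
    have h4 := (Subgroup.index_dvd_of_le h2).trans (index_dvd_of_over hψ (isIrr_lf _) hψo)
    have hψm : charDegree ψ ∈ relCharDegrees N := by
      refine mem_relCharDegrees_of_over N hψ (isIrr_lf _) hψo (lf_ne_one ?_)
      intro h
      apply hlt
      rw [eq_top_iff]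
      refine le_trans ?_ h1
      rw [h]
      intro g _
      rw [mem_inertia_lf]
      intro n
      rfl
    obtain ⟨d, hd, h5, h6⟩ := hlc a ha hra
    obtain ⟨e, he, h7, h8⟩ := hmc b hb hsb
    exact hcon ⟨d, hd, _, hψm, e, he, h5, fun h => h6 (h.coprime_dvd_right h3),
      fun h => h8 (h.coprime_dvd_left h4).symm, fun h => h7 h.symm⟩
  obtain ⟨p, hp, hpm⟩ := Nat.exists_prime_and_dvd hm1
  obtain ⟨hp1, l, k, hl1, hl, hlt, hlm, hlc⟩ := hcase p hp hpm
  rcases hp1 with hp1 | hp1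
  · apply hcon
    refine key a ha b hb (fun r hr hrm => ?_) ⟨l, hlt⟩
    rcases (hcase r hr hrm).1 with h | h
    · exact h
    · exact (hmix hr hrm hp hpm h.2 hp1.2).elim
  · apply hcon
    refine (key b hb a ha (fun r hr hrm => ?_) ⟨l, hlt⟩).symm
    rcases (hcase r hr hrm).1 with h | h
    · exact (hmix hp hpm hr hrm hp1.2 h.2).elim
    · exact h

end Cfsg.Agent.H673
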