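import Mathlib
import Cfsg.Agent.H673.Orb

/-!
# Orbits on an abelian group: further lemmas
-/

set_option autoImplicit false
set_option linter.unusedSectionVars false
set_option linter.style.haveILetI false

namespace Cfsg.Agent.H673.Orb

open MulAction

universe u v

section basic

variable {G : Type u} [Group G] [Finite G] {V : Type v} [CommGroup V] [MulDistribMulAction G V]

theorem index_eq_of_coprime {a b : V}
    (h1 : Nat.Coprime (stabilizer G a).index (stabilizer G b).index)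
    (h2 : Nat.Coprime (stabilizer G (a * b)).index (stabilizer G b).index) :
    (stabilizer G a).index = (stabilizer G (a * b)).index := by
  have hinf : stabilizer G a ⊓ stabilizer G b = stabilizer G (a * b) ⊓ stabilizer G b := by
    ext x
    simp only [Subgroup.mem_inf, mem_stabilizer_iff, smul_mul']
    constructor
    · rintro ⟨h3, h4⟩
      rw [h3, h4]
      exact ⟨rfl, rfl⟩
    · rintro ⟨h3, h4⟩
      rw [h4] at h3
      exact ⟨mul_right_cancel h3, h4⟩
  have h3 := index_inf_of_coprime _ _ h1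
  have h4 := index_inf_of_coprime _ _ h2
  rw [hinf, h4] at h3
  exact (Nat.eq_of_mul_eq_mul_right (Nat.pos_of_ne_zero Subgroup.index_ne_zero_of_finite) h3).symm

theorem stab_one : stabilizer G (1 : V) = ⊤ := by
  rw [eq_top_iff]
  intro g _
  exact mem_stabilizer_iff.2 (smul_one g)

theorem stab_mul_of_fixed (a : V) {l : V} (hl : ∀ g : G, g • l = l) :
    stabilizer G (a * l) = stabilizer G a := by
  ext g
  rw [mem_stabilizer_iff, mem_stabilizer_iff, smul_mul', hl g]
  exact ⟨fun h1 => mul_right_cancel h1, fun h1 => by rw [h1]⟩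

theorem stab_of_mul_eq_one {a b : V} (h : a * b = 1) : stabilizer G a = stabilizer G b := by
  have h3 : a = b⁻¹ := eq_inv_of_mul_eq_one_left h
  ext g
  rw [mem_stabilizer_iff, mem_stabilizer_iff, h3, smul_inv', inv_inj]

/-- `V` has exponent a power of `p` -/
def PV (p : ℕ) (V : Type v) [CommGroup V] : Prop := ∃ k : ℕ, ∀ a : V, a ^ (p ^ k) = 1

theorem PV.eq_one {p : ℕ} [hp : Fact p.Prime] (h : PV p V) {a : V} {m : ℕ} (hm : ¬ p ∣ m)
    (ha : a ^ m = 1) : a = 1 := by
  obtain ⟨k, hk⟩ := h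
  exact eq_one_of_coprime_pow
    (Nat.Coprime.pow_right k ((Nat.Prime.coprime_iff_not_dvd hp.out).2 hm).symm) ha (hk a)

theorem PV.exists_pow {p : ℕ} [hp : Fact p.Prime] (h : PV p V) {m : ℕ} (hm : ¬ p ∣ m) :
    ∃ j : ℕ, ∀ a : V, a ^ (m * j) = a := by
  obtain ⟨k, hk⟩ := h
  have hcop : Nat.Coprime m (p ^ k) :=
    Nat.Coprime.pow_right k ((Nat.Prime.coprime_iff_not_dvd hp.out).2 hm).symm
  obtain ⟨j, hj⟩ : ∃ j : ℕ, m * j ≡ 1 [MOD p ^ k] := by
    by_cases hk1 : 1 < p ^ k
    · obtain ⟨j, hj⟩ := Nat.exists_mul_mod_eq_one_of_coprime hcop hk1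
      exact ⟨j, by rw [Nat.ModEq, hj.2, Nat.mod_eq_of_lt hk1]⟩
    · have : p ^ k = 1 := le_antisymm (not_lt.1 hk1) (Nat.one_le_pow _ _ hp.out.pos)
      exact ⟨0, by rw [this]; exact Nat.modEq_one⟩
  refine ⟨j, fun a => ?_⟩
  have h6 : a ^ (m * j) = a ^ 1 :=
    pow_eq_pow_iff_modEq.2 (hj.of_dvd (orderOf_dvd_of_pow_eq_one (hk a)))
  rwa [pow_one] at h6

theorem PV.isPGroup {p : ℕ} (h : PV p V) : IsPGroup p V := by
  obtain ⟨k, hk⟩ := h
  exact fun a => ⟨k, hk a⟩

theorem PV.isPGroup_subgroup {p : ℕ} (h : PV p V) (U : Subgroup V) : IsPGroup p U :=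
  h.isPGroup.to_subgroup U

/-- the orbit product is invariant -/
theorem exists_invariant_pow [Finite V] (b : V) (hinv : ∀ v : V, (∀ g : G, g • v = v) → v = 1)
    {H : Submonoid V} (hH : ∀ g : G, (g • b) * b⁻¹ ∈ H) : b⁻¹ ^ (stabilizer G b).index ∈ H := by
  classical
  have hfin : (orbit G b).Finite := Set.finite_range _
  set O : Finset V := hfin.toFinset with hO
  have hOmem : ∀ {x : V}, x ∈ O ↔ x ∈ orbit G b := by intro x; rw [hO, Set.Finite.mem_toFinset]
  have hOc : O.card = (stabilizer G b).index := by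
    rw [index_stabilizer, Set.ncard_eq_toFinset_card _ hfin]
  have hprod : ∏ x ∈ O, x = 1 := by
    apply hinv
    intro g
    rw [Finset.smul_prod']
    have himg : O.image (fun x => g • x) = O := by
      refine Finset.eq_of_subset_of_card_le ?_ ?_
      · intro y hy
        obtain ⟨x, hx, rfl⟩ := Finset.mem_image.1 hy
        obtain ⟨k, rfl⟩ := hOmem.1 hx
        exact hOmem.2 ⟨g * k, mul_smul g k b⟩
      · rw [Finset.card_image_of_injective _ (MulAction.injective g)]
    conv_rhs => rw [← himg]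
    rw [Finset.prod_image (fun x _ y _ hxy => MulAction.injective g hxy)]
  have h3 : ∏ x ∈ O, (x * b⁻¹) ∈ H := Submonoid.prod_mem _ (by
    intro x hx
    obtain ⟨g, rfl⟩ := hOmem.1 hx
    exact hH g)
  rwa [Finset.prod_mul_distrib, hprod, one_mul, Finset.prod_const, hOc] at h3

/-- The orbit of `a` is stable under multiplication by the orbit of `b`. -/
theorem stable_of_coprime [Finite V] {p : ℕ} [hp : Fact p.Prime] (hV : PV p V) {a b : V}
    (hinv : ∀ v : V, (∀ g : G, g • v = v) → v = 1) (hb : ¬ p ∣ (stabilizer G b).index)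
    (h1 : Nat.Coprime (stabilizer G a).index (stabilizer G b).index)
    (h2 : Nat.Coprime (stabilizer G (a * b)).index (stabilizer G b).index) (g k : G) :
    ∃ y : G, y • a = (k • a) * (g • b) := by
  let H : Submonoid V :=
    { carrier := {x | ∀ k : G, ∃ y : G, y • a = (k • a) * x}
      one_mem' := fun k => ⟨k, by rw [mul_one]⟩
      mul_mem' := by
        intro x y hx hy k
        obtain ⟨k1, hk1⟩ := hx k
        obtain ⟨k2, hk2⟩ := hy k1
        exact ⟨k2, by rw [hk2, hk1, mul_assoc]⟩ }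
  have h3 : b⁻¹ ^ (stabilizer G b).index ∈ H :=
    exists_invariant_pow b hinv (H := H) (fun g k => shift h1 h2 g k)
  obtain ⟨j, hj⟩ := hV.exists_pow hb
  have h4 : b⁻¹ ∈ H := by
    have h5 := H.pow_mem h3 j
    rwa [← pow_mul, hj] at h5
  obtain ⟨n, hn⟩ := hV
  have h5 : b ∈ H := by
    have h5 := H.pow_mem h4 (p ^ n - 1)
    have h6 : b⁻¹ ^ (p ^ n - 1) = b := by
      have h8 : b⁻¹ ^ (p ^ n - 1) * b⁻¹ = 1 := by
        rw [← pow_succ, Nat.sub_add_cancel (Nat.one_le_pow _ _ hp.out.pos), hn]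
      rw [mul_inv_eq_one] at h8
      exact h8
    rwa [h6] at h5
  have h6 : g • b ∈ H := by
    have h7 : ((g • b) * b⁻¹) * b ∈ H := H.mul_mem (fun k => shift h1 h2 g k) h5
    rwa [inv_mul_cancel_right] at h7
  exact h6 k

theorem smul_eq_of_coprime {p : ℕ} [hp : Fact p.Prime] (hV : PV p V) {a b : V}
    (ha : ¬ p ∣ (stabilizer G a).index)
    (h1 : Nat.Coprime (stabilizer G a).index (stabilizer G b).index)
    (h2 : Nat.Coprime (stabilizer G (a * b)).index (stabilizer G b).index) (g : G) :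
    g • b = b := by
  have h3 := pow_eq_one_of_orbit (G := G) (a := a) (x := (g • b) * b⁻¹) (fun k => shift h1 h2 g k)
  exact mul_inv_eq_one.1 (hV.eq_one ha h3)

/-- the norm map -/
noncomputable def nm (F : Subgroup G) : V →* V :=
  letI := Fintype.ofFinite F
  { toFun := fun v => ∏ g : F, (g : G) • v
    map_one' := by simp
    map_mul' := by
      intro v w
      simp only [smul_mul', Finset.prod_mul_distrib] }

theorem nm_apply (F : Subgroup G) [Fintype F] (v : V) : nm F v = ∏ g : F, (g : G) • v := by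
  have : ‹Fintype F› = Fintype.ofFinite F := Subsingleton.elim _ _
  rw [this]; rfl

theorem smul_nm (F : Subgroup G) {y : G} (hy : y ∈ F) (v : V) : y • nm F v = nm F v := by
  letI := Fintype.ofFinite F
  rw [nm_apply, Finset.smul_prod']
  refine Fintype.prod_equiv (Equiv.mulLeft (⟨y, hy⟩ : F)) _ _ (fun g => ?_)
  rw [Equiv.coe_mulLeft, ← mul_smul]; rfl

theorem nm_smul (F : Subgroup G) {y : G} (hy : y ∈ F) (v : V) : nm F (y • v) = nm F v := by
  letI := Fintype.ofFinite F
  rw [nm_apply, nm_apply]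
  refine Fintype.prod_equiv (Equiv.mulRight (⟨y, hy⟩ : F)) _ _ (fun g => ?_)
  rw [Equiv.coe_mulRight, ← mul_smul]; rfl

theorem nm_of_fixed (F : Subgroup G) {v : V} (hv : ∀ y ∈ F, y • v = v) :
    nm F v = v ^ Nat.card F := by
  letI := Fintype.ofFinite F
  rw [nm_apply, Finset.prod_congr rfl (fun (g : F) _ => hv (g : G) g.2), Finset.prod_const,
    Finset.card_univ, Nat.card_eq_fintype_card]

theorem nm_comm (F : Subgroup G) {x : G} (hc : ∀ y ∈ F, ∀ v : V, x • y • v = y • x • v) (v : V) :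
    nm F (x • v) = x • nm F v := by
  letI := Fintype.ofFinite F
  rw [nm_apply, nm_apply, Finset.smul_prod']
  refine Finset.prod_congr rfl (fun g _ => ?_)
  rw [hc g g.2]

theorem nm_conj (F : Subgroup G) {x : G} (hc : ∀ y ∈ F, x * y * x⁻¹ ∈ F) (v : V) :
    nm F (x • v) = x • nm F v := by
  letI := Fintype.ofFinite F
  rw [nm_apply, nm_apply, Finset.smul_prod']
  symm
  let f : F → F := fun y => ⟨x * y * x⁻¹, hc y y.2⟩
  have hf : Function.Bijective f := by
    rw [← Finite.injective_iff_bijective]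
    intro a b hab
    have h1 : x * (a : G) * x⁻¹ = x * b * x⁻¹ := congrArg Subtype.val hab
    exact Subtype.ext (mul_left_cancel (mul_right_cancel h1))
  refine Fintype.prod_bijective f hf _ _ (fun g => ?_)
  show x • (g : G) • v = (x * g * x⁻¹) • x • v
  rw [← mul_smul, ← mul_smul, inv_mul_cancel_right]

theorem nm_mem (F : Subgroup G) (U : Subgroup V) (hU : ∀ y ∈ F, ∀ v ∈ U, y • v ∈ U) {v : V}
    (hv : v ∈ U) : nm F v ∈ U := by
  letI := Fintype.ofFinite F
  rw [nm_apply]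
  exact Subgroup.prod_mem U (fun g _ => hU g g.2 v hv)

theorem exists_nm_ne {F : Subgroup G} (h : ∃ y ∈ F, ∃ v : V, y • v ≠ v) :
    ∃ l : V, l ≠ 1 ∧ nm F l = 1 := by
  obtain ⟨y, hy, v, hv⟩ := h
  refine ⟨(y • v) * v⁻¹, fun h => hv (mul_inv_eq_one.1 h), ?_⟩
  rw [map_mul, map_inv, nm_smul F hy, mul_inv_cancel]

/-- Fixed points in cosets. -/
theorem exists_fixed_in_coset {p : ℕ} [hp : Fact p.Prime] (hV : PV p V) (L : Subgroup G)
    (hL : ¬ p ∣ Nat.card L) (W U : Subgroup V)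
    (hUL : ∀ g ∈ L, ∀ w ∈ U, g • w ∈ U) {a : V} (haU : a ∈ U)
    (ha : ∀ g ∈ L, (g • a) * a⁻¹ ∈ W) :
    ∃ b : V, b ∈ U ∧ b * a⁻¹ ∈ W ∧ ∀ g ∈ L, g • b = b := by
  letI := Fintype.ofFinite L
  obtain ⟨j, hj⟩ := hV.exists_pow hL
  refine ⟨nm L a ^ j, U.pow_mem (nm_mem L U hUL haU) j, ?_, ?_⟩
  · have h1 : nm L a * (a ^ Nat.card L)⁻¹ ∈ W := by
      have h2 : nm L a * (a ^ Nat.card L)⁻¹ = ∏ g : L, ((g : G) • a) * a⁻¹ := by
        rw [nm_apply, Finset.prod_mul_distrib, Finset.prod_const, Finset.card_univ,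
          Nat.card_eq_fintype_card, inv_pow]
      rw [h2]
      exact Subgroup.prod_mem W (fun g _ => ha g g.2)
    have h3 := W.pow_mem h1 j
    rwa [mul_pow, inv_pow, ← pow_mul, hj] at h3
  · intro g hg
    rw [smul_pow', smul_nm L hg]

theorem exists_fixed_coset' [Finite V] {p : ℕ} [hp : Fact p.Prime] (hV : PV p V)
    (P : Subgroup G) (hP : IsPGroup p P) (W : Subgroup V)
    (hWP : ∀ x ∈ P, ∀ w ∈ W, x • w ∈ W) (hW : ∃ b : V, b ∉ W) :
    ∃ b : V, b ∉ W ∧ ∀ x ∈ P, (x • b) * b⁻¹ ∈ W := by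
  haveI : MulAction.QuotientAction P W := ⟨by
    intro x a a' ha
    have h1 : (x • a)⁻¹ * (x • a') = (x : G) • (a⁻¹ * a') := by
      rw [smul_mul', smul_inv']; rfl
    rw [h1]
    exact hWP _ x.2 _ ha⟩
  have hcard : p ∣ Nat.card (V ⧸ W) := by
    have h1 := hV.isPGroup.to_quotient W
    obtain ⟨n, hn⟩ := IsPGroup.iff_card.1 h1
    rcases Nat.eq_zero_or_pos n with h0 | h0
    · exfalso
      rw [h0, pow_zero] at hn
      obtain ⟨b, hb⟩ := hW
      apply hb
      have h2 : W.index = 1 := hn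
      rw [Subgroup.index_eq_one] at h2
      rw [h2]
      trivial
    · rw [hn]; exact dvd_pow_self p h0.ne'
  have hfix : ((1 : V) : V ⧸ W) ∈ fixedPoints P (V ⧸ W) := by
    intro x
    show (((x : G) • (1 : V) : V) : V ⧸ W) = _
    rw [smul_one]
  obtain ⟨c, hc, hne⟩ := hP.exists_fixed_point_of_prime_dvd_card_of_fixed_point _ hcard hfix
  obtain ⟨b, rfl⟩ := QuotientGroup.mk_surjective c
  refine ⟨b, ?_, ?_⟩
  · intro hb
    apply hne
    rw [QuotientGroup.eq, inv_one, one_mul]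
    exact hb
  · intro x hx
    have h2 := hc ⟨x, hx⟩
    have h3 : ((x • b : V) : V ⧸ W) = (b : V ⧸ W) := h2
    have h4 := QuotientGroup.eq.1 h3.symm
    rwa [mul_comm] at h4

end basic

end Cfsg.Agent.H673.Orb
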