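import Mathlib
import Cfsg.Agent.H673.Orb2
import Cfsg.Agent.H673.ConnA
import Cfsg.Agent.H673.DiscAb

/-!
# The relative degree graph: connected case, `N` a `p`-group

The basic structure.
-/

set_option autoImplicit false
set_option linter.style.haveILetI false
set_option linter.unusedSectionVars false
open Cfsg

namespace Cfsg.Agent.H673

open Cfsg.Agent.H672
open Cfsg.Agent.Characters.Core Cfsg.Agent.Characters.Clifford
open scoped ComplexConjugate

universe u v w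

section

variable {G : Type u} [Group G] [Finite G] {N : Subgroup G} [hN : N.Normal]
variable {p : ℕ} [hp : Fact p.Prime]

attribute [local instance] dualAct

theorem stab_dvd_of_over {χ : G → ℂ} (hχ : IsIrrCharacter G χ) {l : N →* ℂˣ}
    (ho : Over N.subtype χ (lf l)) : (MulAction.stabilizer G l).index ∣ charDegree χ := by
  rw [stabilizer_eq]
  exact index_dvd_of_over hχ (isIrr_lf l) ho

theorem mem_rel_of_over {χ : G → ℂ} (hχ : IsIrrCharacter G χ) {l : N →* ℂˣ}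
    (ho : Over N.subtype χ (lf l)) (hl1 : l ≠ 1) : charDegree χ ∈ relCharDegrees N :=
  mem_relCharDegrees_of_over N hχ (isIrr_lf l) ho (lf_ne_one hl1)

theorem ER_stab {hNp : IsPGroup p N} {R : Sylow p G} {l : N →* ℂˣ} (hl : l ∈ ER hNp R) :
    (R : Subgroup G) ≤ MulAction.stabilizer G l := by
  rw [stabilizer_eq]
  obtain ⟨ν, hν⟩ := (mem_ER_iff hNp R l).1 hl
  have hKT : N ⊔ (R : Subgroup G) ≤ inertia N (lf l) := by
    refine le_inertia_of_extends (isIrr_isClassFunction (isIrr_lf ν)) ?_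
    funext n
    exact congrArg _ (hν n)
  exact le_sup_right.trans hKT

theorem ER_ne_top {hNp : IsPGroup p N} (hNG : N ≤ commutator G) {R : Sylow p G} {l : N →* ℂˣ}
    (hl : l ∈ ER hNp R) (hl1 : l ≠ 1) : MulAction.stabilizer G l ≠ ⊤ := by
  rw [stabilizer_eq]
  obtain ⟨ν, hν⟩ := (mem_ER_iff hNp R l).1 hl
  obtain ⟨k, hk⟩ := exists_pow_pV hNp
  exact inertia_ne_top hNG R hl1 (hk l) ν hν

theorem mem_ER_of_not_dvd (hNp : IsPGroup p N) {R : Sylow p G} {l : N →* ℂˣ}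
    (hR : (R : Subgroup G) ≤ MulAction.stabilizer G l) {χ : G → ℂ} (hχ : IsIrrCharacter G χ)
    (ho : Over N.subtype χ (lf l)) (hd : ¬ p ∣ charDegree χ) : l ∈ ER hNp R := by
  rw [stabilizer_eq] at hR
  obtain ⟨ξ, hξ, he⟩ := extends_of_invariant N R (isIrr_lf l) hR hχ ho hd
  have hξ1 : charDegree ξ = 1 := by
    rw [← charDegree_comp_one (inclK N (R : Subgroup G)), he, charDegree_lf]
  obtain ⟨ν, rfl⟩ := exists_hom_of_degree_one hξ hξ1
  exact (mem_ER_iff hNp R l).2 ⟨ν, fun n => Units.ext (congrFun he n)⟩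

theorem exists_mem_ER (hNp : IsPGroup p N) {l : N →* ℂˣ} {χ : G → ℂ} (hχ : IsIrrCharacter G χ)
    (ho : Over N.subtype χ (lf l)) (hd : ¬ p ∣ charDegree χ) : ∃ R : Sylow p G, l ∈ ER hNp R := by
  have h1 : ¬ p ∣ (MulAction.stabilizer G l).index := fun h => hd (h.trans (stab_dvd_of_over hχ ho))
  obtain ⟨R, hR⟩ := exists_sylow_le _ h1
  exact ⟨R, mem_ER_of_not_dvd hNp hR hχ ho hd⟩

theorem ER_not_dvd {hNp : IsPGroup p N} {R : Sylow p G} {l : N →* ℂˣ} (hl : l ∈ ER hNp R) :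
    ¬ p ∣ (MulAction.stabilizer G l).index := fun h =>
  R.not_dvd_index (h.trans (Subgroup.index_dvd_of_le (ER_stab hl)))

theorem ER_exists_ext {hNp : IsPGroup p N} {R : Sylow p G} {l : N →* ℂˣ} (hl : l ∈ ER hNp R) :
    ∃ (hNT : N ≤ inertia N (lf l)) (F : inertia N (lf l) →* ℂˣ), ∀ n : N, F ⟨n, hNT n.2⟩ = l n := by
  obtain ⟨ν, hν⟩ := (mem_ER_iff hNp R l).1 hl
  obtain ⟨k, hk⟩ := exists_pow_pV hNp
  have hKT : N ⊔ (R : Subgroup G) ≤ inertia N (lf l) := by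
    refine le_inertia_of_extends (isIrr_isClassFunction (isIrr_lf ν)) ?_
    funext n
    exact congrArg _ (hν n)
  obtain ⟨m, hm⟩ := lin_extends_to N R (N ⊔ (R : Subgroup G)) (inertia N (lf l)) le_sup_left
    le_sup_right hKT l (hk l) le_rfl ν hν
  exact ⟨le_sup_left.trans hKT, m, hm⟩

/-- a character over an extendible one, of degree the index of the stabilizer -/
theorem ER_exists_irr {hNp : IsPGroup p N} {R : Sylow p G} {l : N →* ℂˣ} (hl : l ∈ ER hNp R) :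
    ∃ χ : G → ℂ, IsIrrCharacter G χ ∧ Over N.subtype χ (lf l) ∧
      charDegree χ = (MulAction.stabilizer G l).index := by
  obtain ⟨hNT, F, hF⟩ := ER_exists_ext hl
  rw [stabilizer_eq]
  exact exists_irr_index (N := N) l _ rfl hNT F hF

theorem ER_of_stab {hNp : IsPGroup p N} {R R' : Sylow p G} {l : N →* ℂˣ} (hl : l ∈ ER hNp R)
    (hR' : (R' : Subgroup G) ≤ MulAction.stabilizer G l) : l ∈ ER hNp R' := by
  obtain ⟨χ, hχ, ho, hd⟩ := ER_exists_irr hl
  exact mem_ER_of_not_dvd hNp hR' hχ ho (hd ▸ ER_not_dvd hl)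

/-- the constituents of a character of degree prime to `p` on a normal `p`-subgroup are linear -/
theorem lin_of_not_dvd (hNp : IsPGroup p N) {χ : G → ℂ} (hχ : IsIrrCharacter G χ)
    (hd : ¬ p ∣ charDegree χ) {θ : N → ℂ} (hθ : IsIrrCharacter N θ) (ho : Over N.subtype χ θ) :
    ∃ l : N →* ℂˣ, θ = lf l := by
  refine exists_hom_of_degree_one hθ ?_
  have h1 : charDegree θ ∣ charDegree χ :=
    (dvd_mul_left _ _).trans (index_mul_charDegree_dvd N hχ hθ ho)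
  have h2 : charDegree θ ∣ Nat.card N := Blocks.Knorr.charDegree_dvd hθ
  obtain ⟨k, hk⟩ := IsPGroup.iff_card.1 hNp
  rw [hk] at h2
  have h3 : Nat.Coprime (charDegree χ) (p ^ k) :=
    Nat.Coprime.pow_right _ ((Nat.Prime.coprime_iff_not_dvd hp.out).2 hd).symm
  exact Nat.eq_one_of_dvd_coprimes h3 h1 h2

theorem pV_dual (hNp : IsPGroup p N) : Orb.PV p (N →* ℂˣ) := by
  obtain ⟨k, hk⟩ := exists_pow_pV hNp
  exact ⟨k, fun l => MonoidHom.ext (hk l)⟩

/-- The situation to be excluded. -/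
structure Bad (p : ℕ) (N : Subgroup G) [N.Normal] (μ : N →* ℂˣ) (b : ℕ) : Prop where
  hNp : IsPGroup p N
  hNG : N ≤ commutator G
  hb : (MulAction.stabilizer G μ).index ∣ b
  hμ1 : μ ≠ 1
  hμE : ∃ R : Sylow p G, μ ∈ ER hNp R
  f1 : ∃ a ∈ relCharDegrees N, p ∣ a ∧ ∀ y ∈ relCharDegrees N, ¬ p ∣ y → Nat.Coprime a y
  f2 : ∀ z ∈ relCharDegrees N, p ∣ z → ∀ d ∈ relCharDegrees N, ¬ Nat.Coprime z d → Nat.Coprime d b
  edge : ∃ x ∈ relCharDegrees N, ∃ y ∈ relCharDegrees N, p ∣ x ∧ ¬ p ∣ y ∧ ¬ Nat.Coprime x y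

namespace Bad

variable {μ : N →* ℂˣ} {b : ℕ} (h : Bad p N μ b)
include h

theorem u_ne_one : (MulAction.stabilizer G μ).index ≠ 1 := by
  intro h1
  obtain ⟨R, hR⟩ := h.hμE
  exact ER_ne_top h.hNG hR h.hμ1 (Subgroup.index_eq_one.1 h1)

theorem not_dvd_u : ¬ p ∣ (MulAction.stabilizer G μ).index := by
  obtain ⟨R, hR⟩ := h.hμE
  exact ER_not_dvd hR

/-- a number having a common factor with `u(μ)` -/
theorem not_coprime_of_dvd {m : ℕ} (hm : (MulAction.stabilizer G μ).index ∣ m) :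
    ¬ Nat.Coprime m b := fun h1 => h.u_ne_one (Nat.eq_one_of_dvd_coprimes h1 hm h.hb)

/-- `p`-divisible degrees are prime to `b` -/
theorem coprime_b {z : ℕ} (hz : z ∈ relCharDegrees N) (hpz : p ∣ z) : Nat.Coprime z b :=
  h.f2 z hz hpz z hz (not_coprime_self (one_lt_of_mem_rel h.hNG hz))

theorem a0 {κ : N →* ℂˣ} (hκ1 : κ ≠ 1) (hκ : ¬ Nat.Coprime (MulAction.stabilizer G κ).index b)
    {χ : G → ℂ} (hχ : IsIrrCharacter G χ) (ho : Over N.subtype χ (lf κ)) :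
    ¬ p ∣ charDegree χ ∧ ∀ z ∈ relCharDegrees N, p ∣ z → Nat.Coprime z (charDegree χ) := by
  have h1 : ¬ Nat.Coprime (charDegree χ) b := fun h1 =>
    hκ (h1.coprime_dvd_left (stab_dvd_of_over hχ ho))
  have h2 := mem_rel_of_over hχ ho hκ1
  constructor
  · intro h3
    exact h1 (h.coprime_b h2 h3)
  · intro z hz hpz
    by_contra h3
    exact h1 (h.f2 z hz hpz _ h2 h3)

/-- there is no nontrivial invariant character -/
theorem inv_eq_one {l : N →* ℂˣ} (hl : ∀ g : G, g • l = l) : l = 1 := by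
  by_contra hl1
  have hstab : MulAction.stabilizer G (μ * l) = MulAction.stabilizer G μ :=
    Orb.stab_mul_of_fixed μ hl
  have hκ1 : μ * l ≠ 1 := by
    intro h1
    apply h.u_ne_one
    rw [← hstab, h1]
    have : MulAction.stabilizer G (1 : N →* ℂˣ) = ⊤ :=
      Orb.stab_one (G := G) (V := N →* ℂˣ)
    rw [this, Subgroup.index_top]
  obtain ⟨χ, hχ, ho⟩ := exists_over N _ (isIrr_lf (μ * l))
  have h1 := (h.a0 hκ1 (by
    rw [hstab]; exact h.not_coprime_of_dvd dvd_rfl) hχ ho).1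
  obtain ⟨R, hR⟩ := h.hμE
  have h2 : (R : Subgroup G) ≤ MulAction.stabilizer G (μ * l) := by
    rw [hstab]; exact ER_stab hR
  have h3 := mem_ER_of_not_dvd h.hNp h2 hχ ho h1
  have h4 : l ∈ ER h.hNp R := by
    have := (ER h.hNp R).mul_mem ((ER h.hNp R).inv_mem hR) h3
    rwa [inv_mul_cancel_left] at this
  apply ER_ne_top h.hNG h4 hl1
  rw [eq_top_iff]
  intro g _
  exact hl g

/-- the product of `η` and `μ` -/
theorem pd_mul {η : N →* ℂˣ} (hη : η ≠ 1) {ψ : G → ℂ} (hψ : IsIrrCharacter G ψ)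
    (ho : Over N.subtype ψ (lf η)) (hpψ : p ∣ charDegree ψ) :
    η * μ ≠ 1 ∧ ∃ ψ' : G → ℂ, IsIrrCharacter G ψ' ∧ Over N.subtype ψ' (lf (η * μ)) ∧
      p ∣ charDegree ψ' := by
  have hpV := pV_dual h.hNp
  have hmem := mem_rel_of_over hψ ho hη
  have hc1 : Nat.Coprime (charDegree ψ) b := h.coprime_b hmem hpψ
  have hc2 : Nat.Coprime (MulAction.stabilizer G η).index (MulAction.stabilizer G μ).index :=
    (hc1.coprime_dvd_left (stab_dvd_of_over hψ ho)).coprime_dvd_right h.hb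
  have hne : η * μ ≠ 1 := by
    intro h1
    have h2 : MulAction.stabilizer G η = MulAction.stabilizer G μ := Orb.stab_of_mul_eq_one h1
    rw [h2, Nat.coprime_self] at hc2
    exact h.u_ne_one hc2
  refine ⟨hne, ?_⟩
  by_contra hcon
  push Not at hcon
  obtain ⟨χ, hχ, hoχ⟩ := exists_over N _ (isIrr_lf (η * μ))
  have hpχ := hcon χ hχ hoχ
  by_cases hc3 : Nat.Coprime (MulAction.stabilizer G (η * μ)).index
      (MulAction.stabilizer G μ).index
  · -- index equality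
    have h1 := Orb.index_eq_of_coprime hc2 hc3
    have h2 : ¬ p ∣ (MulAction.stabilizer G η).index := by
      rw [h1]
      exact fun h3 => hpχ (h3.trans (stab_dvd_of_over hχ hoχ))
    exact h.hμ1 (h.inv_eq_one (fun g => Orb.smul_eq_of_coprime hpV h2 hc2 hc3 g))
  · have h1 : ¬ Nat.Coprime (MulAction.stabilizer G (η * μ)).index b := fun h2 =>
      hc3 (h2.coprime_dvd_right h.hb)
    have h2 := (h.a0 hne h1 hχ hoχ).2 _ hmem hpψ
    have h3 : Nat.Coprime (MulAction.stabilizer G (μ * η)).index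
        (MulAction.stabilizer G η).index := by
      rw [mul_comm μ η]
      exact (h2.coprime_dvd_right (stab_dvd_of_over hχ hoχ)).symm.coprime_dvd_right
        (stab_dvd_of_over hψ ho)
    exact hη (h.inv_eq_one (fun g => Orb.smul_eq_of_coprime hpV h.not_dvd_u hc2.symm h3 g))

theorem stable {η : N →* ℂˣ} (hη : η ≠ 1) {ψ : G → ℂ} (hψ : IsIrrCharacter G ψ)
    (ho : Over N.subtype ψ (lf η)) (hpψ : p ∣ charDegree ψ) (g k : G) :
    ∃ y : G, y • η = (k • η) * (g • μ) := by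
  haveI := finite_dual N
  obtain ⟨h1, ψ', hψ', ho', hpψ'⟩ := h.pd_mul hη hψ ho hpψ
  have hc1 := h.coprime_b (mem_rel_of_over hψ ho hη) hpψ
  have hc2 := h.coprime_b (mem_rel_of_over hψ' ho' h1) hpψ'
  exact Orb.stable_of_coprime (pV_dual h.hNp) (fun v hv => h.inv_eq_one hv) h.not_dvd_u
    ((hc1.coprime_dvd_left (stab_dvd_of_over hψ ho)).coprime_dvd_right h.hb)
    ((hc2.coprime_dvd_left (stab_dvd_of_over hψ' ho')).coprime_dvd_right h.hb) g k

theorem dvd_u {η : N →* ℂˣ} (hη : η ≠ 1) {ψ : G → ℂ} (hψ : IsIrrCharacter G ψ)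
    (ho : Over N.subtype ψ (lf η)) (hpψ : p ∣ charDegree ψ) :
    p ∣ (MulAction.stabilizer G η).index := by
  by_contra h1
  have h2 := Orb.pow_eq_one_of_orbit (G := G) (a := η) (x := μ) (fun k => by
    obtain ⟨y, hy⟩ := h.stable hη hψ ho hpψ 1 k
    exact ⟨y, by rw [hy, one_smul]⟩)
  exact h.hμ1 ((pV_dual h.hNp).eq_one h1 h2)

/-- the dichotomy -/
theorem not_dvd_of_u {l : N →* ℂˣ} (hl1 : l ≠ 1) (hl : ¬ p ∣ (MulAction.stabilizer G l).index)
    {χ : G → ℂ} (hχ : IsIrrCharacter G χ) (ho : Over N.subtype χ (lf l)) :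
    ¬ p ∣ charDegree χ := fun h1 => hl (h.dvd_u hl1 hχ ho h1)

theorem mem_ER_of_u {l : N →* ℂˣ} (hl1 : l ≠ 1) (hl : ¬ p ∣ (MulAction.stabilizer G l).index) :
    ∃ R : Sylow p G, l ∈ ER h.hNp R := by
  obtain ⟨χ, hχ, ho⟩ := exists_over N _ (isIrr_lf l)
  exact exists_mem_ER h.hNp hχ ho (h.not_dvd_of_u hl1 hl hχ ho)

theorem inertia_pair {r : ℕ} [hr : Fact r.Prime] {l : N →* ℂˣ} (hl1 : l ≠ 1)
    (hl : ¬ p ∣ (MulAction.stabilizer G l).index)
    (hdeg : ∀ χ : G → ℂ, IsIrrCharacter G χ → Over N.subtype χ (lf l) → ¬ r ∣ charDegree χ)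
    (hIM : ∀ T : Subgroup G, N ≤ T → H670.PSing.IM r (T ⧸ N.subgroupOf T))
    (Q : Sylow r G) (hQT : (Q : Subgroup G) ≤ MulAction.stabilizer G l) :
    (∀ t ∈ MulAction.stabilizer G l, ∀ x ∈ (Q : Subgroup G),
      t * x * t⁻¹ ∈ N ⊔ (Q : Subgroup G)) ∧
    (∀ x ∈ (Q : Subgroup G), ∀ y ∈ (Q : Subgroup G), x * y * x⁻¹ * y⁻¹ ∈ N) := by
  obtain ⟨R, hR⟩ := h.mem_ER_of_u hl1 hl
  obtain ⟨hNT, F, hF⟩ := ER_exists_ext hR
  rw [stabilizer_eq] at hQT ⊢
  exact inertia_IM l _ rfl hNT F hF hdeg (hIM _ hNT) Q hQT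

theorem card_sylow_dvd (hIM : ∀ T : Subgroup G, N ≤ T → H670.PSing.IM p (T ⧸ N.subgroupOf T))
    {l : N →* ℂˣ} (hl1 : l ≠ 1) (hl : ¬ p ∣ (MulAction.stabilizer G l).index) :
    Nat.card (Sylow p G) ∣ (MulAction.stabilizer G l).index := by
  obtain ⟨R, hR⟩ := exists_sylow_le _ hl
  obtain ⟨h1, -⟩ := h.inertia_pair hl1 hl (fun χ hχ ho => h.not_dvd_of_u hl1 hl hχ ho) hIM R hR
  rw [R.card_eq_index_normalizer]
  apply Subgroup.index_dvd_of_le
  intro t ht
  apply Subgroup.mem_normalizer_fintype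
  intro x hx
  have h2 := h1 t ht x hx
  rwa [sup_eq_right.2 (h.hNp.le_sylow_of_normal R)] at h2

theorem sylow_normal (hIM : ∀ T : Subgroup G, N ≤ T → H670.PSing.IM p (T ⧸ N.subgroupOf T))
    (P : Sylow p G) : (P : Subgroup G).Normal := by
  have h1 := h.card_sylow_dvd hIM h.hμ1 h.not_dvd_u
  obtain ⟨x, hx, y, hy, hpx, hpy, hxy⟩ := h.edge
  have h2 := h.f2 x hx hpx y hy hxy
  obtain ⟨⟨χ, hχ⟩, hk, rfl⟩ := hy
  dsimp only at hk hpy h2
  obtain ⟨θ, hθ, ho⟩ := exists_under (f := N.subtype) hχ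
  obtain ⟨l, rfl⟩ := lin_of_not_dvd h.hNp hχ hpy hθ ho
  have hl1 : l ≠ 1 := by
    rintro rfl
    exact ne_one_of_over N hχ hk (isIrr_lf _) ho lf_one
  have h3 := h.card_sylow_dvd hIM hl1
    (fun h4 => hpy (h4.trans (stab_dvd_of_over hχ ho)))
  have h4 : Nat.card (Sylow p G) = 1 :=
    Nat.eq_one_of_dvd_coprimes h2 (h3.trans (stab_dvd_of_over hχ ho)) (h1.trans h.hb)
  haveI : Subsingleton (Sylow p G) := (Nat.card_eq_one_iff_unique.1 h4).1
  exact Sylow.normal_of_subsingleton P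

theorem comm_mem (hIM : ∀ T : Subgroup G, N ≤ T → H670.PSing.IM p (T ⧸ N.subgroupOf T))
    (P : Sylow p G) : ∀ x ∈ (P : Subgroup G), ∀ y ∈ (P : Subgroup G), x * y * x⁻¹ * y⁻¹ ∈ N := by
  have hPn := h.sylow_normal hIM P
  obtain ⟨R, hR⟩ := exists_sylow_le _ h.not_dvd_u
  obtain ⟨g, hg⟩ := MulAction.exists_smul_eq G R P
  have h1 : (R : Subgroup G) = (P : Subgroup G) := by
    have hg' : (R : Subgroup G) = ((g⁻¹ • P : Sylow p G) : Subgroup G) := by rw [← hg, inv_smul_smul]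
    rw [hg', Sylow.coe_subgroup_smul]
    exact hPn.conj_smul_eq_self g⁻¹
  rw [← h1]
  exact (h.inertia_pair h.hμ1 h.not_dvd_u
    (fun χ hχ ho => h.not_dvd_of_u h.hμ1 h.not_dvd_u hχ ho) hIM R hR).2

/-- elements of order prime to `p`... stabilizers of index prime to `p` contain `P` -/
theorem le_stab (hIM : ∀ T : Subgroup G, N ≤ T → H670.PSing.IM p (T ⧸ N.subgroupOf T))
    (P : Sylow p G) (T : Subgroup G) (hT : ¬ p ∣ T.index) : (P : Subgroup G) ≤ T := by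
  have hPn := h.sylow_normal hIM P
  obtain ⟨R, hR⟩ := exists_sylow_le _ hT
  obtain ⟨g, hg⟩ := MulAction.exists_smul_eq G R P
  have h1 : (R : Subgroup G) = (P : Subgroup G) := by
    have hg' : (R : Subgroup G) = ((g⁻¹ • P : Sylow p G) : Subgroup G) := by rw [← hg, inv_smul_smul]
    rw [hg', Sylow.coe_subgroup_smul]
    exact hPn.conj_smul_eq_self g⁻¹
  rw [← h1]
  exact hR

end Bad

end

end Cfsg.Agent.H673
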