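import Mathlib
import Cfsg.Agent.H673.Orb2

/-!
# Orbits on an abelian group: normal Sylow `p`-subgroup with complement
-/

set_option autoImplicit false
set_option linter.unusedSectionVars false
set_option linter.style.haveILetI false

namespace Cfsg.Agent.H673.Orb

open MulAction

universe u v

variable {G : Type u} [Group G] [Finite G] {V : Type v} [CommGroup V] [MulDistribMulAction G V]
variable {p : ℕ} [hp : Fact p.Prime]

theorem not_dvd_card_sylow {f : ℕ} [hf : Fact f.Prime] (hfp : f ≠ p) (F : Sylow f G) :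
    ¬ p ∣ Nat.card (F : Subgroup G) := by
  obtain ⟨c, hc⟩ := IsPGroup.iff_card.1 F.isPGroup'
  rw [hc]
  intro h1
  exact hfp ((Nat.prime_dvd_prime_iff_eq hp.out hf.out).1 (hp.out.dvd_of_dvd_pow h1)).symm

theorem nm_smul_all (P K F : Subgroup G) (hdec : ∀ g : G, ∃ x ∈ P, ∃ k ∈ K, x * k = g)
    (hPF : ∀ x ∈ P, ∀ y ∈ F, ∀ v : V, x • y • v = y • x • v)
    (hnorm : ∀ k ∈ K, ∀ y ∈ F, k * y * k⁻¹ ∈ F) (g : G) (v : V) :
    nm F (g • v) = g • nm F v := by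
  obtain ⟨z, hz, k, hk, rfl⟩ := hdec g
  rw [mul_smul, mul_smul, nm_comm F (fun y hy w => hPF z hz y hy w), nm_conj F (hnorm k hk)]

theorem fixed_smul (P K F : Subgroup G) (hdec : ∀ g : G, ∃ x ∈ P, ∃ k ∈ K, x * k = g)
    (hPF : ∀ x ∈ P, ∀ y ∈ F, ∀ v : V, x • y • v = y • x • v)
    (hnorm : ∀ k ∈ K, ∀ y ∈ F, k * y * k⁻¹ ∈ F) {μ : V} (hμ : ∀ y ∈ F, y • μ = μ) (t : G) :
    ∀ y ∈ F, y • (t • μ) = t • μ := by
  intro y hy
  obtain ⟨z, hz, k, hk, rfl⟩ := hdec t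
  have h2 : (k⁻¹ * y * k) • μ = μ := by
    have h3 := hnorm k⁻¹ (inv_mem hk) y hy
    rw [inv_inv] at h3
    exact hμ _ h3
  have h4 : y • k • μ = k • μ := by
    have h5 : y * k = k * (k⁻¹ * y * k) := by group
    rw [← mul_smul, h5, mul_smul, h2]
  rw [mul_smul, ← hPF z hz y hy, h4]

/-- The situation in which `F` acts nontrivially and is normal. -/
theorem exists_product {f : ℕ} [hf : Fact f.Prime] (hfp : f ≠ p) (hV : PV p V) (P K : Subgroup G)
    (hdec : ∀ g : G, ∃ x ∈ P, ∃ k ∈ K, x * k = g) (F : Sylow f G) {μ : V}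
    (hPF : ∀ x ∈ P, ∀ y ∈ (F : Subgroup G), ∀ v : V, x • y • v = y • x • v)
    (hnorm : ∀ k ∈ K, ∀ y ∈ (F : Subgroup G), k * y * k⁻¹ ∈ (F : Subgroup G))
    (hFμ : ∀ y ∈ (F : Subgroup G), y • μ = μ)
    (hnt : ∃ y ∈ (F : Subgroup G), ∃ v : V, y • v ≠ v) :
    ∃ l : V, f ∣ (stabilizer G l).index ∧ stabilizer G (μ * l) ≤ stabilizer G μ ∧
      stabilizer G (μ * l) ≤ stabilizer G l ∧ μ * l ≠ 1 := by
  obtain ⟨l, hl1, hl⟩ := exists_nm_ne (G := G) (V := V) hnt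
  have hcF := not_dvd_card_sylow hfp F
  have hnm := nm_smul_all P K (F : Subgroup G) hdec hPF hnorm
  have hfl : f ∣ (stabilizer G l).index := by
    by_contra hcon
    obtain ⟨Q, hQ⟩ : ∃ R : Sylow f G, (R : Subgroup G) ≤ stabilizer G l := by
      obtain ⟨Q⟩ : Nonempty (Sylow f (stabilizer G l)) := inferInstance
      have h1 : IsPGroup f ((Q : Subgroup (stabilizer G l)).map (stabilizer G l).subtype) :=
        Q.isPGroup'.map _
      have h2 : ¬ f ∣ ((Q : Subgroup (stabilizer G l)).map (stabilizer G l).subtype).index := by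
        rw [Subgroup.index_map_subtype]
        intro h
        rcases (Nat.Prime.dvd_mul hf.out).1 h with h | h
        · exact Q.not_dvd_index h
        · exact hcon h
      exact ⟨h1.toSylow h2, Subgroup.map_subtype_le _⟩
    obtain ⟨g, rfl⟩ := MulAction.exists_smul_eq G F Q
    have h1 : ∀ y ∈ (F : Subgroup G), y • (g⁻¹ • l) = g⁻¹ • l := by
      intro y hy
      have h2 : g * y * g⁻¹ ∈ ((g • F : Sylow f G) : Subgroup G) := by
        rw [Sylow.coe_subgroup_smul]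
        exact ⟨y, hy, rfl⟩
      have h3 : (g * y * g⁻¹) • l = l := hQ h2
      rw [eq_inv_smul_iff, ← mul_smul, ← mul_smul]
      exact h3
    have h2 := nm_of_fixed (F : Subgroup G) h1
    rw [hnm, hl, smul_one] at h2
    have h3 := hV.eq_one hcF h2.symm
    apply hl1
    rw [← smul_inv_smul g l, h3, smul_one]
  have hst : ∀ t : G, t • (μ * l) = μ * l → t • μ = μ ∧ t • l = l := by
    intro t ht
    rw [smul_mul'] at ht
    have h1 := congrArg (nm (F : Subgroup G)) ht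
    rw [map_mul, map_mul, hnm t l, hl, smul_one, mul_one, mul_one] at h1
    have hfix := fixed_smul P K (F : Subgroup G) hdec hPF hnorm hFμ t
    rw [nm_of_fixed _ hfix, nm_of_fixed _ hFμ] at h1
    have h2 : ((t • μ) * μ⁻¹) ^ Nat.card (F : Subgroup G) = 1 := by
      rw [mul_pow, h1, inv_pow, mul_inv_cancel]
    have h3 : t • μ = μ := mul_inv_eq_one.1 (hV.eq_one hcF h2)
    refine ⟨h3, ?_⟩
    rw [h3] at ht
    exact mul_left_cancel ht
  have hle2 : stabilizer G (μ * l) ≤ stabilizer G l := fun t ht => (hst t ht).2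
  refine ⟨l, hfl, fun t ht => (hst t ht).1, hle2, ?_⟩
  intro h1
  rw [h1, stab_one, top_le_iff] at hle2
  rw [hle2, Subgroup.index_top] at hfl
  exact hf.out.one_lt.ne' (Nat.dvd_one.1 hfl)

/-- the elements fixed by `P` -/
def FixP (P : Subgroup G) (V : Type v) [CommGroup V] [MulDistribMulAction G V] : Subgroup V where
  carrier := {v | ∀ x ∈ P, x • v = v}
  one_mem' := fun x _ => smul_one x
  mul_mem' := by
    intro v w hv hw x hx
    rw [smul_mul', hv x hx, hw x hx]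
  inv_mem' := by
    intro v hv x hx
    rw [smul_inv', hv x hx]

theorem mem_FixP {P : Subgroup G} {v : V} : v ∈ FixP P V ↔ ∀ x ∈ P, x • v = v := Iff.rfl

theorem smul_FixP {P : Subgroup G} (hP : P.Normal) (g : G) {v : V} (hv : v ∈ FixP P V) :
    g • v ∈ FixP P V := by
  intro x hx
  have h1 : (g⁻¹ * x * g) • v = v := hv _ (by
    have := hP.conj_mem x hx g⁻¹
    rwa [inv_inv] at this)
  have h2 : x * g = g * (g⁻¹ * x * g) := by group
  rw [← mul_smul, h2, mul_smul, h1]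

theorem smul_mul_inv (g : G) (v w : V) : g • (v * w⁻¹) = (g • v) * (g • w)⁻¹ := by
  rw [smul_mul', smul_inv']

/-- the averaging argument -/
theorem avg (hV : PV p V) {P K : Subgroup G} (hP : P.Normal)
    (hdec : ∀ g : G, ∃ x ∈ P, ∃ k ∈ K, x * k = g) (hK : ¬ p ∣ Nat.card K) {μ : V}
    (hμ : μ ∈ FixP P V) (hst : ∀ η : V, η ∉ FixP P V → ∀ g : G, ∃ y : G, y • η = η * (g • μ))
    {η : V} (hη : η ∉ FixP P V) (hPη : ∀ x ∈ P, (x • η) * η⁻¹ ∈ FixP P V) :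
    ∃ η₀ : V, η₀ ∉ FixP P V ∧ (∀ x ∈ P, (x • η₀) * η₀⁻¹ ∈ FixP P V) ∧
      (∀ k ∈ K, k • η = η → k • η₀ = η₀) ∧ ∀ g : G, ∃ x ∈ P, x • η₀ = η₀ * (g • μ) := by
  let S : Subgroup G :=
    { carrier := {g | (g • η) * η⁻¹ ∈ FixP P V}
      one_mem' := by
        show ((1 : G) • η) * η⁻¹ ∈ FixP P V
        rw [one_smul, mul_inv_cancel]; exact (FixP P V).one_mem
      mul_mem' := by
        intro x y hx hy
        have hx' : (x • η) * η⁻¹ ∈ FixP P V := hx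
        have hy' : (y • η) * η⁻¹ ∈ FixP P V := hy
        show ((x * y) • η) * η⁻¹ ∈ FixP P V
        have h1 : ((x * y) • η) * η⁻¹ = (x • ((y • η) * η⁻¹)) * ((x • η) * η⁻¹) := by
          rw [smul_mul_inv, mul_smul, ← mul_assoc, inv_mul_cancel_right]
        rw [h1]
        exact (FixP P V).mul_mem (smul_FixP hP x hy') hx'
      inv_mem' := by
        intro x hx
        have hx' : (x • η) * η⁻¹ ∈ FixP P V := hx
        show (x⁻¹ • η) * η⁻¹ ∈ FixP P V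
        have h1 : (x⁻¹ • η) * η⁻¹ = (x⁻¹ • ((x • η) * η⁻¹))⁻¹ := by
          rw [smul_mul_inv, inv_smul_smul, mul_inv_rev, inv_inv]
        rw [h1]
        exact (FixP P V).inv_mem (smul_FixP hP _ hx') }
  have hS : ∀ g : G, g ∈ S ↔ (g • η) * η⁻¹ ∈ FixP P V := fun g => Iff.rfl
  obtain ⟨η₀, -, h2, h3⟩ := exists_fixed_in_coset (G := G) (V := V) hV
    (S ⊓ K) (fun h1 => hK (h1.trans (Subgroup.card_dvd_of_le inf_le_right)))
    (FixP P V) ⊤ (fun _ _ _ _ => trivial) (a := η) trivial (fun g hg => (hS g).1 hg.1)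
  have hS0 : ∀ g : G, (g • η₀) * η₀⁻¹ ∈ FixP P V ↔ g ∈ S := by
    intro g
    rw [hS]
    have h4 : (g • η₀) * η₀⁻¹ = (g • (η₀ * η⁻¹)) * ((g • η) * η⁻¹) * (η₀ * η⁻¹)⁻¹ := by
      rw [smul_mul_inv]
      group
    constructor
    · intro h5
      have h6 : (g • η) * η⁻¹ = (g • (η₀ * η⁻¹))⁻¹ * ((g • η₀) * η₀⁻¹) * (η₀ * η⁻¹) := by
        rw [h4]; group
      rw [h6]
      exact (FixP P V).mul_mem ((FixP P V).mul_mem ((FixP P V).inv_mem (smul_FixP hP g h2)) h5) h2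
    · intro h5
      rw [h4]
      exact (FixP P V).mul_mem ((FixP P V).mul_mem (smul_FixP hP g h2) h5) ((FixP P V).inv_mem h2)
  have hη0 : η₀ ∉ FixP P V := by
    intro h4
    apply hη
    have h5 : η = (η₀ * η⁻¹)⁻¹ * η₀ := by group
    rw [h5]
    exact (FixP P V).mul_mem ((FixP P V).inv_mem h2) h4
  refine ⟨η₀, hη0, fun x hx => (hS0 x).2 (hPη x hx), ?_, ?_⟩
  · intro k hk hkη
    exact h3 k ⟨(hS k).2 (by rw [hkη, mul_inv_cancel]; exact (FixP P V).one_mem), hk⟩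
  · intro g
    obtain ⟨y, hy⟩ := hst η₀ hη0 g
    have h4 : y ∈ S := by
      rw [← hS0, hy, mul_comm η₀, mul_inv_cancel_right]
      exact smul_FixP hP g hμ
    obtain ⟨x, hx, k, hk, rfl⟩ := hdec y
    have h5 : k ∈ S := by
      have h6 : k = x⁻¹ * (x * k) := by group
      rw [h6]
      exact mul_mem (inv_mem ((hS x).2 (hPη x hx))) h4
    refine ⟨x, hx, ?_⟩
    rw [← hy, mul_smul, h3 k ⟨h5, hk⟩]

theorem fix_orbit [Finite V] (hV : PV p V) {P K : Subgroup G} (hP : P.Normal) (hPp : IsPGroup p P)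
    (hdec : ∀ g : G, ∃ x ∈ P, ∃ k ∈ K, x * k = g) (hK : ¬ p ∣ Nat.card K) {μ : V}
    (hμ1 : μ ≠ 1) (hμ : μ ∈ FixP P V)
    (hst : ∀ η : V, η ∉ FixP P V → ∀ g : G, ∃ y : G, y • η = η * (g • μ))
    (hex : ∃ η : V, η ∉ FixP P V) (F : Subgroup G) (hcF : ¬ p ∣ Nat.card F) (hFK : F ≤ K)
    (hFμ : ∀ y ∈ F, y • μ = μ) (hPF : ∀ x ∈ P, ∀ y ∈ F, ∀ v : V, x • y • v = y • x • v) :
    ∀ y ∈ F, ∀ g : G, y • (g • μ) = g • μ := by
  obtain ⟨η, hη, hPη⟩ := exists_fixed_coset' (G := G) (V := V) hV P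
    hPp (FixP P V) (fun x _ w hw => smul_FixP hP x hw) hex
  obtain ⟨η₀, hη₀, hPη₀, -, hη₀s⟩ := avg hV hP hdec hK hμ hst hη hPη
  have hnm : ∀ z ∈ P, ∀ v : V, nm F (z • v) = z • nm F v := fun z hz v =>
    nm_comm F (fun y hy w => hPF z hz y hy w) v
  set κ := nm F η₀ with hκ
  have hκW : κ ∉ FixP P V := by
    intro h1
    obtain ⟨z, hz, hz1⟩ := hη₀s 1
    rw [one_smul] at hz1
    have h2 := hnm z hz η₀
    rw [← hκ, h1 z hz, hz1, map_mul, ← hκ, mul_eq_left, nm_of_fixed _ hFμ] at h2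
    exact hμ1 (hV.eq_one hcF h2)
  have hPκ : ∀ z ∈ P, (z • κ) * κ⁻¹ ∈ FixP P V := by
    intro z hz
    rw [hκ, ← hnm z hz, ← map_inv, ← map_mul]
    exact nm_mem F (FixP P V) (fun y _ v hv => smul_FixP hP y hv) (hPη₀ z hz)
  obtain ⟨κ₀, hκ₀, hPκ₀, hκ₀f, hκ₀s⟩ := avg hV hP hdec hK hμ hst hκW hPκ
  have hFκ₀ : ∀ y ∈ F, y • κ₀ = κ₀ := fun y hy => hκ₀f y (hFK hy) (smul_nm F hy η₀)
  intro y hy g
  obtain ⟨z, hz, hz1⟩ := hκ₀s g
  have h1 := hPF z hz y hy κ₀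
  rw [hFκ₀ y hy, hz1, smul_mul', hFκ₀ y hy] at h1
  exact (mul_left_cancel h1).symm

end Cfsg.Agent.H673.Orb
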