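import Mathlib
import Cfsg.Agent.H673.ConnC
import Cfsg.Agent.H673.Orb3
import Cfsg.Agent.S0026
import Cfsg.Agent.Lib.FrattiniBasic

/-!
# The relative degree graph: connected case, `N` a `p`-group

The complement, and the case in which the Sylow `p`-subgroup acts nontrivially on the dual of `N`.
-/

set_option autoImplicit false
set_option linter.style.haveILetI false
set_option linter.unusedSectionVars false
open Cfsg

namespace Cfsg.Agent.H673

open Cfsg.Agent.H672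
open Cfsg.Agent.Characters.Core Cfsg.Agent.Characters.Clifford
open scoped ComplexConjugate

universe u v w

/-- The Itô-Michler property of all sections. -/
def AllIM (G : Type u) [Group G] : Prop :=
  ∀ (r : ℕ) [Fact r.Prime] (M T : Subgroup G) [M.Normal], M ≤ T →
    H670.PSing.IM r (T ⧸ M.subgroupOf T)

section

variable {G : Type u} [Group G] [Finite G] {N : Subgroup G} [hN : N.Normal]
variable {p : ℕ} [hp : Fact p.Prime]

attribute [local instance] dualAct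

theorem smul_of_mem_N {g : G} (hg : g ∈ N) (l : N →* ℂˣ) : g • l = l := by
  ext n
  rw [smul_apply]
  have e : MulAut.conjNormal g⁻¹ n = (⟨g, hg⟩ : N)⁻¹ * n * ⟨g, hg⟩ := by
    apply Subtype.ext
    rw [MulAut.conjNormal_apply, inv_inv]
    rfl
  rw [e, map_mul, map_mul, map_inv, mul_comm (l ⟨g, hg⟩)⁻¹, inv_mul_cancel_right]

theorem mem_commutator_of_dual {A : Type v} [Group A] [Finite A] {x : A}
    (h : ∀ v : A →* ℂˣ, v x = 1) : x ∈ commutator A := by
  by_contra hx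
  have h1 : (Abelianization.of x : Abelianization A) ≠ 1 := by
    intro h2
    exact hx ((QuotientGroup.eq_one_iff x).1 h2)
  obtain ⟨f, hf⟩ := exists_dual_ne (A := Abelianization A) (fun a b => mul_comm a b) h1
  exact hf (h (f.comp Abelianization.of))

/-- A `p'`-group acting trivially on the dual of a normal `p`-subgroup centralises it. -/
theorem centralises_of_dual (hNp : IsPGroup p N) (F : Subgroup G)
    (hF : Nat.Coprime (Nat.card F) (Nat.card N)) (htriv : ∀ y ∈ F, ∀ v : N →* ℂˣ, y • v = v) :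
    ∀ y ∈ F, ∀ n ∈ N, n * y = y * n := by
  classical
  have hle : F ≤ Subgroup.normalizer (N : Set G) := fun y _ =>
    Subgroup.mem_normalizer_fintype (fun x hx => hN.conj_mem x hx y)
  haveI : Group.IsNilpotent N := IsPGroup.isNilpotent hNp
  have h1 := S0026.result F N hle hF (Or.inr inferInstance)
  have h2 : ⁅N, F⁆ ≤ (commutator N).map N.subtype := by
    rw [Subgroup.commutator_le]
    intro n hn y hy
    have hmem : y * n⁻¹ * y⁻¹ ∈ N := hN.conj_mem _ (inv_mem hn) y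
    refine ⟨⟨n, hn⟩ * ⟨y * n⁻¹ * y⁻¹, hmem⟩, ?_, ?_⟩
    · apply mem_commutator_of_dual
      intro v
      have e : v ⟨y * n⁻¹ * y⁻¹, hmem⟩ = v ⟨n⁻¹, inv_mem hn⟩ := by
        have h3 := DFunLike.congr_fun (htriv y⁻¹ (inv_mem hy) v) (⟨n⁻¹, inv_mem hn⟩ : N)
        rw [smul_apply, inv_inv] at h3
        rw [← h3]
        congr 1
      rw [map_mul, e, ← map_mul]
      have e2 : (⟨n, hn⟩ : N) * ⟨n⁻¹, inv_mem hn⟩ = 1 := Subtype.ext (mul_inv_cancel n)
      rw [e2, map_one]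
    · show n * (y * n⁻¹ * y⁻¹) = n * y * n⁻¹ * y⁻¹
      group
  have h3 : (N ⊓ Subgroup.centralizer (F : Set G)).subgroupOf N = ⊤ := by
    apply frattini_nongenerating
    rw [eq_top_iff]
    intro x _
    have h4 : (x : G) ∈ ⁅N, F⁆ ⊔ (N ⊓ Subgroup.centralizer (F : Set G)) := by rw [h1]; exact x.2
    have h5 : (x : G) ∈ ((commutator N).map N.subtype) ⊔
        (N ⊓ Subgroup.centralizer (F : Set G)) := sup_le_sup_right h2 _ h4
    have h6 : ((commutator N).map N.subtype) ⊔ (N ⊓ Subgroup.centralizer (F : Set G)) ≤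
        ((N ⊓ Subgroup.centralizer (F : Set G)).subgroupOf N ⊔ frattini N).map N.subtype := by
      apply sup_le
      · exact Subgroup.map_mono
          (le_sup_of_le_right (Lib.FrattiniBasic.commutator_le_frattini hNp))
      · intro z hz
        exact ⟨⟨z, hz.1⟩, Subgroup.mem_sup_left hz, rfl⟩
    obtain ⟨z, hz, hzx⟩ := h6 h5
    have h7 : z = x := Subtype.ext hzx
    rwa [← h7]
  intro y hy n hn
  have h4 : (⟨n, hn⟩ : N) ∈ (N ⊓ Subgroup.centralizer (F : Set G)).subgroupOf N := by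
    rw [h3]; trivial
  have h5 : n ∈ N ⊓ Subgroup.centralizer (F : Set G) := h4
  exact (Subgroup.mem_centralizer_iff.1 h5.2 y hy).symm

theorem coprime_card_sylow {q : ℕ} [hq : Fact q.Prime] (hqp : q ≠ p) (hNp : IsPGroup p N)
    (Q : Sylow q G) : Nat.Coprime (Nat.card (Q : Subgroup G)) (Nat.card N) := by
  obtain ⟨a, ha⟩ := IsPGroup.iff_card.1 hNp
  obtain ⟨b, hb⟩ := IsPGroup.iff_card.1 Q.isPGroup'
  rw [ha, hb]
  exact Nat.Coprime.pow _ _ ((Nat.coprime_primes hq.out hp.out).2 hqp)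

/-- **The trivial case.** -/
theorem not_dvd_of_trivial {f : ℕ} [hf : Fact f.Prime] (hfp : f ≠ p) (hNp : IsPGroup p N)
    (F : Sylow f G) (htriv : ∀ y ∈ (F : Subgroup G), ∀ v : N →* ℂˣ, y • v = v)
    (hnorm : ∀ g : G, ∀ y ∈ (F : Subgroup G), g * y * g⁻¹ ∈ N ⊔ (F : Subgroup G))
    (hab : ∀ x ∈ (F : Subgroup G), ∀ y ∈ (F : Subgroup G), x * y = y * x)
    {d : ℕ} (hd : d ∈ relCharDegrees N) : ¬ f ∣ d := by
  have hcop := coprime_card_sylow hfp hNp F
  have hc := centralises_of_dual hNp (F : Subgroup G) hcop htriv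
  have hFn : (F : Subgroup G).Normal := by
    refine ⟨fun y hy g => ?_⟩
    obtain ⟨n, hn, z, hz, hnz⟩ := Subgroup.mem_sup_of_normal_left.1 (hnorm g y hy)
    have h1 : (g * y * g⁻¹) ^ Nat.card (F : Subgroup G) = 1 := by
      have h2 : y ^ Nat.card (F : Subgroup G) = 1 := by
        have := pow_card_eq_one' (x := (⟨y, hy⟩ : (F : Subgroup G)))
        exact congrArg Subtype.val this
      rw [conj_pow, h2, mul_one, mul_inv_cancel]
    have h3 : z ^ Nat.card (F : Subgroup G) = 1 := by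
      have := pow_card_eq_one' (x := (⟨z, hz⟩ : (F : Subgroup G)))
      exact congrArg Subtype.val this
    have h4 : Commute n z := hc z hz n hn
    rw [← hnz, h4.mul_pow, h3, mul_one] at h1
    have h5 : n ^ Nat.card N = 1 := by
      have := pow_card_eq_one' (x := (⟨n, hn⟩ : N))
      exact congrArg Subtype.val this
    have h6 : n = 1 := by
      have := pow_gcd_eq_one.2 ⟨h1, h5⟩
      rwa [Nat.Coprime.gcd_eq_one hcop, pow_one] at this
    rw [← hnz, h6, one_mul]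
    exact hz
  obtain ⟨⟨χ, hχ⟩, -, rfl⟩ := hd
  intro h1
  exact F.not_dvd_index (h1.trans (charDegree_dvd_index hab hχ))

/-- The situation with a complement. -/
structure Bad2 (p : ℕ) (N : Subgroup G) [N.Normal] (μ : N →* ℂˣ) (b : ℕ) (P : Sylow p G)
    (K : Subgroup G) : Prop extends Bad p N μ b where
  hIM : AllIM G
  hP : (P : Subgroup G).Normal
  hK : Subgroup.IsComplement' (P : Subgroup G) K

theorem Bad.exists_bad2 {μ : N →* ℂˣ} {b : ℕ} (h : Bad p N μ b) (hIM : AllIM G) :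
    ∃ (P : Sylow p G) (K : Subgroup G), Bad2 p N μ b P K := by
  obtain ⟨P⟩ : Nonempty (Sylow p G) := inferInstance
  have hP := h.sylow_normal (fun T hT => hIM p N T hT) P
  obtain ⟨K, hK⟩ := Subgroup.exists_right_complement'_of_coprime (N := (P : Subgroup G))
    P.card_coprime_index
  exact ⟨P, K, ⟨h, hIM, hP, hK⟩⟩

namespace Bad2

variable {μ : N →* ℂˣ} {b : ℕ} {P : Sylow p G} {K : Subgroup G} (h : Bad2 p N μ b P K)
include h

theorem hNP : N ≤ (P : Subgroup G) := h.hNp.le_sylow_of_normal P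

theorem decomp (g : G) : ∃ x ∈ (P : Subgroup G), ∃ k ∈ K, x * k = g := by
  haveI := h.hP
  have h1 : g ∈ (P : Subgroup G) ⊔ K := by rw [h.hK.sup_eq_top]; trivial
  obtain ⟨x, hx, k, hk, e⟩ := Subgroup.mem_sup_of_normal_left.1 h1
  exact ⟨x, hx, k, hk, e⟩

theorem eq_one_of_mem {x : G} (h1 : x ∈ (P : Subgroup G)) (h2 : x ∈ K) : x = 1 := by
  have h3 : x ∈ (P : Subgroup G) ⊓ K := ⟨h1, h2⟩
  rwa [h.hK.disjoint.eq_bot, Subgroup.mem_bot] at h3

theorem mem_of_mem_sup {Q : Subgroup G} (hQ : Q ≤ K) {y : G} (hy : y ∈ N ⊔ Q) (hyK : y ∈ K) :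
    y ∈ Q := by
  obtain ⟨n, hn, z, hz, hnz⟩ := Subgroup.mem_sup_of_normal_left.1 hy
  have h1 : n = y * z⁻¹ := by rw [← hnz]; group
  have h2 : n ∈ K := by rw [h1]; exact mul_mem hyK (inv_mem (hQ hz))
  have h3 := h.eq_one_of_mem (h.hNP hn) h2
  rw [← hnz, h3, one_mul]
  exact hz

theorem not_dvd_card : ¬ p ∣ Nat.card K := by
  have h1 : Nat.card K = (P : Subgroup G).index := h.hK.symm.index_eq_card.symm
  rw [h1]
  exact P.not_dvd_index

theorem index_K : K.index = Nat.card (P : Subgroup G) := h.hK.index_eq_card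

theorem stab_P {l : N →* ℂˣ} (hl : ¬ p ∣ (MulAction.stabilizer G l).index) :
    (P : Subgroup G) ≤ MulAction.stabilizer G l :=
  h.le_stab (fun T hT => h.hIM p N T hT) P _ hl

theorem not_dvd_of_P {l : N →* ℂˣ} (hl : (P : Subgroup G) ≤ MulAction.stabilizer G l) :
    ¬ p ∣ (MulAction.stabilizer G l).index := fun h1 =>
  P.not_dvd_index (h1.trans (Subgroup.index_dvd_of_le hl))

/-- Sylow subgroups of `G` in a stabilizer -/
theorem exists_sylow_K {r : ℕ} [hr : Fact r.Prime] (hrp : r ≠ p) (S : Subgroup G)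
    (hS : ¬ r ∣ S.index) (hpS : ¬ p ∣ S.index) :
    ∃ Q : Sylow r G, (Q : Subgroup G) ≤ K ∧ (Q : Subgroup G) ≤ S := by
  obtain ⟨m, hm⟩ := IsPGroup.iff_card.1 P.isPGroup'
  have h1 : K.index = p ^ m := by rw [h.index_K, hm]
  have h2 : Nat.Coprime K.index S.index := by
    rw [h1]
    exact Nat.Coprime.pow_left _ ((Nat.Prime.coprime_iff_not_dvd hp.out).2 hpS)
  have h3 := Orb.index_inf_of_coprime K S h2
  obtain ⟨Q, hQ⟩ := exists_sylow_le (r := r) (K ⊓ S) (by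
    rw [h3, h1]
    intro h4
    rcases (Nat.Prime.dvd_mul hr.out).1 h4 with h5 | h5
    · exact hrp ((Nat.prime_dvd_prime_iff_eq hr.out hp.out).1 (hr.out.dvd_of_dvd_pow h5))
    · exact hS h5)
  exact ⟨Q, hQ.trans inf_le_left, hQ.trans inf_le_right⟩

/-- The structure of the stabilizers. -/
theorem kr {r : ℕ} [hr : Fact r.Prime] (hrp : r ≠ p) {l : N →* ℂˣ} (hl1 : l ≠ 1)
    (hl : ¬ p ∣ (MulAction.stabilizer G l).index)
    (hdeg : ∀ χ : G → ℂ, IsIrrCharacter G χ → Over N.subtype χ (lf l) → ¬ r ∣ charDegree χ)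
    (Q : Sylow r G) (hQK : (Q : Subgroup G) ≤ K)
    (hQl : (Q : Subgroup G) ≤ MulAction.stabilizer G l) :
    (∀ x ∈ (Q : Subgroup G), ∀ y ∈ (Q : Subgroup G), x * y = y * x) ∧
    (∀ x ∈ (P : Subgroup G), ∀ y ∈ (Q : Subgroup G), x * y * x⁻¹ * y⁻¹ ∈ N) ∧
    (∀ t ∈ K, t ∈ MulAction.stabilizer G l → ∀ y ∈ (Q : Subgroup G),
      t * y * t⁻¹ ∈ (Q : Subgroup G)) := by
  obtain ⟨h1, h2⟩ := h.inertia_pair hl1 hl hdeg (fun T hT => h.hIM r N T hT) Q hQl
  refine ⟨?_, ?_, ?_⟩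
  · intro x hx y hy
    have h3 := h2 x hx y hy
    have h4 : x * y * x⁻¹ * y⁻¹ ∈ (Q : Subgroup G) :=
      mul_mem (mul_mem (mul_mem hx hy) (inv_mem hx)) (inv_mem hy)
    have h5 := disjoint_sylow hrp P Q (h.hNP h3) h4
    calc x * y = (x * y * x⁻¹ * y⁻¹) * (y * x) := by group
      _ = y * x := by rw [h5, one_mul]
  · intro x hx y hy
    have h3 := h1 x (h.stab_P hl hx) y hy
    have h4 : x * y * x⁻¹ * y⁻¹ ∈ N ⊔ (Q : Subgroup G) :=
      mul_mem h3 (Subgroup.mem_sup_right (inv_mem hy))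
    have h5 : x * y * x⁻¹ * y⁻¹ ∈ (P : Subgroup G) := by
      have h6 : x * y * x⁻¹ * y⁻¹ = x * (y * x⁻¹ * y⁻¹) := by group
      rw [h6]
      exact mul_mem hx (h.hP.conj_mem _ (inv_mem hx) y)
    obtain ⟨n, hn, z, hz, hnz⟩ := Subgroup.mem_sup_of_normal_left.1 h4
    have h6 : z = n⁻¹ * (x * y * x⁻¹ * y⁻¹) := by rw [← hnz]; group
    have h7 : z ∈ (P : Subgroup G) := by
      rw [h6]; exact mul_mem (inv_mem (h.hNP hn)) h5
    have h8 := disjoint_sylow hrp P Q h7 hz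
    rw [← hnz, h8, mul_one]
    exact hn
  · intro t htK ht y hy
    exact h.mem_of_mem_sup hQK (h1 t ht y hy) (mul_mem (mul_mem htK (hQK hy)) (inv_mem htK))

theorem P_comm {Q : Subgroup G}
    (hQ : ∀ x ∈ (P : Subgroup G), ∀ y ∈ Q, x * y * x⁻¹ * y⁻¹ ∈ N)
    {x : G} (hx : x ∈ (P : Subgroup G)) {y : G} (hy : y ∈ Q) (v : N →* ℂˣ) :
    x • y • v = y • x • v := by
  have h2 := smul_of_mem_N (hQ x hx y hy) (y • x • v)
  rw [← mul_smul, ← mul_smul] at h2
  have h3 : x * y * x⁻¹ * y⁻¹ * y * x = x * y := by group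
  rw [h3, mul_smul] at h2
  exact h2

/-- **The Sylow subgroup `F` is not normal in `K`.** -/
theorem false_of_normal {f : ℕ} [hf : Fact f.Prime] (hfp : f ≠ p)
    {x : ℕ} (hx : x ∈ relCharDegrees N) (hpx : p ∣ x) (hfx : f ∣ x)
    (F : Sylow f G) (hFμ : (F : Subgroup G) ≤ MulAction.stabilizer G μ)
    (hab : ∀ x ∈ (F : Subgroup G), ∀ y ∈ (F : Subgroup G), x * y = y * x)
    (hPF : ∀ x ∈ (P : Subgroup G), ∀ y ∈ (F : Subgroup G), x * y * x⁻¹ * y⁻¹ ∈ N)
    (hnorm : ∀ k ∈ K, ∀ y ∈ (F : Subgroup G), k * y * k⁻¹ ∈ (F : Subgroup G)) : False := by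
  by_cases htriv : ∀ y ∈ (F : Subgroup G), ∀ v : N →* ℂˣ, y • v = v
  · refine not_dvd_of_trivial hfp h.hNp F htriv ?_ hab hx hfx
    intro g y hy
    obtain ⟨z, hz, k, hk, rfl⟩ := h.decomp g
    have h1 := hnorm k hk y hy
    have h2 := hPF z hz _ h1
    have h3 : z * k * y * (z * k)⁻¹ =
        (z * (k * y * k⁻¹) * z⁻¹ * (k * y * k⁻¹)⁻¹) * (k * y * k⁻¹) := by group
    rw [h3]
    exact mul_mem (Subgroup.mem_sup_left h2) (Subgroup.mem_sup_right h1)
  push Not at htriv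
  obtain ⟨l, hfl, hle1, hle2, hne⟩ := Orb.exists_product (G := G) (V := N →* ℂˣ) hfp
    (pV_dual h.hNp) (P : Subgroup G) K h.decomp F (fun x hx y hy v => h.P_comm hPF hx hy v) hnorm
    (fun y hy => hFμ hy) htriv
  obtain ⟨ψ, hψ, ho⟩ := exists_over N _ (isIrr_lf (μ * l))
  have h1 := stab_dvd_of_over hψ ho
  have h2 : f ∣ charDegree ψ := (hfl.trans (Subgroup.index_dvd_of_le hle2)).trans h1
  refine h.not_coprime_of_dvd ((Subgroup.index_dvd_of_le hle1).trans h1) ?_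
  refine h.f2 x hx hpx _ (mem_rel_of_over hψ ho hne) ?_
  intro h3
  exact hf.out.one_lt.ne' (Nat.eq_one_of_dvd_coprimes h3 hfx h2)

/-- normality of `F` in `K` from `F` fixing the orbit of `μ` -/
theorem norm_of_fix {f : ℕ} [hf : Fact f.Prime] (F : Sylow f G) (hFK : (F : Subgroup G) ≤ K)
    {l : N →* ℂˣ} (hk4 : ∀ t ∈ K, t ∈ MulAction.stabilizer G l → ∀ y ∈ (F : Subgroup G),
      t * y * t⁻¹ ∈ (F : Subgroup G)) {k : G} (hk : k ∈ K)
    (hfix : ∀ y ∈ (F : Subgroup G), y • (k⁻¹ • l) = k⁻¹ • l) :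
    ∀ y ∈ (F : Subgroup G), k * y * k⁻¹ ∈ (F : Subgroup G) := by
  have hmem : ∀ t ∈ ((k • F : Sylow f G) : Subgroup G), ∃ y ∈ (F : Subgroup G),
      k * y * k⁻¹ = t := by
    intro t ht
    rw [Sylow.coe_subgroup_smul] at ht
    obtain ⟨y, hy, hyt⟩ := ht
    exact ⟨y, hy, hyt⟩
  have h1 : ((k • F : Sylow f G) : Subgroup G) ≤ (F : Subgroup G) := by
    apply Orb.le_sylow_of_normalizes (k • F).isPGroup'
    intro t ht z hz
    obtain ⟨y, hy, rfl⟩ := hmem t ht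
    apply hk4 _ (mul_mem (mul_mem hk (hFK hy)) (inv_mem hk)) _ z hz
    rw [MulAction.mem_stabilizer_iff, mul_smul, mul_smul, hfix y hy, smul_inv_smul]
  intro y hy
  apply h1
  rw [Sylow.coe_subgroup_smul]
  exact ⟨y, hy, rfl⟩

theorem mem_FixP_iff {v : N →* ℂˣ} : v ∈ Orb.FixP (P : Subgroup G) (N →* ℂˣ) ↔
    ¬ p ∣ (MulAction.stabilizer G v).index :=
  ⟨fun h1 => h.not_dvd_of_P h1, fun h1 => h.stab_P h1⟩

theorem mu_mem : μ ∈ Orb.FixP (P : Subgroup G) (N →* ℂˣ) := h.mem_FixP_iff.2 h.not_dvd_u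

theorem stable' (η : N →* ℂˣ) (hη : η ∉ Orb.FixP (P : Subgroup G) (N →* ℂˣ)) (g : G) :
    ∃ y : G, y • η = η * (g • μ) := by
  have h1 : p ∣ (MulAction.stabilizer G η).index := by
    by_contra h2
    exact hη (h.mem_FixP_iff.2 h2)
  have h2 : η ≠ 1 := by
    rintro rfl
    exact hη (Orb.FixP (P : Subgroup G) (N →* ℂˣ)).one_mem
  obtain ⟨ψ, hψ, ho⟩ := exists_over N _ (isIrr_lf η)
  obtain ⟨y, hy⟩ := h.stable h2 hψ ho (h1.trans (stab_dvd_of_over hψ ho)) g 1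
  exact ⟨y, by rw [hy, one_smul]⟩

/-- **Case A**: `P` acts nontrivially on the dual. -/
theorem caseA {f : ℕ} [hf : Fact f.Prime] (hfp : f ≠ p)
    {x : ℕ} (hx : x ∈ relCharDegrees N) (hpx : p ∣ x) (hfx : f ∣ x)
    (hfμ : ∀ χ : G → ℂ, IsIrrCharacter G χ → Over N.subtype χ (lf μ) → ¬ f ∣ charDegree χ)
    (hex : ∃ η : N →* ℂˣ, η ∉ Orb.FixP (P : Subgroup G) (N →* ℂˣ)) : False := by
  haveI := finite_dual N
  have hfμi : ¬ f ∣ (MulAction.stabilizer G μ).index := by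
    obtain ⟨χ, hχ, ho⟩ := exists_over N _ (isIrr_lf μ)
    exact fun h1 => hfμ χ hχ ho (h1.trans (stab_dvd_of_over hχ ho))
  obtain ⟨F, hFK, hFμ⟩ := h.exists_sylow_K hfp _ hfμi h.not_dvd_u
  obtain ⟨hab, hPF, hk4⟩ := h.kr hfp h.hμ1 h.not_dvd_u hfμ F hFK hFμ
  have hFo := Orb.fix_orbit (G := G) (V := N →* ℂˣ) (pV_dual h.hNp) h.hP P.isPGroup' h.decomp
    h.not_dvd_card h.hμ1 h.mu_mem h.stable' hex (F : Subgroup G) (Orb.not_dvd_card_sylow hfp F) hFK
    (fun y hy => hFμ hy) (fun x hx y hy v => h.P_comm hPF hx hy v)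
  exact h.false_of_normal hfp hx hpx hfx F hFμ hab hPF
    (fun k hk => h.norm_of_fix F hFK hk4 hk (fun y hy => hFo y hy k⁻¹))

end Bad2

end

end Cfsg.Agent.H673
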