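import Mathlib
import Cfsg.Agent.H672.Main
import Cfsg.Agent.H670.PSing
import Cfsg.Agent.H706.Canon
import Cfsg.Agent.H597.FrobC

/-!
# The Itô-Michler theorem in the inertia group of a character of a normal Sylow subgroup
-/

set_option autoImplicit false
set_option linter.style.haveILetI false
set_option linter.unusedSectionVars false
open Cfsg

namespace Cfsg.Agent.H673

open Cfsg.Agent.H672
open Cfsg.Agent.Characters.Core Cfsg.Agent.Characters.Clifford
open scoped ComplexConjugate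

universe u v w

variable {G : Type u} [Group G] [Finite G]

/-- Extension of an invariant character of a normal Sylow subgroup to its inertia group. -/
theorem exists_ext_inertia {p : ℕ} [hp : Fact p.Prime] (P : Subgroup G) [hP : P.Normal]
    (hPp : IsPGroup p P) (hidx : ¬ p ∣ P.index) {θ : P → ℂ} (hθ : IsIrrCharacter P θ)
    (T : Subgroup G) (hT : T = inertia P θ) (hPT : P ≤ T) :
    ∃ ξ : T → ℂ, IsIrrCharacter T ξ ∧ ∀ n : P, ξ ⟨n, hPT n.2⟩ = θ n := by
  classical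
  let e : P.subgroupOf T ≃* P := Subgroup.subgroupOfEquivOfLe hPT
  set θ' : P.subgroupOf T → ℂ := fun n => θ ⟨n, n.2⟩ with hθ'
  have hθ'i : IsIrrCharacter (P.subgroupOf T) θ' := isIrr_comp e.toMonoidHom e.surjective hθ
  have hN : (P.subgroupOf T).Normal := inferInstance
  have hinv : ∀ (g : T) (n : P.subgroupOf T),
      θ' ⟨g * n * g⁻¹, hN.conj_mem (n : T) n.2 g⟩ = θ' n := by
    intro g n
    have h1 : (g : G) ∈ inertia P θ := hT ▸ g.2
    exact mem_inertia_iff.1 h1 ⟨n, n.2⟩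
  have hd' : θ' 1 = (charDegree θ : ℕ) := (coe_charDegree hθ).symm
  have hcard : Nat.card (P.subgroupOf T) = Nat.card P := Nat.card_congr e.toEquiv
  obtain ⟨a, ha⟩ := IsPGroup.iff_card.1 hPp
  have hnd : ¬ p ∣ (P.subgroupOf T).index := fun h =>
    hidx (h.trans (Subgroup.relIndex_dvd_index_of_normal P T))
  have hcop : Nat.Coprime (P.subgroupOf T).index (detOrder θ' * charDegree θ) := by
    have h1 : Nat.Coprime (P.subgroupOf T).index (p ^ a) :=
      (Nat.Coprime.pow_left a ((hp.out.coprime_iff_not_dvd).2 hnd)).symm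
    rw [← ha, ← hcard] at h1
    refine Nat.Coprime.mul_right ?_ ?_
    · exact Nat.Coprime.coprime_dvd_right (H706.Canon.detOrder_dvd hθ'i) h1
    · exact Nat.Coprime.coprime_dvd_right (H706.Canon.degree_dvd_card hθ'i hd') h1
  obtain ⟨ψ, ⟨hψ, hres, -⟩, -⟩ :=
    Cfsg.Agent.S0867.result (P.subgroupOf T) θ' hθ'i hinv _ hd' hcop
  exact ⟨ψ, hψ, fun n => hres ⟨⟨n, hPT n.2⟩, n.2⟩⟩

/-- the induced twist lies over `θ` -/
theorem twist_irr_over2 {P : Subgroup G} [hP : P.Normal] {θ : P → ℂ} (hθ : IsIrrCharacter P θ)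
    (T : Subgroup G) (hT : T = inertia P θ) (hPT : P ≤ T) {ξ : T → ℂ} (hξ : IsIrrCharacter T ξ)
    (hξθ : ∀ n : P, ξ ⟨n, hPT n.2⟩ = θ n) {β : T → ℂ} (hβ : IsIrrCharacter T β)
    (hker : ∀ n : P, β ⟨n, hPT n.2⟩ = β 1) :
    ∃ χ : G → ℂ, IsIrrCharacter G χ ∧ Over P.subtype χ θ ∧
      charDegree χ = T.index * (charDegree β * charDegree ξ) := by
  classical
  letI := Fintype.ofFinite G
  letI := Fintype.ofFinite P
  letI := Fintype.ofFinite T
  have hTmem : ∀ g, g ∈ T ↔ OddOrderCharacters.NormalInduced.conjFn P θ g = θ := by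
    intro g
    rw [hT, mem_inertia_iff, funext_iff]
    rfl
  have hφ : IsIrrCharacter T (β * ξ) := by
    refine H597.FrobC.isIrr_mul_of_restrict (P.subgroupOf T) hξ ?_ hβ ?_
    · let e : P.subgroupOf T ≃* P := Subgroup.subgroupOfEquivOfLe hPT
      have h1 : IsIrrCharacter (P.subgroupOf T) (θ ∘ e) := isIrr_comp e.toMonoidHom e.surjective hθ
      have h2 : (fun n : P.subgroupOf T => ξ n) = θ ∘ e := by
        funext n
        exact hξθ ⟨n, n.2⟩
      rw [h2]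
      exact h1
    · intro k hk
      exact hker ⟨k, hk⟩
  have hresTo : OddOrderCharacters.PF9.CliffGen.resTo hPT (β * ξ) = β 1 • θ := by
    funext n
    show β ⟨n, hPT n.2⟩ * ξ ⟨n, hPT n.2⟩ = β 1 * θ n
    rw [hker, hξθ]
  have h0 : classInner (OddOrderCharacters.PF9.CliffGen.resTo hPT (β * ξ)) θ ≠ 0 := by
    rw [hresTo, classInner_smul_left, classInner_irr_self hθ, mul_one]
    exact isIrr_apply_one_ne_zero hβ
  have hirr := OddOrderCharacters.PF9.CliffGen.irr_ind hθ hTmem hPT hφ h0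
  refine ⟨_, hirr, ?_, ?_⟩
  · have h1 : Over T.subtype (indFun T (β * ξ)) (β * ξ) := by
      rw [over_iff]
      have h3 := CharactersDeep.NormalInd.classInner_indFun T (β * ξ)
        (indFun T (β * ξ)) (isIrr_isClassFunction hirr)
      rw [classInner_irr_self hirr] at h3
      intro h4
      have h5 := classInner_conj_symm (β * ξ) (fun h : T => indFun T (β * ξ) h)
      have h6 : classInner (fun h : T => indFun T (β * ξ) h) (β * ξ) = 0 := h4
      rw [← h3, h6] at h5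
      simp at h5
    have e : P.subtype = T.subtype.comp (Subgroup.inclusion hPT) := by ext; rfl
    rw [e]
    refine (over_comp_iff _ _ (isIrr_isCharacter hirr) hθ).2 ⟨_, hφ, h1, ?_⟩
    rw [over_iff]
    exact h0
  · rw [charDegree_indFun T hφ rfl, H597.FrobC.charDegree_mul hξ hβ]

/-- consequences of the Itô-Michler property of `T ⧸ M` -/
theorem of_IM_quotient {M : Subgroup G} [M.Normal] {r : ℕ} [hr : Fact r.Prime] (T : Subgroup G)
    (h1 : ∀ Q : Sylow r (T ⧸ M.subgroupOf T), (Q : Subgroup (T ⧸ M.subgroupOf T)).Normal ∧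
      ∀ a ∈ (Q : Subgroup (T ⧸ M.subgroupOf T)), ∀ b ∈ (Q : Subgroup (T ⧸ M.subgroupOf T)),
        a * b = b * a) (Q : Sylow r G) (hQT : (Q : Subgroup G) ≤ T) :
    (∀ t ∈ T, ∀ x ∈ (Q : Subgroup G), t * x * t⁻¹ ∈ M ⊔ (Q : Subgroup G)) ∧
    (∀ x ∈ (Q : Subgroup G), ∀ y ∈ (Q : Subgroup G), x * y * x⁻¹ * y⁻¹ ∈ M) := by
  classical
  let Q₁ : Sylow r T := Q.subtype hQT
  have hQ₁ : ∀ x : T, x ∈ (Q₁ : Subgroup T) ↔ (x : G) ∈ (Q : Subgroup G) := by
    intro x
    exact Iff.rfl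
  have h2 := h1 (Q₁.mapSurjective (QuotientGroup.mk'_surjective (M.subgroupOf T)))
  constructor
  · intro t ht x hx
    have h3 : QuotientGroup.mk' (M.subgroupOf T) (⟨x, hQT hx⟩ : T) ∈
        ((Q₁.mapSurjective (QuotientGroup.mk'_surjective (M.subgroupOf T)) :
          Sylow r (T ⧸ M.subgroupOf T)) : Subgroup (T ⧸ M.subgroupOf T)) :=
      Subgroup.mem_map_of_mem _ ((hQ₁ ⟨x, hQT hx⟩).2 hx)
    have h4 := h2.1.conj_mem _ h3 (QuotientGroup.mk' (M.subgroupOf T) (⟨t, ht⟩ : T))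
    obtain ⟨y, hy, hyt⟩ := h4
    rw [← map_mul, ← map_inv, ← map_mul] at hyt
    have h5 : y⁻¹ * ((⟨t, ht⟩ : T) * ⟨x, hQT hx⟩ * (⟨t, ht⟩ : T)⁻¹) ∈ M.subgroupOf T :=
      QuotientGroup.eq.1 hyt
    have h6 : (y : G)⁻¹ * (t * x * t⁻¹) ∈ M := Subgroup.mem_subgroupOf.1 h5
    have h7 : (y : G) ∈ (Q : Subgroup G) := (hQ₁ y).1 hy
    have h9 : t * x * t⁻¹ = (y : G) * ((y : G)⁻¹ * (t * x * t⁻¹)) := by group
    rw [h9]
    exact mul_mem (Subgroup.mem_sup_right h7) (Subgroup.mem_sup_left h6)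
  · intro x hx y hy
    have h := h2.2
      (QuotientGroup.mk' _ (⟨x, hQT hx⟩ : T)) (Subgroup.mem_map_of_mem _ ((hQ₁ ⟨x, hQT hx⟩).2 hx))
      (QuotientGroup.mk' _ (⟨y, hQT hy⟩ : T)) (Subgroup.mem_map_of_mem _ ((hQ₁ ⟨y, hQT hy⟩).2 hy))
    have h3 : ((⟨x, hQT hx⟩ : T) * ⟨y, hQT hy⟩ * (⟨x, hQT hx⟩ : T)⁻¹ * (⟨y, hQT hy⟩ : T)⁻¹) ∈
        M.subgroupOf T := by
      rw [← QuotientGroup.eq_one_iff]
      show QuotientGroup.mk' (M.subgroupOf T) _ = 1
      rw [map_mul, map_mul, map_mul, map_inv, map_inv, h]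
      group
    exact Subgroup.mem_subgroupOf.1 h3

/-- If all the characters over `θ ∈ Irr(P)` have degree prime to `r`, `P` a normal Sylow subgroup,
then `I(θ) / P` has a normal abelian Sylow `r`-subgroup. -/
theorem inertia_IM2 {p : ℕ} [hp : Fact p.Prime] (P : Subgroup G) [hP : P.Normal]
    (hPp : IsPGroup p P) (hidx : ¬ p ∣ P.index) {θ : P → ℂ} (hθ : IsIrrCharacter P θ)
    {r : ℕ} [hr : Fact r.Prime]
    (hdeg : ∀ χ : G → ℂ, IsIrrCharacter G χ → Over P.subtype χ θ → ¬ r ∣ charDegree χ)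
    (hIM : H670.PSing.IM r (inertia P θ ⧸ P.subgroupOf (inertia P θ))) (Q : Sylow r G)
    (hQT : (Q : Subgroup G) ≤ inertia P θ) :
    (∀ t ∈ inertia P θ, ∀ x ∈ (Q : Subgroup G), t * x * t⁻¹ ∈ P ⊔ (Q : Subgroup G)) ∧
    (∀ x ∈ (Q : Subgroup G), ∀ y ∈ (Q : Subgroup G), x * y * x⁻¹ * y⁻¹ ∈ P) := by
  have hPT : P ≤ inertia P θ := le_inertia (isIrr_isClassFunction hθ)
  obtain ⟨ξ, hξ, hξθ⟩ := exists_ext_inertia P hPp hidx hθ (inertia P θ) rfl hPT
  refine of_IM_quotient (inertia P θ) (hIM ?_) Q hQT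
  intro β hβ hrβ
  have hβirr : IsIrrCharacter (inertia P θ)
      (β ∘ (QuotientGroup.mk' (P.subgroupOf (inertia P θ)))) :=
    isIrr_comp (QuotientGroup.mk' (P.subgroupOf (inertia P θ)))
      (QuotientGroup.mk'_surjective _) hβ
  have hker : ∀ n : P, (β ∘ (QuotientGroup.mk' (P.subgroupOf (inertia P θ)))) ⟨n, hPT n.2⟩ =
      (β ∘ (QuotientGroup.mk' (P.subgroupOf (inertia P θ)))) 1 := by
    intro n
    show β (QuotientGroup.mk' (P.subgroupOf (inertia P θ)) ⟨n, hPT n.2⟩) =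
      β (QuotientGroup.mk' (P.subgroupOf (inertia P θ)) 1)
    congr 1
    rw [map_one]
    exact (QuotientGroup.eq_one_iff _).2 (Subgroup.mem_subgroupOf.2 n.2)
  obtain ⟨χ, hχ, ho, hd⟩ := twist_irr_over2 hθ (inertia P θ) rfl hPT hξ hξθ hβirr hker
  apply hdeg χ hχ ho
  rw [hd]
  apply Dvd.dvd.mul_left
  apply Dvd.dvd.mul_right
  rw [charDegree_comp_one]
  exact hrβ

end Cfsg.Agent.H673
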