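import Mathlib
import Cfsg.Agent.H673.ConnD
import Cfsg.Agent.H673.InIM2

/-!
# The relative degree graph: connected case, `N` a `p`-group

The case in which the Sylow `p`-subgroup acts trivially on the dual of `N`: Sylow subgroups of the
complement.
-/

set_option autoImplicit false
set_option linter.style.haveILetI false
set_option linter.unusedSectionVars false
open Cfsg

namespace Cfsg.Agent.H673

open Cfsg.Agent.H672
open Cfsg.Agent.Characters.Core Cfsg.Agent.Characters.Clifford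
open scoped ComplexConjugate

universe u v w

section

variable {G : Type u} [Group G] [Finite G] {N : Subgroup G} [hN : N.Normal]
variable {p : ℕ} [hp : Fact p.Prime]

attribute [local instance] dualAct

theorem eq_of_le_sylow {X : Type v} [Group X] {r : ℕ} {R R' : Sylow r X}
    (h : (R' : Subgroup X) ≤ (R : Subgroup X)) : R' = R := by
  have h1 := R'.is_maximal' R.isPGroup' h
  exact Sylow.ext h1.symm

namespace Bad2

variable {μ : N →* ℂˣ} {b : ℕ} {P : Sylow p G} {K : Subgroup G} (h : Bad2 p N μ b P K)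
include h

theorem relIndex_K (S : Subgroup G) (hS : ¬ p ∣ S.index) : (S.subgroupOf K).index = S.index := by
  obtain ⟨m, hm⟩ := IsPGroup.iff_card.1 P.isPGroup'
  have h1 : K.index = p ^ m := by rw [h.index_K, hm]
  have h2 : Nat.Coprime K.index S.index := by
    rw [h1]
    exact Nat.Coprime.pow_left _ ((Nat.Prime.coprime_iff_not_dvd hp.out).2 hS)
  have h3 := Orb.index_inf_of_coprime K S h2
  have h4 : (S.subgroupOf K).index * K.index = (K ⊓ S).index := by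
    have h5 := Subgroup.relIndex_mul_index (H := K ⊓ S) (K := K) inf_le_left
    rw [← h5, inf_comm, Subgroup.inf_relIndex_right]
    rfl
  rw [h3, mul_comm] at h4
  exact Nat.eq_of_mul_eq_mul_left (Nat.pos_of_ne_zero Subgroup.index_ne_zero_of_finite) h4

/-- Sylow subgroups of `K` normal in a stabilizer -/
theorem card_sylow_K_dvd {r : ℕ} [hr : Fact r.Prime] (Q : Sylow r G) (hQK : (Q : Subgroup G) ≤ K)
    (S : Subgroup G) (hS : ¬ p ∣ S.index)
    (hk4 : ∀ t ∈ K, t ∈ S → ∀ y ∈ (Q : Subgroup G), t * y * t⁻¹ ∈ (Q : Subgroup G)) :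
    Nat.card (Sylow r K) ∣ S.index := by
  rw [← h.relIndex_K S hS, (Q.subtype hQK).card_eq_index_normalizer]
  apply Subgroup.index_dvd_of_le
  intro t ht
  apply Subgroup.mem_normalizer_fintype
  intro y hy
  exact hk4 t t.2 ht y hy

/-- `K`-level version -/
theorem krK {r : ℕ} [hr : Fact r.Prime] (hrp : r ≠ p) {l : N →* ℂˣ} (hl1 : l ≠ 1)
    (hl : ¬ p ∣ (MulAction.stabilizer G l).index)
    (hdeg : ∀ χ : G → ℂ, IsIrrCharacter G χ → Over N.subtype χ (lf l) → ¬ r ∣ charDegree χ) :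
    Nat.card (Sylow r K) ∣ (MulAction.stabilizer G l).index ∧
    ∃ Q : Sylow r G, (Q : Subgroup G) ≤ K ∧ (Q : Subgroup G) ≤ MulAction.stabilizer G l ∧
    (∀ x ∈ (Q : Subgroup G), ∀ y ∈ (Q : Subgroup G), x * y = y * x) ∧
    (∀ x ∈ (P : Subgroup G), ∀ y ∈ (Q : Subgroup G), x * y * x⁻¹ * y⁻¹ ∈ N) ∧
    (∀ t ∈ K, t ∈ MulAction.stabilizer G l → ∀ y ∈ (Q : Subgroup G),
      t * y * t⁻¹ ∈ (Q : Subgroup G)) := by
  have hri : ¬ r ∣ (MulAction.stabilizer G l).index := by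
    obtain ⟨χ, hχ, ho⟩ := exists_over N _ (isIrr_lf l)
    exact fun h1 => hdeg χ hχ ho (h1.trans (stab_dvd_of_over hχ ho))
  obtain ⟨Q, hQK, hQl⟩ := h.exists_sylow_K hrp _ hri hl
  obtain ⟨h1, h2, h3⟩ := h.kr hrp hl1 hl hdeg Q hQK hQl
  exact ⟨h.card_sylow_K_dvd Q hQK _ hl h3, Q, hQK, hQl, h1, h2, h3⟩

/-- uniqueness -/
theorem uniq_K {r : ℕ} [hr : Fact r.Prime] {l : N →* ℂˣ} (Q : Sylow r G)
    (hQK : (Q : Subgroup G) ≤ K)
    (hk4 : ∀ t ∈ K, t ∈ MulAction.stabilizer G l → ∀ y ∈ (Q : Subgroup G),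
      t * y * t⁻¹ ∈ (Q : Subgroup G)) (R : Sylow r K)
    (hR : ∀ y ∈ (R : Subgroup K), (y : G) • l = l) : R = Q.subtype hQK := by
  have _ := h
  apply eq_of_le_sylow
  apply Orb.le_sylow_of_normalizes R.isPGroup'
  intro t ht y hy
  exact hk4 t t.2 (hR t ht) y hy

theorem hab_P : ⁅(P : Subgroup G), (P : Subgroup G)⁆ ≤ N := by
  rw [Subgroup.commutator_le]
  intro x hx y hy
  have := h.comm_mem (fun T hT => h.hIM p N T hT) P x hx y hy
  exact this

/-- characters over nonlinear characters of `P` -/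
theorem over_P {θ : ↥(P : Subgroup G) → ℂ} (hθ : IsIrrCharacter _ θ) (hθ1 : charDegree θ ≠ 1)
    {χ : G → ℂ} (hχ : IsIrrCharacter G χ) (ho : Over (P : Subgroup G).subtype χ θ) :
    charDegree χ ∈ relCharDegrees N ∧ p ∣ charDegree χ := by
  haveI := h.hP
  refine ⟨rel_mono h.hab_P (mem_rel_commutator_of_nonlinear hχ hθ ho hθ1), ?_⟩
  have h1 := (charDegree_dvd_of_over (P : Subgroup G) hχ hθ ho).1
  rcases H670.PSing.charDegree_pgroup P.isPGroup' hθ with h2 | h2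
  · exact (hθ1 h2).elim
  · exact h2.trans h1

/-- constituents on `P` of characters of degree divisible by `p` -/
theorem nonlinear_P {χ : G → ℂ} (hχ : IsIrrCharacter G χ) (hpχ : p ∣ charDegree χ)
    {θ : ↥(P : Subgroup G) → ℂ} (hθ : IsIrrCharacter _ θ)
    (ho : Over (P : Subgroup G).subtype χ θ) : charDegree θ ≠ 1 := by
  haveI := h.hP
  intro h1
  have h2 := (charDegree_dvd_of_over (P : Subgroup G) hχ hθ ho).2
  rw [h1, Nat.div_one] at h2
  exact P.not_dvd_index (hpχ.trans h2)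

/-- Sylow `e`-subgroups and nonlinear characters of `P` -/
theorem sylow_e {e : ℕ} [he : Fact e.Prime] (hep : e ≠ p)
    (hez : ∀ z ∈ relCharDegrees N, p ∣ z → ¬ e ∣ z)
    {θ : ↥(P : Subgroup G) → ℂ} (hθ : IsIrrCharacter _ θ) (hθ1 : charDegree θ ≠ 1) :
    haveI := h.hP
    Nat.card (Sylow e K) ∣ (inertia (P : Subgroup G) θ).index ∧
    ∃ Q : Sylow e G, (Q : Subgroup G) ≤ K ∧ (Q : Subgroup G) ≤ inertia (P : Subgroup G) θ ∧
    (∀ x ∈ (Q : Subgroup G), ∀ y ∈ (Q : Subgroup G), x * y = y * x) := by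
  haveI := h.hP
  have hPT : (P : Subgroup G) ≤ inertia (P : Subgroup G) θ :=
    le_inertia (isIrr_isClassFunction hθ)
  have hpi : ¬ p ∣ (inertia (P : Subgroup G) θ).index := fun h1 =>
    P.not_dvd_index (h1.trans (Subgroup.index_dvd_of_le hPT))
  have hdeg : ∀ χ : G → ℂ, IsIrrCharacter G χ → Over (P : Subgroup G).subtype χ θ →
      ¬ e ∣ charDegree χ := by
    intro χ hχ ho
    obtain ⟨h1, h2⟩ := h.over_P hθ hθ1 hχ ho
    exact hez _ h1 h2
  have hei : ¬ e ∣ (inertia (P : Subgroup G) θ).index := by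
    obtain ⟨χ, hχ, ho⟩ := exists_over (P : Subgroup G) _ hθ
    exact fun h1 => hdeg χ hχ ho (h1.trans (index_dvd_of_over hχ hθ ho))
  obtain ⟨Q, hQK, hQT⟩ := h.exists_sylow_K hep _ hei hpi
  obtain ⟨h1, h2⟩ := inertia_IM2 (P : Subgroup G) P.isPGroup' P.not_dvd_index hθ hdeg
    (h.hIM e (P : Subgroup G) _ hPT) Q hQT
  refine ⟨h.card_sylow_K_dvd Q hQK _ hpi ?_, Q, hQK, hQT, ?_⟩
  · intro t htK htT y hy
    obtain ⟨z, hz, w, hw, hzw⟩ := Subgroup.mem_sup_of_normal_left.1 (h1 t htT y hy)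
    have h3 : z = t * y * t⁻¹ * w⁻¹ := by rw [← hzw]; group
    have h4 : z ∈ K := by
      rw [h3]
      exact mul_mem (mul_mem (mul_mem htK (hQK hy)) (inv_mem htK)) (inv_mem (hQK hw))
    rw [← hzw, h.eq_one_of_mem hz h4, one_mul]
    exact hw
  · intro x hx y hy
    have h3 : x * y * x⁻¹ * y⁻¹ ∈ K :=
      mul_mem (mul_mem (mul_mem (hQK hx) (hQK hy)) (inv_mem (hQK hx))) (inv_mem (hQK hy))
    have h4 := h.eq_one_of_mem (h2 x hx y hy) h3
    calc x * y = (x * y * x⁻¹ * y⁻¹) * (y * x) := by group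
      _ = y * x := by rw [h4, one_mul]

/-- the degree prime to `p` and its constituent -/
theorem exists_lin {y : ℕ} (hy : y ∈ relCharDegrees N) (hpy : ¬ p ∣ y) :
    ∃ l : N →* ℂˣ, l ≠ 1 ∧ (MulAction.stabilizer G l).index ∣ y := by
  obtain ⟨⟨χ, hχ⟩, hk, rfl⟩ := hy
  dsimp only at hk hpy ⊢
  obtain ⟨θ, hθ, ho⟩ := exists_under (f := N.subtype) hχ
  obtain ⟨l, rfl⟩ := lin_of_not_dvd h.hNp hχ hpy hθ ho
  refine ⟨l, ?_, stab_dvd_of_over hχ ho⟩
  rintro rfl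
  exact ne_one_of_over N hχ hk (isIrr_lf _) ho lf_one

variable (hβ : ∀ v : N →* ℂˣ, v ∈ Orb.FixP (P : Subgroup G) (N →* ℂˣ))
include hβ

theorem notp (l : N →* ℂˣ) : ¬ p ∣ (MulAction.stabilizer G l).index := h.mem_FixP_iff.1 (hβ l)

theorem lin_not_dvd {l : N →* ℂˣ} (hl1 : l ≠ 1) {χ : G → ℂ} (hχ : IsIrrCharacter G χ)
    (ho : Over N.subtype χ (lf l)) : ¬ p ∣ charDegree χ :=
  h.not_dvd_of_u hl1 (h.notp hβ l) hχ ho

/-- the Sylow `e`-subgroup of `K` is normal -/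
theorem card_sylow_eq_one {e : ℕ} [he : Fact e.Prime] (hep : e ≠ p)
    (hez : ∀ z ∈ relCharDegrees N, p ∣ z → ¬ e ∣ z) : Nat.card (Sylow e K) = 1 := by
  classical
  haveI := h.hP
  by_contra hne
  obtain ⟨f, hf, hfn⟩ := Nat.exists_prime_and_dvd hne
  haveI : Fact f.Prime := ⟨hf⟩
  have hfz : ∀ z ∈ relCharDegrees N, p ∣ z → f ∣ z := by
    rintro _ ⟨⟨χ, hχ⟩, -, rfl⟩ hpz
    dsimp only at hpz ⊢
    obtain ⟨θ, hθ, ho⟩ := exists_under (f := (P : Subgroup G).subtype) hχ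
    have hθ1 := h.nonlinear_P hχ hpz hθ ho
    have h1 := (h.sylow_e hep hez hθ hθ1).1
    exact (hfn.trans h1).trans (index_dvd_of_over hχ hθ ho)
  have hfy : ∀ y ∈ relCharDegrees N, ¬ p ∣ y → ¬ f ∣ y := by
    obtain ⟨a, ha, hpa, haf⟩ := h.f1
    intro y hy hpy hfy
    exact hf.one_lt.ne' (Nat.eq_one_of_dvd_coprimes (haf y hy hpy) (hfz a ha hpa) hfy)
  have hfp : f ≠ p := by
    rintro rfl
    apply h.not_dvd_card
    refine hfn.trans ?_
    obtain ⟨Q⟩ : Nonempty (Sylow e K) := inferInstance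
    rw [Q.card_eq_index_normalizer]
    exact Subgroup.index_dvd_card _
  have hND : ∀ l : N →* ℂˣ, l ≠ 1 → ∀ χ : G → ℂ, IsIrrCharacter G χ →
      Over N.subtype χ (lf l) → ¬ f ∣ charDegree χ := fun l hl1 χ hχ ho =>
    hfy _ (mem_rel_of_over hχ ho hl1) (h.lin_not_dvd hβ hl1 hχ ho)
  obtain ⟨x, hx, y, hy, hpx, hpy, hxy⟩ := h.edge
  have hyb := h.f2 x hx hpx y hy hxy
  obtain ⟨l, hl1, hly⟩ := h.exists_lin hy hpy
  obtain ⟨h1, F, hFK, hFμ, hab, hPF, hk4⟩ := h.krK hfp h.hμ1 h.not_dvd_u (hND μ h.hμ1)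
  have h2 := (h.krK hfp hl1 (h.notp hβ l) (hND l hl1)).1
  have h3 : Nat.card (Sylow f K) = 1 :=
    Nat.eq_one_of_dvd_coprimes hyb (h2.trans hly) (h1.trans h.hb)
  haveI : Subsingleton (Sylow f K) := (Nat.card_eq_one_iff_unique.1 h3).1
  have h4 := Sylow.normal_of_subsingleton (F.subtype hFK)
  refine h.false_of_normal hfp hx hpx (hfz x hx hpx) F hFμ hab hPF ?_
  intro k hk y hy
  exact h4.conj_mem ⟨y, hFK hy⟩ hy ⟨k, hk⟩

/-- the properties of the Sylow `e`-subgroup -/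
theorem sylow_e_props {e : ℕ} [he : Fact e.Prime] (hep : e ≠ p)
    (hez : ∀ z ∈ relCharDegrees N, p ∣ z → ¬ e ∣ z) (R : Sylow e K) :
    haveI := h.hP
    (R : Subgroup K).Normal ∧
    (∀ x ∈ (R : Subgroup K), ∀ y ∈ (R : Subgroup K), x * y = y * x) ∧
    (∀ θ : ↥(P : Subgroup G) → ℂ, IsIrrCharacter _ θ → charDegree θ ≠ 1 →
      ∀ y ∈ (R : Subgroup K), (y : G) ∈ inertia (P : Subgroup G) θ) ∧
    (∀ l : N →* ℂˣ, ¬ e ∣ (MulAction.stabilizer G l).index →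
      ∀ y ∈ (R : Subgroup K), (y : G) • l = l) := by
  haveI := h.hP
  have h1 := h.card_sylow_eq_one hβ hep hez
  haveI : Subsingleton (Sylow e K) := (Nat.card_eq_one_iff_unique.1 h1).1
  have h2 : ∀ (θ : ↥(P : Subgroup G) → ℂ), IsIrrCharacter _ θ → charDegree θ ≠ 1 →
      (∀ x ∈ (R : Subgroup K), ∀ y ∈ (R : Subgroup K), x * y = y * x) ∧
      ∀ y ∈ (R : Subgroup K), (y : G) ∈ inertia (P : Subgroup G) θ := by
    intro θ hθ hθ1
    obtain ⟨-, Q, hQK, hQT, hab⟩ := h.sylow_e hep hez hθ hθ1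
    have h3 : R = Q.subtype hQK := Subsingleton.elim _ _
    rw [h3]
    exact ⟨fun x hx y hy => Subtype.ext (hab x hx y hy), fun y hy => hQT hy⟩
  refine ⟨Sylow.normal_of_subsingleton R, ?_, fun θ hθ hθ1 => (h2 θ hθ hθ1).2, ?_⟩
  · obtain ⟨x, hx, y, hy, hpx, hpy, hxy⟩ := h.edge
    obtain ⟨⟨χ, hχ⟩, -, rfl⟩ := hx
    dsimp only at hpx
    obtain ⟨θ, hθ, ho⟩ := exists_under (f := (P : Subgroup G).subtype) hχ
    exact (h2 θ hθ (h.nonlinear_P hχ hpx hθ ho)).1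
  · intro l hl y hy
    obtain ⟨Q, hQK, hQl⟩ := h.exists_sylow_K hep _ hl (h.notp hβ l)
    have h3 : R = Q.subtype hQK := Subsingleton.elim _ _
    rw [h3] at hy
    exact hQl hy

end Bad2

end

end Cfsg.Agent.H673
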