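import Mathlib

/-!
# A counting lemma on coprime action with abelian normal subgroup

`K` acts on the finite abelian `p`-group `A`, every nonzero element of which is fixed by exactly one
Sylow `f`-subgroup of `K`, and these are permuted transitively by the abelian normal subgroup `H`.
-/

set_option autoImplicit false
set_option linter.unusedSectionVars false
set_option linter.style.haveILetI false

namespace Cfsg.Agent.H673.Fin

open MulAction

universe u v

theorem num_aux {p n s t s' t' : ℕ} (hp : p.Prime) (hn : 2 ≤ n) (hs : 0 < s)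
    (h : p ^ t + n = n * p ^ s + 1) (h' : p ^ t' + n = n * p ^ s' + 1) : ¬ s < s' := by
  intro hss
  have key : ∀ {a b : ℕ}, 0 < a → p ^ b + n = n * p ^ a + 1 → a < b := by
    intro a b ha hab
    by_contra hcon
    have h1 : p ^ b ≤ p ^ a := Nat.pow_le_pow_right hp.pos (not_lt.1 hcon)
    have h2 : 2 ≤ p ^ a := le_trans hp.two_le (Nat.le_self_pow ha.ne' p)
    nlinarith
  have h1 := key hs h
  have h2 := key (hs.trans hss) h'
  have hd : ((p : ℤ) ^ (s + 1)) ∣ (n : ℤ) * (p : ℤ) ^ s := by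
    have e : (n : ℤ) * (p : ℤ) ^ s = n * (p : ℤ) ^ s' - (p : ℤ) ^ t' + (p : ℤ) ^ t := by
      have e1 : (p : ℤ) ^ t + n = n * (p : ℤ) ^ s + 1 := by exact_mod_cast h
      have e2 : (p : ℤ) ^ t' + n = n * (p : ℤ) ^ s' + 1 := by exact_mod_cast h'
      linarith
    rw [e]
    refine dvd_add (dvd_sub (Dvd.dvd.mul_left (pow_dvd_pow _ hss) _) (pow_dvd_pow _ ?_))
      (pow_dvd_pow _ h1)
    omega
  have hd' : p ^ (s + 1) ∣ n * p ^ s := by exact_mod_cast hd
  rw [pow_succ, mul_comm n] at hd'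
  have hpn : p ∣ n := (Nat.mul_dvd_mul_iff_left (pow_pos hp.pos s)).1 hd'
  have h3 : p ∣ p ^ t := dvd_pow_self p (by omega)
  have h4 : p ∣ n * p ^ s + 1 := by rw [← h]; exact dvd_add h3 hpn
  have h5 : p ∣ 1 := (Nat.dvd_add_right (hpn.mul_right _)).1 h4
  exact hp.one_lt.ne' (Nat.dvd_one.1 h5)

theorem num_two {p n s t : ℕ} (hp : p.Prime) (hn : 2 ≤ n) (hs : 0 < s)
    (h : p ^ t + n = n * p ^ s + 1) (hle : p ^ t ≤ p ^ s * p ^ s) : n = p ^ s + 1 := by
  have h2 : 2 ≤ p ^ s := le_trans hp.two_le (Nat.le_self_pow hs.ne' p)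
  have h1 : s < t := by
    by_contra hcon
    have h1 : p ^ t ≤ p ^ s := Nat.pow_le_pow_right hp.pos (not_lt.1 hcon)
    nlinarith
  have hd : p ^ s ∣ p ^ t := pow_dvd_pow _ h1.le
  obtain ⟨m, rfl⟩ : ∃ m, n = m + 1 := ⟨n - 1, by omega⟩
  have h3 : p ^ s ∣ p ^ t + m := by
    have : p ^ t + m = (m + 1) * p ^ s := by omega
    rw [this]
    exact dvd_mul_left _ _
  have h4 : p ^ s ∣ m := (Nat.dvd_add_right hd).1 h3
  have h5 : p ^ s ≤ m := Nat.le_of_dvd (by omega) h4
  have h6 : m ≤ p ^ s := by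
    by_contra hcon
    push Not at hcon
    nlinarith
  omega

variable {K : Type u} [Group K] [Finite K] {A : Type v} [AddCommGroup A] [Finite A]
  [DistribMulAction K A]
variable {p f : ℕ} [hp : Fact p.Prime] [hf : Fact f.Prime]

/-- the fixed points of a Sylow subgroup -/
def Fx (A : Type v) [AddCommGroup A] [DistribMulAction K A] (R : Sylow f K) : AddSubgroup A where
  carrier := {a | ∀ y ∈ (R : Subgroup K), y • a = a}
  zero_mem' := fun y _ => smul_zero y
  add_mem' := by
    intro a b ha hb y hy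
    rw [smul_add, ha y hy, hb y hy]
  neg_mem' := by
    intro a ha y hy
    rw [smul_neg, ha y hy]

theorem smul_mem_Fx (h : K) {R : Sylow f K} {a : A} (ha : a ∈ Fx A R) :
    h • a ∈ Fx A (h • R) := by
  intro y hy
  rw [Sylow.coe_subgroup_smul] at hy
  obtain ⟨z, hz, hzy⟩ := hy
  have h1 : h * z * h⁻¹ = y := hzy
  rw [← h1, mul_smul, mul_smul, inv_smul_smul, ha z hz]

/-- The hypotheses. -/
structure FHyp (p f : ℕ) (K : Type u) [Group K] (A : Type v) [AddCommGroup A]
    [DistribMulAction K A] (H : Subgroup K) : Prop where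
  card : ∃ t, Nat.card A = p ^ t
  trans : ∀ R R' : Sylow f K, ∃ h ∈ H, h • R = R'
  uniq : ∀ a : A, a ≠ 0 → ∃! R : Sylow f K, a ∈ Fx A R
  ne : Nat.card (Sylow f K) ≠ 1
  comm : ∀ a ∈ H, ∀ b ∈ H, a * b = b * a
  nontriv : ∃ a : A, a ≠ 0
  hfp : f ≠ p

theorem card_add_one (B : AddSubgroup A) :
    Nat.card {a : A // a ∈ B ∧ a ≠ 0} + 1 = Nat.card B := by
  have h1 := Set.ncard_sdiff_singleton_add_one (s := (B : Set A)) (a := 0) B.zero_mem
    (Set.toFinite _)
  have h2 : Nat.card {a : A // a ∈ B ∧ a ≠ 0} = ((B : Set A) \ {0}).ncard := by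
    rw [← Nat.card_coe_set_eq]
    exact Nat.card_congr (Equiv.subtypeEquivRight (fun a => by simp))
  rw [h2, h1, ← Nat.card_coe_set_eq]
  rfl

namespace FHyp

variable {H : Subgroup K} (h : FHyp p f K A H)
include h

theorem two_le : 2 ≤ Nat.card (Sylow f K) := by
  have h1 := h.ne
  have h2 : Nat.card (Sylow f K) ≠ 0 := Nat.card_pos.ne'
  omega

/-- **The count.** -/
theorem count (U : AddSubgroup A) (hU : ∀ g ∈ H, ∀ a ∈ U, g • a ∈ U) (R : Sylow f K) :
    Nat.card U + Nat.card (Sylow f K) =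
      Nat.card (Sylow f K) * Nat.card (U ⊓ Fx A R : AddSubgroup A) + 1 := by
  classical
  letI := Fintype.ofFinite (Sylow f K)
  have hfib : ∀ R' : Sylow f K,
      Nat.card {a : A // a ∈ (U ⊓ Fx A R' : AddSubgroup A) ∧ a ≠ 0} =
      Nat.card {a : A // a ∈ (U ⊓ Fx A R : AddSubgroup A) ∧ a ≠ 0} := by
    have hle : ∀ R1 R2 : Sylow f K,
        Nat.card {a : A // a ∈ (U ⊓ Fx A R1 : AddSubgroup A) ∧ a ≠ 0} ≤
        Nat.card {a : A // a ∈ (U ⊓ Fx A R2 : AddSubgroup A) ∧ a ≠ 0} := by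
      intro R1 R2
      obtain ⟨g, hg, rfl⟩ := h.trans R1 R2
      refine Nat.card_le_card_of_injective (fun a => ⟨g • (a : A), ⟨hU g hg _ a.2.1.1,
        smul_mem_Fx g a.2.1.2⟩, fun h0 => a.2.2 ((smul_eq_zero_iff_eq g).1 h0)⟩) ?_
      intro a b hab
      exact Subtype.ext (MulAction.injective g (congrArg Subtype.val hab))
    exact fun R' => le_antisymm (hle R' R) (hle R R')
  let S := {a : A // a ∈ U ∧ a ≠ 0}
  let φ : S → Sylow f K := fun a => (h.uniq a.1 a.2.2).choose
  have hφ : ∀ a : S, a.1 ∈ Fx A (φ a) := fun a => (h.uniq a.1 a.2.2).choose_spec.1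
  have hφ' : ∀ (a : S) (R' : Sylow f K), a.1 ∈ Fx A R' → R' = φ a := fun a R' ha =>
    (h.uniq a.1 a.2.2).choose_spec.2 R' ha
  have h1 : Nat.card S = ∑ R' : Sylow f K, Nat.card {a : S // φ a = R'} := by
    rw [← Nat.card_sigma]
    exact Nat.card_congr (Equiv.sigmaFiberEquiv φ).symm
  have h2 : ∀ R' : Sylow f K, Nat.card {a : S // φ a = R'} =
      Nat.card {a : A // a ∈ (U ⊓ Fx A R' : AddSubgroup A) ∧ a ≠ 0} := by
    intro R'
    refine Nat.card_congr
      { toFun := fun a => ⟨a.1.1, ⟨a.1.2.1, by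
          have h6 := hφ a.1
          rwa [a.2] at h6⟩, a.1.2.2⟩
        invFun := fun a => ⟨⟨a.1, a.2.1.1, a.2.2⟩, (hφ' _ _ a.2.1.2).symm⟩
        left_inv := fun a => rfl
        right_inv := fun a => rfl }
  rw [Finset.sum_congr rfl (fun R' _ => (h2 R').trans (hfib R')), Finset.sum_const,
    Finset.card_univ, smul_eq_mul, ← Nat.card_eq_fintype_card] at h1
  have h3 := card_add_one U
  have h4 := card_add_one (U ⊓ Fx A R : AddSubgroup A)
  have h5 : Nat.card S = Nat.card {a : A // a ∈ U ∧ a ≠ 0} := rfl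
  rw [← h3, ← h4, ← h5, h1]
  ring

theorem pow_card (B : AddSubgroup A) : ∃ t, Nat.card B = p ^ t := by
  obtain ⟨t, ht⟩ := h.card
  have h1 : Nat.card B ∣ p ^ t := ht ▸ AddSubgroup.card_addSubgroup_dvd_card B
  obtain ⟨s, -, hs⟩ := (Nat.dvd_prime_pow hp.out).1 h1
  exact ⟨s, hs⟩

/-- **Irreducibility.** -/
theorem irr (U : AddSubgroup A) (hU : ∀ g ∈ H, ∀ a ∈ U, g • a ∈ U) (hU0 : ∃ a ∈ U, a ≠ 0) :
    U = ⊤ := by
  obtain ⟨R⟩ : Nonempty (Sylow f K) := inferInstance
  have key : ∀ U : AddSubgroup A, (∀ g ∈ H, ∀ a ∈ U, g • a ∈ U) → (∃ a ∈ U, a ≠ 0) →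
      ∃ s t : ℕ, 0 < s ∧ Nat.card U = p ^ t ∧
        p ^ t + Nat.card (Sylow f K) = Nat.card (Sylow f K) * p ^ s + 1 := by
    intro U hU ⟨a, ha, ha0⟩
    obtain ⟨t, ht⟩ := h.pow_card U
    obtain ⟨s, hs⟩ := h.pow_card (U ⊓ Fx A R)
    have h1 := h.count U hU R
    rw [ht, hs] at h1
    refine ⟨s, t, ?_, ht, h1⟩
    rw [Nat.pos_iff_ne_zero]
    rintro rfl
    rw [pow_zero, mul_one] at h1
    have h2 : Nat.card U = 1 := by omega
    have h3 : U = ⊥ := AddSubgroup.card_eq_one.1 h2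
    rw [h3, AddSubgroup.mem_bot] at ha
    exact ha0 ha
  obtain ⟨s, t, hs, ht, h1⟩ := key U hU hU0
  obtain ⟨a, ha⟩ := h.nontriv
  obtain ⟨s', t', hs', ht', h1'⟩ := key ⊤ (fun _ _ _ _ => trivial) ⟨a, trivial, ha⟩
  have h2 : s = s' := by
    rcases lt_trichotomy s s' with h3 | h3 | h3
    · exact (num_aux hp.out h.two_le hs h1 h1' h3).elim
    · exact h3
    · exact (num_aux hp.out h.two_le hs' h1' h1 h3).elim
  subst h2
  have h3 : Nat.card U = Nat.card (⊤ : AddSubgroup A) := by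
    rw [ht, ht']
    omega
  rw [AddSubgroup.card_top] at h3
  exact AddSubgroup.eq_top_of_card_eq U h3

/-- the generators -/
def gen (K : Type u) [Group K] (A : Type v) [AddCommGroup A] [DistribMulAction K A] (g : K) :
    AddMonoid.End A × AddMonoid.End A :=
  (DistribMulAction.toAddMonoidEnd K A g, DistribMulAction.toAddMonoidEnd K A g⁻¹)

/-- the ring -/
def E (A : Type v) [AddCommGroup A] [DistribMulAction K A] (H : Subgroup K) :
    Subring (AddMonoid.End A × AddMonoid.End A) :=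
  Subring.closure (Set.range fun g : H => gen K A (g : K))

omit h [Finite K] [Finite A] in
theorem gen_mem {g : K} (hg : g ∈ H) : gen K A g ∈ E A H :=
  Subring.subset_closure ⟨⟨g, hg⟩, rfl⟩

omit h [Finite K] [Finite A] in
theorem gen_mul (g k : K) (hc : g * k = k * g) : gen K A g * gen K A k = gen K A (g * k) := by
  unfold gen
  rw [Prod.mk_mul_mk, ← map_mul, ← map_mul, ← mul_inv_rev, hc]

theorem E_comm {c d : AddMonoid.End A × AddMonoid.End A} (hc : c ∈ E A H) (hd : d ∈ E A H) :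
    c * d = d * c := by
  have h1 : ∀ x ∈ Set.range (fun g : H => gen K A (g : K)),
      ∀ y ∈ Set.range (fun g : H => gen K A (g : K)), x * y = y * x := by
    rintro _ ⟨x, rfl⟩ _ ⟨y, rfl⟩
    have e := h.comm x x.2 y y.2
    dsimp only
    rw [gen_mul _ _ e, gen_mul _ _ e.symm, e]
  have h2 := (Subring.isMulCommutative_closure h1).is_comm.comm ⟨c, hc⟩ ⟨d, hd⟩
  exact congrArg Subtype.val h2

omit h [Finite K] [Finite A] in
theorem gen_fst_apply (g : K) (a : A) : (gen K A g).1 a = g • a := rfl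

omit h [Finite K] [Finite A] in
theorem swap_mem {d : AddMonoid.End A × AddMonoid.End A} (hd : d ∈ E A H) : d.swap ∈ E A H := by
  refine Subring.closure_induction (p := fun d _ => d.swap ∈ E A H) ?_ ?_ ?_ ?_ ?_ ?_ hd
  · rintro _ ⟨g, rfl⟩
    have : (gen K A (g : K)).swap = gen K A (g : K)⁻¹ := by
      unfold gen
      rw [Prod.swap_prod_mk, inv_inv]
    dsimp only
    rw [this]
    exact gen_mem (inv_mem g.2)
  · exact (E A H).zero_mem
  · exact (E A H).one_mem
  · intro x y _ _ hx hy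
    exact (E A H).add_mem hx hy
  · intro x _ hx
    exact (E A H).neg_mem hx
  · intro x y _ _ hx hy
    exact (E A H).mul_mem hx hy

/-- conjugation -/
def cj (r : K) (d : AddMonoid.End A × AddMonoid.End A) : AddMonoid.End A × AddMonoid.End A :=
  (DistribMulAction.toAddMonoidEnd K A r * d.1 * DistribMulAction.toAddMonoidEnd K A r⁻¹,
   DistribMulAction.toAddMonoidEnd K A r * d.2 * DistribMulAction.toAddMonoidEnd K A r⁻¹)

omit h [Finite K] [Finite A] in
theorem cj_add (r : K) (c d : AddMonoid.End A × AddMonoid.End A) :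
    cj r (c + d) = cj r c + cj r d := by
  have key : ∀ x y : AddMonoid.End A,
      DistribMulAction.toAddMonoidEnd K A r * (x + y) * DistribMulAction.toAddMonoidEnd K A r⁻¹ =
      DistribMulAction.toAddMonoidEnd K A r * x * DistribMulAction.toAddMonoidEnd K A r⁻¹ +
      DistribMulAction.toAddMonoidEnd K A r * y * DistribMulAction.toAddMonoidEnd K A r⁻¹ := by
    intro x y
    rw [mul_add, add_mul]
  exact Prod.ext (key _ _) (key _ _)

omit h [Finite K] [Finite A] in
theorem cj_neg (r : K) (d : AddMonoid.End A × AddMonoid.End A) : cj r (-d) = - cj r d := by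
  have key : ∀ x : AddMonoid.End A,
      DistribMulAction.toAddMonoidEnd K A r * (-x) * DistribMulAction.toAddMonoidEnd K A r⁻¹ =
      -(DistribMulAction.toAddMonoidEnd K A r * x * DistribMulAction.toAddMonoidEnd K A r⁻¹) := by
    intro x
    rw [mul_neg, neg_mul]
  exact Prod.ext (key _) (key _)

omit h [Finite K] [Finite A] in
theorem cj_mul (r : K) (c d : AddMonoid.End A × AddMonoid.End A) :
    cj r (c * d) = cj r c * cj r d := by
  have e : DistribMulAction.toAddMonoidEnd K A r⁻¹ * DistribMulAction.toAddMonoidEnd K A r = 1 := by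
    rw [← map_mul, inv_mul_cancel, map_one]
  have key : ∀ x y : AddMonoid.End A,
      DistribMulAction.toAddMonoidEnd K A r * (x * y) * DistribMulAction.toAddMonoidEnd K A r⁻¹ =
      DistribMulAction.toAddMonoidEnd K A r * x * DistribMulAction.toAddMonoidEnd K A r⁻¹ *
      (DistribMulAction.toAddMonoidEnd K A r * y * DistribMulAction.toAddMonoidEnd K A r⁻¹) := by
    intro x y
    simp only [mul_assoc]
    rw [← mul_assoc (DistribMulAction.toAddMonoidEnd K A r⁻¹)
      (DistribMulAction.toAddMonoidEnd K A r), e, one_mul]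
  unfold cj
  rw [Prod.mk_mul_mk]
  exact Prod.ext (key _ _) (key _ _)

omit h [Finite K] [Finite A] in
theorem cj_one (r : K) : cj r (1 : AddMonoid.End A × AddMonoid.End A) = 1 := by
  have e : DistribMulAction.toAddMonoidEnd K A r * 1 * DistribMulAction.toAddMonoidEnd K A r⁻¹
      = 1 := by
    rw [mul_one, ← map_mul, mul_inv_cancel, map_one]
  exact Prod.ext e e

omit h [Finite K] [Finite A] in
theorem cj_swap (r : K) (d : AddMonoid.End A × AddMonoid.End A) : cj r d.swap = (cj r d).swap := rfl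

omit h [Finite K] [Finite A] in
theorem cj_mem [hH : H.Normal] (r : K) {d : AddMonoid.End A × AddMonoid.End A} (hd : d ∈ E A H) :
    cj r d ∈ E A H := by
  refine Subring.closure_induction (p := fun d _ => cj r d ∈ E A H) ?_ ?_ ?_ ?_ ?_ ?_ hd
  · rintro _ ⟨g, rfl⟩
    have : cj r (gen K A (g : K)) = gen K A (r * (g : K) * r⁻¹) := by
      unfold cj gen
      dsimp only
      rw [← map_mul, ← map_mul, ← map_mul, ← map_mul]
      have e : (r * (g : K) * r⁻¹)⁻¹ = r * (g : K)⁻¹ * r⁻¹ := by group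
      rw [e]
    dsimp only
    rw [this]
    exact gen_mem (hH.conj_mem _ g.2 r)
  · have key : DistribMulAction.toAddMonoidEnd K A r * 0 *
        DistribMulAction.toAddMonoidEnd K A r⁻¹ = 0 := by rw [mul_zero, zero_mul]
    have : cj r (0 : AddMonoid.End A × AddMonoid.End A) = 0 := Prod.ext key key
    rw [this]
    exact (E A H).zero_mem
  · rw [cj_one]
    exact (E A H).one_mem
  · intro x y _ _ hx hy
    rw [cj_add]
    exact (E A H).add_mem hx hy
  · intro x _ hx
    rw [cj_neg]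
    exact (E A H).neg_mem hx
  · intro x y _ _ hx hy
    rw [cj_mul]
    exact (E A H).mul_mem hx hy

/-- elements of `E` act injectively -/
theorem eq_zero_of_apply (hsym : ∀ d ∈ E A H, d.1 = 0 → d.2 = 0)
    {d : AddMonoid.End A × AddMonoid.End A} (hd : d ∈ E A H) {a : A} (ha : a ≠ 0)
    (hda : d.1 a = 0) : d = 0 := by
  have h1 : AddMonoidHom.ker (d.1 : A →+ A) = ⊤ := by
    apply h.irr
    · intro g hg b hb
      have h2 := congrArg Prod.fst (h.E_comm hd (gen_mem (A := A) hg))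
      have h3 := DFunLike.congr_fun h2 b
      have h4 : d.1 (g • b) = g • d.1 b := h3
      have h5 : d.1 b = 0 := hb
      show d.1 (g • b) = 0
      rw [h4, h5, smul_zero]
    · exact ⟨a, hda, ha⟩
  have h2 : d.1 = 0 := by
    apply AddMonoidHom.ext
    intro b
    have : b ∈ AddMonoidHom.ker (d.1 : A →+ A) := by rw [h1]; trivial
    exact this
  exact Prod.ext h2 (hsym d hd h2)

theorem eq_zero_of_mul (hsym : ∀ d ∈ E A H, d.1 = 0 → d.2 = 0)
    {c d : AddMonoid.End A × AddMonoid.End A} (hc : c ∈ E A H) (hd : d ∈ E A H)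
    (hcd : c * d = 0) : c = 0 ∨ d = 0 := by
  by_cases hd0 : d = 0
  · exact Or.inr hd0
  · left
    obtain ⟨a, ha⟩ := h.nontriv
    refine h.eq_zero_of_apply hsym hc (a := d.1 a) ?_ ?_
    · intro h1
      exact hd0 (h.eq_zero_of_apply hsym hd ha h1)
    · exact DFunLike.congr_fun (congrArg Prod.fst hcd) a

/-- the orbit of a nonzero element -/
theorem exists_apply {a₀ : A} (ha₀ : a₀ ≠ 0) (a : A) : ∃ d ∈ E A H, d.1 a₀ = a := by
  let U : AddSubgroup A :=
    { carrier := {b | ∃ d ∈ E A H, d.1 a₀ = b}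
      zero_mem' := ⟨0, (E A H).zero_mem, rfl⟩
      add_mem' := by
        rintro _ _ ⟨c, hc, rfl⟩ ⟨d, hd, rfl⟩
        exact ⟨c + d, (E A H).add_mem hc hd, rfl⟩
      neg_mem' := by
        rintro _ ⟨c, hc, rfl⟩
        exact ⟨-c, (E A H).neg_mem hc, rfl⟩ }
  have h1 : U = ⊤ := by
    apply h.irr
    · rintro g hg _ ⟨c, hc, rfl⟩
      exact ⟨gen K A g * c, (E A H).mul_mem (gen_mem hg) hc, rfl⟩
    · exact ⟨a₀, ⟨1, (E A H).one_mem, rfl⟩, ha₀⟩
  have h2 : a ∈ U := by rw [h1]; trivial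
  exact h2

/-- **The final contradiction.** -/
theorem final [hH : H.Normal] (hsym : ∀ d ∈ E A H, d.1 = 0 → d.2 = 0) : False := by
  classical
  obtain ⟨a₀, ha₀⟩ := h.nontriv
  obtain ⟨R, hR, -⟩ := h.uniq a₀ ha₀
  -- evaluation at `a₀` is injective
  have hinj : ∀ {c d : AddMonoid.End A × AddMonoid.End A}, c ∈ E A H → d ∈ E A H →
      c.1 a₀ = d.1 a₀ → c = d := by
    intro c d hc hd hcd
    have h1 : c - d = 0 := by
      refine h.eq_zero_of_apply hsym ((E A H).sub_mem hc hd) ha₀ ?_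
      show c.1 a₀ - d.1 a₀ = 0
      rw [hcd, sub_self]
    exact sub_eq_zero.1 h1
  -- the fixed subring
  let E₀ : Set (AddMonoid.End A × AddMonoid.End A) :=
    {d | d ∈ E A H ∧ ∀ r ∈ (R : Subgroup K), cj r d = d}
  have hE₀ : ∀ {d : AddMonoid.End A × AddMonoid.End A}, d ∈ E A H → d.1 a₀ ∈ Fx A R → d ∈ E₀ := by
    intro d hd hda
    refine ⟨hd, fun r hr => hinj (cj_mem r hd) hd ?_⟩
    show r • d.1 (r⁻¹ • a₀) = d.1 a₀
    rw [hR r⁻¹ (inv_mem hr), hda r hr]
  have hE₀' : ∀ {d : AddMonoid.End A × AddMonoid.End A}, d ∈ E₀ → d.1 a₀ ∈ Fx A R := by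
    intro d hd r hr
    have h1 := DFunLike.congr_fun (congrArg Prod.fst (hd.2 r hr)) a₀
    have h2 : r • d.1 (r⁻¹ • a₀) = d.1 a₀ := h1
    rwa [hR r⁻¹ (inv_mem hr)] at h2
  have hadd : ∀ {c d : AddMonoid.End A × AddMonoid.End A}, c ∈ E₀ → d ∈ E₀ → c + d ∈ E₀ := by
    intro c d hc hd
    exact ⟨(E A H).add_mem hc.1 hd.1, fun r hr => by rw [cj_add, hc.2 r hr, hd.2 r hr]⟩
  have hneg : ∀ {c : AddMonoid.End A × AddMonoid.End A}, c ∈ E₀ → -c ∈ E₀ := by
    intro c hc
    exact ⟨(E A H).neg_mem hc.1, fun r hr => by rw [cj_neg, hc.2 r hr]⟩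
  have hmul : ∀ {c d : AddMonoid.End A × AddMonoid.End A}, c ∈ E₀ → d ∈ E₀ → c * d ∈ E₀ := by
    intro c d hc hd
    exact ⟨(E A H).mul_mem hc.1 hd.1, fun r hr => by rw [cj_mul, hc.2 r hr, hd.2 r hr]⟩
  have hone : (1 : AddMonoid.End A × AddMonoid.End A) ∈ E₀ :=
    ⟨(E A H).one_mem, fun r _ => cj_one r⟩
  have hswap : ∀ {c : AddMonoid.End A × AddMonoid.End A}, c ∈ E₀ → c.swap ∈ E₀ := by
    intro c hc
    exact ⟨swap_mem hc.1, fun r hr => by rw [cj_swap, hc.2 r hr]⟩
  have swap_mul : ∀ c d : AddMonoid.End A × AddMonoid.End A,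
      (c * d).swap = c.swap * d.swap := fun c d => rfl
  have swap_add : ∀ c d : AddMonoid.End A × AddMonoid.End A,
      (c + d).swap = c.swap + d.swap := fun c d => rfl
  -- the norm
  have hnorm : ∀ {d : AddMonoid.End A × AddMonoid.End A}, d ∈ E A H → d * d.swap ∈ E₀ := by
    intro d hd
    by_cases hd0 : d = 0
    · rw [hd0, zero_mul]
      have := hadd hone (hneg hone)
      rwa [add_neg_cancel] at this
    have h1 : d.1 a₀ ≠ 0 := fun h1 => hd0 (h.eq_zero_of_apply hsym hd ha₀ h1)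
    obtain ⟨R', hR', -⟩ := h.uniq _ h1
    obtain ⟨g, hg, hgR⟩ := h.trans R' R
    have h2 : g • d.1 a₀ ∈ Fx A R := hgR ▸ smul_mem_Fx g hR'
    have h3 : gen K A g * d ∈ E₀ := hE₀ ((E A H).mul_mem (gen_mem hg) hd) h2
    have h4 := hmul h3 (hswap h3)
    have h5 : gen K A g * d * (gen K A g * d).swap = d * d.swap := by
      have e1 : (gen K A g).swap = gen K A g⁻¹ := by
        unfold gen
        rw [Prod.swap_prod_mk, inv_inv]
      have e2 : gen K A g * gen K A g⁻¹ = 1 := by
        rw [gen_mul _ _ (by rw [mul_inv_cancel, inv_mul_cancel]), mul_inv_cancel]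
        unfold gen
        rw [inv_one, map_one]
        rfl
      rw [swap_mul, e1]
      calc gen K A g * d * (gen K A g⁻¹ * d.swap)
          = gen K A g * (d * gen K A g⁻¹) * d.swap := by simp only [mul_assoc]
        _ = gen K A g * (gen K A g⁻¹ * d) * d.swap := by
            rw [h.E_comm hd (gen_mem (inv_mem hg))]
        _ = (gen K A g * gen K A g⁻¹) * (d * d.swap) := by simp only [mul_assoc]
        _ = d * d.swap := by rw [e2, one_mul]
    rwa [h5] at h4
  -- the trace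
  have htr : ∀ {d : AddMonoid.End A × AddMonoid.End A}, d ∈ E A H → d + d.swap ∈ E₀ := by
    intro d hd
    have h1 := hnorm ((E A H).add_mem (E A H).one_mem hd)
    have h2 := hadd (hadd h1 (hneg (hnorm hd))) (hneg hone)
    have h3 : (1 + d) * (1 + d).swap + -(d * d.swap) + -1 = d + d.swap := by
      have e1 : (1 + d).swap = 1 + d.swap := rfl
      rw [e1]
      simp only [mul_add, add_mul, one_mul, mul_one]
      abel
    rwa [h3] at h2
  -- symmetric elements
  have hsymm : ∀ {s : AddMonoid.End A × AddMonoid.End A}, s ∈ E A H → s.swap = s → s ∈ E₀ := by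
    intro s hs hss
    refine ⟨hs, fun r hr => ?_⟩
    have h1 := (hnorm hs).2 r hr
    have h2 := (htr hs).2 r hr
    rw [hss] at h1 h2
    rw [cj_mul] at h1
    rw [cj_add] at h2
    set s' := cj r s with hs'
    have hs'E : s' ∈ E A H := cj_mem r hs
    have h3 : (s' - s) * (s' + s) = 0 := by
      have e := h.E_comm hs'E hs
      simp only [sub_mul, mul_add]
      rw [h1, e]
      abel
    rcases h.eq_zero_of_mul hsym ((E A H).sub_mem hs'E hs) ((E A H).add_mem hs'E hs) h3 with h4 | h4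
    · exact sub_eq_zero.1 h4
    · have h5 : s' = -s := eq_neg_of_add_eq_zero_left h4
      have h6 : (s + s) * (1 + 1) = 0 := by
        have h7 : s + s + (s + s) = 0 := by
          have e : s + s = -s + -s := by rw [← h2, h5]
          nth_rewrite 2 [e]
          abel
        rw [mul_add, mul_one]
        exact h7
      have h7 : s + s = 0 := by
        rcases h.eq_zero_of_mul hsym ((E A H).add_mem hs hs)
          ((E A H).add_mem (E A H).one_mem (E A H).one_mem) h6 with h8 | h8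
        · exact h8
        · have h9 : s * (1 + 1) = 0 := by rw [h8, mul_zero]
          rwa [mul_add, mul_one] at h9
      rw [h5]
      exact (eq_neg_of_add_eq_zero_left h7).symm
  -- counting
  obtain ⟨t, ht⟩ := h.card
  obtain ⟨s, hs⟩ := h.pow_card (Fx A R)
  have hcount := h.count ⊤ (fun _ _ _ _ => trivial) R
  rw [top_inf_eq, AddSubgroup.card_top, ht, hs] at hcount
  have hs0 : 0 < s := by
    rw [Nat.pos_iff_ne_zero]
    rintro rfl
    rw [pow_zero] at hs
    have h1 : Fx A R = ⊥ := AddSubgroup.card_eq_one.1 hs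
    rw [h1, AddSubgroup.mem_bot] at hR
    exact ha₀ hR
  by_cases hall : ∀ d ∈ E A H, d.swap = d
  · have h1 : Fx A R = ⊤ := by
      rw [eq_top_iff]
      intro a _
      obtain ⟨d, hd, rfl⟩ := h.exists_apply ha₀ a
      exact hE₀' (hsymm hd (hall d hd))
    rw [h1, AddSubgroup.card_top, ht] at hs
    rw [hs] at hcount
    have h2 := h.two_le
    have h3 : 2 ≤ p ^ s := le_trans hp.out.two_le (Nat.le_self_pow hs0.ne' p)
    nlinarith
  push Not at hall
  obtain ⟨z, hz, hzs⟩ := hall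
  have hδ : z - z.swap ∈ E A H := (E A H).sub_mem hz (swap_mem hz)
  have hδ0 : z - z.swap ≠ 0 := fun h1 => hzs (sub_eq_zero.1 h1).symm
  have hdiv : ∀ {e : AddMonoid.End A × AddMonoid.End A}, e ∈ E A H →
      ∃ β ∈ E A H, (z - z.swap) * β = e := by
    intro e he
    have h1 : Function.Injective (z - z.swap).1 := by
      rw [injective_iff_map_eq_zero]
      intro a ha
      by_contra ha0
      exact hδ0 (h.eq_zero_of_apply hsym hδ ha0 ha)
    obtain ⟨a, ha⟩ := (Finite.injective_iff_surjective.1 h1) (e.1 a₀)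
    obtain ⟨β, hβ, hβa⟩ := h.exists_apply ha₀ a
    refine ⟨β, hβ, hinj ((E A H).mul_mem hδ hβ) he ?_⟩
    show (z - z.swap).1 (β.1 a₀) = e.1 a₀
    rw [hβa, ha]
  have hdec : ∀ {d : AddMonoid.End A × AddMonoid.End A}, d ∈ E A H →
      ∃ α ∈ E₀, ∃ β ∈ E₀, d = α + z * β := by
    intro d hd
    obtain ⟨β, hβ, hβd⟩ := hdiv ((E A H).sub_mem hd (swap_mem hd))
    have h1 : β.swap = β := by
      have h2 : (z - z.swap) * (β - β.swap) = 0 := by
        have h3 : (z.swap - z) * β.swap = d.swap - d := congrArg Prod.swap hβd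
        rw [mul_sub, hβd]
        have h4 : (z - z.swap) * β.swap = d - d.swap := by
          have h5 : (z - z.swap) * β.swap = -((z.swap - z) * β.swap) := by
            rw [← neg_mul, neg_sub]
          rw [h5, h3, neg_sub]
        rw [h4, sub_self]
      rcases h.eq_zero_of_mul hsym hδ ((E A H).sub_mem hβ (swap_mem hβ)) h2 with h3 | h3
      · exact (hδ0 h3).elim
      · exact (sub_eq_zero.1 h3).symm
    refine ⟨d - z * β, hsymm ((E A H).sub_mem hd ((E A H).mul_mem hz hβ)) ?_, β,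
      hsymm hβ h1, by abel⟩
    have h2 : (d - z * β).swap = d.swap - z.swap * β.swap := rfl
    rw [h2, h1]
    have h3 : z * β - z.swap * β = d - d.swap := by rw [← sub_mul, hβd]
    have h4 : d.swap - z.swap * β = d - z * β - ((d - d.swap) - (z * β - z.swap * β)) := by abel
    rw [h4, h3, sub_self, sub_zero]
  have hle : Nat.card A ≤ Nat.card (Fx A R) * Nat.card (Fx A R) := by
    rw [← Nat.card_prod]
    refine Nat.card_le_card_of_surjective
      (fun x : Fx A R × Fx A R => (x.1 : A) + z.1 (x.2 : A)) ?_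
    intro a
    obtain ⟨d, hd, rfl⟩ := h.exists_apply ha₀ a
    obtain ⟨α, hα, β, hβ, rfl⟩ := hdec hd
    exact ⟨(⟨_, hE₀' hα⟩, ⟨_, hE₀' hβ⟩), rfl⟩
  rw [ht, hs] at hle
  have hn := num_two hp.out h.two_le hs0 hcount hle
  have hmod : Nat.card (Sylow f K) ≡ 1 [MOD f] := card_sylow_modEq_one f K
  rw [hn] at hmod
  have h1 : f ∣ p ^ s := by
    have h2 := (Nat.modEq_iff_dvd' (by omega)).1 hmod.symm
    rwa [Nat.add_sub_cancel] at h2
  exact h.hfp ((Nat.prime_dvd_prime_iff_eq hf.out hp.out).1 (hf.out.dvd_of_dvd_pow h1))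

end FHyp

end Cfsg.Agent.H673.Fin
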