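import Mathlib
import Cfsg.Agent.H673.FinA
import Cfsg.Agent.H673.Orb2

/-!
# The finite ring lemma for a group acting on an abelian group with a pairing
-/

set_option autoImplicit false
set_option linter.unusedSectionVars false
set_option linter.style.haveILetI false

namespace Cfsg.Agent.H673.Fin

open MulAction Cfsg.Agent.H673.Orb

universe u v w z

variable {K : Type u} [Group K] [Finite K] {V : Type v} [CommGroup V]
  [MulDistribMulAction K V]
variable {p f : ℕ} [hp : Fact p.Prime] [hf : Fact f.Prime]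

/-- the kernel of the norm -/
noncomputable def Yk (V : Type v) [CommGroup V] [MulDistribMulAction K V] (H₁ : Subgroup K) :
    Subgroup V := (nm (V := V) H₁).ker

theorem mem_Yk {H₁ : Subgroup K} {v : V} : v ∈ Yk V H₁ ↔ nm H₁ v = 1 := MonoidHom.mem_ker

theorem smul_mem_Yk {H₁ : Subgroup K} [hH₁ : H₁.Normal] (k : K) {v : V} (hv : v ∈ Yk V H₁) :
    k • v ∈ Yk V H₁ := by
  rw [mem_Yk] at hv ⊢
  rw [nm_conj H₁ (fun y hy => hH₁.conj_mem y hy k), hv, smul_one]

/-- the action on the kernel of the norm, written additively -/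
@[reducible] noncomputable def actY (V : Type v) [CommGroup V] [MulDistribMulAction K V]
    (H₁ : Subgroup K) [hH₁ : H₁.Normal] : DistribMulAction K (Additive (Yk V H₁)) where
  smul k a := Additive.ofMul ⟨k • ((Additive.toMul a : Yk V H₁) : V),
    smul_mem_Yk k (Additive.toMul a).2⟩
  one_smul a := by
    apply Additive.toMul.injective
    apply Subtype.ext
    exact one_smul K _
  mul_smul k l a := by
    apply Additive.toMul.injective
    apply Subtype.ext
    exact mul_smul k l _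
  smul_zero k := by
    apply Additive.toMul.injective
    apply Subtype.ext
    exact smul_one k
  smul_add k a b := by
    apply Additive.toMul.injective
    apply Subtype.ext
    exact smul_mul' k _ _

/-- The situation. -/
structure YHyp (p f : ℕ) (K : Type u) [Group K] [Finite K] (V : Type v) [CommGroup V]
    [MulDistribMulAction K V] (H H₁ : Subgroup K) : Prop where
  hV : PV p V
  trans : ∀ R R' : Sylow f K, ∃ h ∈ H, h • R = R'
  uniq : ∀ v : V, (∃ h ∈ H₁, h • v ≠ v) → ∃! R : Sylow f K, ∀ y ∈ (R : Subgroup K), y • v = v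
  ne : Nat.card (Sylow f K) ≠ 1
  comm : ∀ a ∈ H, ∀ b ∈ H, a * b = b * a
  le : H₁ ≤ H
  cop : ¬ p ∣ Nat.card H₁
  nontriv : ∃ h ∈ H₁, ∃ v : V, h • v ≠ v
  hfp : f ≠ p

namespace YHyp

variable [Finite V] {H H₁ : Subgroup K} [hH : H.Normal] [hH₁ : H₁.Normal]
  (h : YHyp p f K V H H₁)
include h

attribute [local instance] actY

theorem eq_one {v : V} (hv : v ∈ Yk V H₁) (hfix : ∀ g ∈ H₁, g • v = v) : v = 1 := by
  rw [mem_Yk, nm_of_fixed H₁ hfix] at hv
  exact h.hV.eq_one h.cop hv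

theorem fhyp : FHyp p f K (Additive (Yk V H₁)) H where
  card := by
    have h1 : IsPGroup p (Yk V H₁) := h.hV.isPGroup_subgroup _
    obtain ⟨t, ht⟩ := IsPGroup.iff_card.1 h1
    exact ⟨t, ht⟩
  trans := h.trans
  uniq := by
    intro a ha
    have h1 : ∃ g ∈ H₁, g • ((Additive.toMul a : Yk V H₁) : V) ≠ (Additive.toMul a : Yk V H₁) := by
      by_contra hcon
      push Not at hcon
      apply ha
      apply Additive.toMul.injective
      exact Subtype.ext (h.eq_one (Additive.toMul a).2 hcon)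
    obtain ⟨R, hR, hR'⟩ := h.uniq _ h1
    refine ⟨R, ?_, ?_⟩
    · intro y hy
      apply Additive.toMul.injective
      exact Subtype.ext (hR y hy)
    · intro R' h2
      apply hR'
      intro y hy
      exact congrArg (fun a : Additive (Yk V H₁) => ((Additive.toMul a : Yk V H₁) : V)) (h2 y hy)
  ne := h.ne
  comm := h.comm
  nontriv := by
    obtain ⟨l, hl1, hl⟩ := exists_nm_ne (G := K) (V := V) (F := H₁) h.nontriv
    refine ⟨Additive.ofMul ⟨l, mem_Yk.2 hl⟩, fun h1 => hl1 ?_⟩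
    exact congrArg (fun a : Additive (Yk V H₁) => ((Additive.toMul a : Yk V H₁) : V)) h1
  hfp := h.hfp

variable {M : Type w} [Group M] [MulDistribMulAction K M] {T : Type z} [CommGroup T]

/-- the commutator of `M` and `H₁` -/
def M1 (M : Type w) [Group M] [MulDistribMulAction K M] (H₁ : Subgroup K) : Subgroup M :=
  Subgroup.closure {x | ∃ g ∈ H₁, ∃ m : M, x = (g • m) * m⁻¹}

omit h in
theorem smul_mem_M1 (k : K) {m : M} (hm : m ∈ M1 M H₁) : k • m ∈ M1 M H₁ := by
  refine Subgroup.closure_induction (p := fun m _ => k • m ∈ M1 M H₁) ?_ ?_ ?_ ?_ hm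
  · rintro _ ⟨g, hg, m, rfl⟩
    apply Subgroup.subset_closure
    refine ⟨k * g * k⁻¹, hH₁.conj_mem g hg k, k • m, ?_⟩
    rw [smul_mul', smul_inv', ← mul_smul, ← mul_smul, inv_mul_cancel_right]
  · rw [smul_one]
    exact (M1 M H₁).one_mem
  · intro x y _ _ hx hy
    rw [smul_mul']
    exact (M1 M H₁).mul_mem hx hy
  · intro x _ hx
    rw [smul_inv']
    exact (M1 M H₁).inv_mem hx

/-- **The contradiction.** -/
theorem false_of_pairing (ev : V → M → T)
    (ev_mul_left : ∀ v w m, ev (v * w) m = ev v m * ev w m)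
    (ev_mul_right : ∀ v m m', ev v (m * m') = ev v m * ev v m')
    (ev_smul : ∀ (k : K) v m, ev (k • v) m = ev v (k⁻¹ • m))
    (Φ : M →* V) (hΦ : ∀ g ∈ H, ∀ m, Φ (g • m) = g • Φ m)
    (hΦ0 : ∀ m, (∀ v, ev v m = 1) → Φ m = 1) (hΦ1 : ∃ m ∈ M1 M H₁, Φ m ≠ 1) : False := by
  have F := h.fhyp
  have ev_one_left : ∀ m, ev 1 m = 1 := by
    intro m
    have h1 := ev_mul_left 1 1 m
    rw [mul_one] at h1
    exact mul_eq_left.1 h1.symm
  have ev_one_right : ∀ v, ev v 1 = 1 := by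
    intro v
    have h1 := ev_mul_right v 1 1
    rw [mul_one] at h1
    exact mul_eq_left.1 h1.symm
  have ev_inv_left : ∀ v m, ev v⁻¹ m = (ev v m)⁻¹ := by
    intro v m
    have h1 := ev_mul_left v⁻¹ v m
    rw [inv_mul_cancel, ev_one_left] at h1
    exact eq_inv_of_mul_eq_one_left h1.symm
  have ev_inv_right : ∀ v m, ev v m⁻¹ = (ev v m)⁻¹ := by
    intro v m
    have h1 := ev_mul_right v m⁻¹ m
    rw [inv_mul_cancel, ev_one_right] at h1
    exact eq_inv_of_mul_eq_one_left h1.symm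
  have ev_pow : ∀ v m (j : ℕ), ev (v ^ j) m = ev v m ^ j := by
    intro v m j
    induction j with
    | zero => rw [pow_zero, pow_zero, ev_one_left]
    | succ j ih => rw [pow_succ, ev_mul_left, ih, pow_succ]
  -- `Φ` maps `M₁` into `Y`
  have hΦY : ∀ {m : M}, m ∈ M1 M H₁ → Φ m ∈ Yk V H₁ := by
    intro m hm
    refine Subgroup.closure_induction (p := fun m _ => Φ m ∈ Yk V H₁) ?_ ?_ ?_ ?_ hm
    · rintro _ ⟨g, hg, m, rfl⟩
      rw [mem_Yk, map_mul, hΦ g (h.le hg), map_inv, map_mul, map_inv, nm_smul H₁ hg, mul_inv_cancel]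
    · rw [map_one]; exact (Yk V H₁).one_mem
    · intro x y _ _ hx hy
      rw [map_mul]; exact (Yk V H₁).mul_mem hx hy
    · intro x _ hx
      rw [map_inv]; exact (Yk V H₁).inv_mem hx
  -- fixed characters are trivial on `M₁`
  have hfixM : ∀ v : V, (∀ g ∈ H₁, g • v = v) → ∀ m ∈ M1 M H₁, ev v m = 1 := by
    intro v hv m hm
    refine Subgroup.closure_induction (p := fun m _ => ev v m = 1) ?_ ?_ ?_ ?_ hm
    · rintro _ ⟨g, hg, m, rfl⟩
      have h1 := ev_smul g⁻¹ v m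
      rw [hv g⁻¹ (inv_mem hg), inv_inv] at h1
      rw [ev_mul_right, ev_inv_right, ← h1, mul_inv_cancel]
    · exact ev_one_right v
    · intro x y _ _ hx hy
      rw [ev_mul_right, hx, hy, mul_one]
    · intro x _ hx
      rw [ev_inv_right, hx, inv_one]
  have hM1V : ∀ m ∈ M1 M H₁, (∀ y ∈ Yk V H₁, ev y m = 1) → ∀ v, ev v m = 1 := by
    intro m hm hy v
    have h1 : v ^ Nat.card H₁ * (nm H₁ v)⁻¹ ∈ Yk V H₁ := by
      rw [mem_Yk, map_mul, map_inv, map_pow, nm_of_fixed H₁ (v := nm H₁ v)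
        (fun g hg => smul_nm H₁ hg v), mul_inv_cancel]
    have h2 := hy _ h1
    rw [ev_mul_left, ev_inv_left, hfixM (nm H₁ v) (fun g hg => smul_nm H₁ hg v) m hm, inv_one,
      mul_one, ev_pow] at h2
    obtain ⟨k, hk⟩ := h.hV
    have h3 : ev v m ^ p ^ k = 1 := by rw [← ev_pow, hk, ev_one_left]
    have h4 := pow_gcd_eq_one.2 ⟨h2, h3⟩
    have h5 : Nat.Coprime (Nat.card H₁) (p ^ k) :=
      Nat.Coprime.pow_right _ ((Nat.Prime.coprime_iff_not_dvd hp.out).2 h.cop).symm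
    rwa [Nat.Coprime.gcd_eq_one h5, pow_one] at h4
  -- surjectivity
  have hsurj : ∀ a : Additive (Yk V H₁), ∃ m, ∃ hm : m ∈ M1 M H₁,
      Additive.ofMul (⟨Φ m, hΦY hm⟩ : Yk V H₁) = a := by
    let U : AddSubgroup (Additive (Yk V H₁)) :=
      { carrier := {a | ∃ m, ∃ hm : m ∈ M1 M H₁, Additive.ofMul (⟨Φ m, hΦY hm⟩ : Yk V H₁) = a}
        zero_mem' := ⟨1, (M1 M H₁).one_mem, by
          apply Additive.toMul.injective
          exact Subtype.ext (map_one Φ)⟩
        add_mem' := by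
          rintro _ _ ⟨m, hm, rfl⟩ ⟨m', hm', rfl⟩
          refine ⟨m * m', (M1 M H₁).mul_mem hm hm', ?_⟩
          apply Additive.toMul.injective
          exact Subtype.ext (map_mul Φ m m')
        neg_mem' := by
          rintro _ ⟨m, hm, rfl⟩
          refine ⟨m⁻¹, (M1 M H₁).inv_mem hm, ?_⟩
          apply Additive.toMul.injective
          exact Subtype.ext (map_inv Φ m) }
    have hU : U = ⊤ := by
      apply F.irr
      · rintro g hg _ ⟨m, hm, rfl⟩
        refine ⟨g • m, smul_mem_M1 g hm, ?_⟩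
        apply Additive.toMul.injective
        exact Subtype.ext (hΦ g hg m)
      · obtain ⟨m, hm, hm1⟩ := hΦ1
        refine ⟨_, ⟨m, hm, rfl⟩, fun h1 => hm1 ?_⟩
        exact congrArg (fun a : Additive (Yk V H₁) => ((Additive.toMul a : Yk V H₁) : V)) h1
    intro a
    have : a ∈ U := by rw [hU]; trivial
    exact this
  -- the transposed maps
  have key : ∀ d ∈ FHyp.E (Additive (Yk V H₁)) H, ∃ s : M → M,
      (∀ m ∈ M1 M H₁, s m ∈ M1 M H₁) ∧
      (∀ (y : Additive (Yk V H₁)) (m : M),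
        ev ((Additive.toMul (d.1 y) : Yk V H₁) : V) m =
          ev ((Additive.toMul y : Yk V H₁) : V) (s m)) ∧
      (∀ (m : M) (hm : m ∈ M1 M H₁),
        ((Additive.toMul (d.2 (Additive.ofMul (⟨Φ m, hΦY hm⟩ : Yk V H₁))) : Yk V H₁) : V) =
          Φ (s m)) := by
    intro d hd
    refine Subring.closure_induction (p := fun d _ => ∃ s : M → M,
      (∀ m ∈ M1 M H₁, s m ∈ M1 M H₁) ∧
      (∀ (y : Additive (Yk V H₁)) (m : M),
        ev ((Additive.toMul (d.1 y) : Yk V H₁) : V) m =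
          ev ((Additive.toMul y : Yk V H₁) : V) (s m)) ∧
      (∀ (m : M) (hm : m ∈ M1 M H₁),
        ((Additive.toMul (d.2 (Additive.ofMul (⟨Φ m, hΦY hm⟩ : Yk V H₁))) : Yk V H₁) : V) =
          Φ (s m))) ?_ ?_ ?_ ?_ ?_ ?_ hd
    · rintro _ ⟨g, rfl⟩
      refine ⟨fun m => (g : K)⁻¹ • m, fun m hm => smul_mem_M1 _ hm, fun y m => ?_, fun m hm => ?_⟩
      · exact ev_smul (g : K) _ m
      · exact (hΦ (g : K)⁻¹ (inv_mem g.2) m).symm
    · refine ⟨fun _ => 1, fun m _ => (M1 M H₁).one_mem, fun y m => ?_, fun m hm => ?_⟩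
      · rw [ev_one_right]
        exact ev_one_left m
      · rw [map_one]
        rfl
    · exact ⟨fun m => m, fun m hm => hm, fun y m => rfl, fun m hm => rfl⟩
    · rintro x y _ _ ⟨s, hs1, hs2, hs3⟩ ⟨t, ht1, ht2, ht3⟩
      refine ⟨fun m => s m * t m, fun m hm => (M1 M H₁).mul_mem (hs1 m hm) (ht1 m hm),
        fun a m => ?_, fun m hm => ?_⟩
      · rw [ev_mul_right, ← hs2, ← ht2, ← ev_mul_left]
        rfl
      · rw [map_mul, ← hs3 m hm, ← ht3 m hm]
        rfl
    · rintro x _ ⟨s, hs1, hs2, hs3⟩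
      refine ⟨fun m => (s m)⁻¹, fun m hm => (M1 M H₁).inv_mem (hs1 m hm),
        fun a m => ?_, fun m hm => ?_⟩
      · rw [ev_inv_right, ← hs2, ← ev_inv_left]
        rfl
      · rw [map_inv, ← hs3 m hm]
        rfl
    · rintro x y hx hy ⟨s, hs1, hs2, hs3⟩ ⟨t, ht1, ht2, ht3⟩
      refine ⟨fun m => s (t m), fun m hm => hs1 _ (ht1 m hm), fun a m => ?_, fun m hm => ?_⟩
      · have hc := F.E_comm hx hy
        rw [hc, ← hs2, ← ht2]
        rfl
      · rw [← hs3 (t m) (ht1 m hm)]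
        have h1 : y.2 (Additive.ofMul (⟨Φ m, hΦY hm⟩ : Yk V H₁)) =
            Additive.ofMul (⟨Φ (t m), hΦY (ht1 m hm)⟩ : Yk V H₁) := by
          apply Additive.toMul.injective
          exact Subtype.ext (ht3 m hm)
        rw [← h1]
        rfl
  apply F.final
  intro d hd hd1
  obtain ⟨s, hs1, hs2, hs3⟩ := key d hd
  apply AddMonoidHom.ext
  intro a
  obtain ⟨m, hm, rfl⟩ := hsurj a
  apply Additive.toMul.injective
  apply Subtype.ext
  refine (hs3 m hm).trans ?_
  show Φ (s m) = 1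
  apply hΦ0
  apply hM1V (s m) (hs1 m hm)
  intro y hy
  have h1 := hs2 (Additive.ofMul ⟨y, hy⟩) m
  have h2 : ev y (s m) = ev ((Additive.toMul (d.1 (Additive.ofMul ⟨y, hy⟩)) : Yk V H₁) : V) m :=
    h1.symm
  rw [h2, hd1]
  exact ev_one_left m

/-- Elements of `M₁` moved by iterated commutators. -/
theorem exists_moved (ev : V → M → T)
    (ev_mul_left : ∀ v w m, ev (v * w) m = ev v m * ev w m)
    (ev_mul_right : ∀ v m m', ev v (m * m') = ev v m * ev v m')
    (ev_smul : ∀ (k : K) v m, ev (k • v) m = ev v (k⁻¹ • m))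
    (ev_inj : ∀ v, (∀ m, ev v m = 1) → v = 1) :
    ∃ x ∈ M1 M H₁, ∃ g ∈ H₁, ∃ k ∈ H₁, ∃ v : V,
      ev v (k • ((g • x) * x⁻¹)) ≠ ev v ((g • x) * x⁻¹) := by
  have ev_one_left : ∀ m, ev 1 m = 1 := by
    intro m
    have h1 := ev_mul_left 1 1 m
    rw [mul_one] at h1
    exact mul_eq_left.1 h1.symm
  have ev_one_right : ∀ v, ev v 1 = 1 := by
    intro v
    have h1 := ev_mul_right v 1 1
    rw [mul_one] at h1
    exact mul_eq_left.1 h1.symm
  have ev_inv_left : ∀ v m, ev v⁻¹ m = (ev v m)⁻¹ := by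
    intro v m
    have h1 := ev_mul_left v⁻¹ v m
    rw [inv_mul_cancel, ev_one_left] at h1
    exact eq_inv_of_mul_eq_one_left h1.symm
  have ev_inv_right : ∀ v m, ev v m⁻¹ = (ev v m)⁻¹ := by
    intro v m
    have h1 := ev_mul_right v m⁻¹ m
    rw [inv_mul_cancel, ev_one_right] at h1
    exact eq_inv_of_mul_eq_one_left h1.symm
  have hcomm : ∀ (g : K) (v : V) (m : M),
      ev ((g • v) * v⁻¹) m = ev v ((g⁻¹ • m) * m⁻¹) := by
    intro g v m
    rw [ev_mul_left, ev_inv_left, ev_smul, ev_mul_right, ev_inv_right]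
  have hY : ∀ (g : K) (v : V), g ∈ H₁ → (g • v) * v⁻¹ ∈ Yk V H₁ := by
    intro g v hg
    rw [mem_Yk, map_mul, map_inv, nm_smul H₁ hg, mul_inv_cancel]
  have hne : ∀ (g : K) (v : V), g • v ≠ v → (g • v) * v⁻¹ ≠ 1 := fun g v hg h1 =>
    hg (mul_inv_eq_one.1 h1)
  obtain ⟨k, hk, v, hv⟩ := h.nontriv
  obtain ⟨g, hg, hgw⟩ : ∃ g ∈ H₁, g • ((k • v) * v⁻¹) ≠ (k • v) * v⁻¹ := by
    by_contra hcon
    push Not at hcon
    exact hne k v hv (h.eq_one (hY k v hk) hcon)
  set w := (k • v) * v⁻¹ with hw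
  obtain ⟨l, hl, hlw⟩ : ∃ l ∈ H₁, l • ((g • w) * w⁻¹) ≠ (g • w) * w⁻¹ := by
    by_contra hcon
    push Not at hcon
    exact hne g w hgw (h.eq_one (hY g w hg) hcon)
  set w' := (g • w) * w⁻¹ with hw'
  obtain ⟨m, hm⟩ : ∃ m, ev ((l • w') * w'⁻¹) m ≠ 1 := by
    by_contra hcon
    push Not at hcon
    exact hne l w' hlw (ev_inj _ hcon)
  rw [hcomm] at hm
  refine ⟨(l⁻¹ • m) * m⁻¹, Subgroup.subset_closure ⟨l⁻¹, inv_mem hl, m, rfl⟩, g⁻¹, inv_mem hg,
    k⁻¹, inv_mem hk, v, ?_⟩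
  rw [hw', hcomm, hw, hcomm] at hm
  intro h1
  apply hm
  rw [ev_mul_right, h1, ev_inv_right, mul_inv_cancel]

end YHyp

end Cfsg.Agent.H673.Fin
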