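import Mathlib
import Cfsg.Agent.H672.Main
import Cfsg.Agent.H673.DiscAb
import Cfsg.Agent.Characters.Central

/-!
# The commutator pairing of a nilpotent group

For a nonabelian finite `p`-group `X` we choose a nontrivial linear character `ν` of `X'` which is
trivial on `[X', X]`, and an irreducible character `θ` of `X` over it.
-/

set_option autoImplicit false
set_option linter.style.haveILetI false
set_option linter.unusedSectionVars false
open Cfsg

namespace Cfsg.Agent.H673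

open Cfsg.Agent.H672
open Cfsg.Agent.Characters.Core Cfsg.Agent.Characters.Clifford
open scoped ComplexConjugate commutatorElement

universe u v w

variable {X : Type u} [Group X]

theorem commElt_mem (x g : X) : x * g * x⁻¹ * g⁻¹ ∈ commutator X := by
  have := Subgroup.commutator_mem_commutator (Subgroup.mem_top x) (Subgroup.mem_top g)
  rwa [commutatorElement_def] at this

/-- an invariant linear character of the commutator subgroup -/
structure Nu (X : Type u) [Group X] where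
  /-- the character -/
  ν : commutator X →* ℂˣ
  inv : ∀ (z : commutator X) (g : X) (h : g * z * g⁻¹ ∈ commutator X), ν ⟨g * z * g⁻¹, h⟩ = ν z

namespace Nu

variable (n : Nu X)

/-- the pairing -/
def B (x g : X) : ℂˣ := n.ν ⟨x * g * x⁻¹ * g⁻¹, commElt_mem x g⟩

theorem B_mul_left (x y g : X) : n.B (x * y) g = n.B x g * n.B y g := by
  unfold B
  have h1 := n.inv ⟨y * g * y⁻¹ * g⁻¹, commElt_mem y g⟩ x
    ((inferInstance : (commutator X).Normal).conj_mem _ (commElt_mem y g) x)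
  rw [← h1, mul_comm, ← map_mul]
  congr 1
  apply Subtype.ext
  show x * y * g * (x * y)⁻¹ * g⁻¹ = x * (y * g * y⁻¹ * g⁻¹) * x⁻¹ * (x * g * x⁻¹ * g⁻¹)
  group

theorem B_mul_right (x g h : X) : n.B x (g * h) = n.B x g * n.B x h := by
  unfold B
  have h1 := n.inv ⟨x * h * x⁻¹ * h⁻¹, commElt_mem x h⟩ g
    ((inferInstance : (commutator X).Normal).conj_mem _ (commElt_mem x h) g)
  rw [← h1, ← map_mul]
  congr 1
  apply Subtype.ext
  show x * (g * h) * x⁻¹ * (g * h)⁻¹ = (x * g * x⁻¹ * g⁻¹) * (g * (x * h * x⁻¹ * h⁻¹) * g⁻¹)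
  group

theorem B_one_right (x : X) : n.B x 1 = 1 := by
  have h1 := n.B_mul_right x 1 1
  rw [mul_one] at h1
  exact (mul_eq_left.1 h1.symm)

theorem B_one_left (g : X) : n.B 1 g = 1 := by
  have h1 := n.B_mul_left 1 1 g
  rw [mul_one] at h1
  exact (mul_eq_left.1 h1.symm)

theorem B_inv_left (x g : X) : n.B x⁻¹ g = (n.B x g)⁻¹ := by
  have h1 := n.B_mul_left x⁻¹ x g
  rw [inv_mul_cancel, B_one_left] at h1
  exact eq_inv_of_mul_eq_one_left h1.symm

theorem B_inv_right (x g : X) : n.B x g⁻¹ = (n.B x g)⁻¹ := by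
  have h1 := n.B_mul_right x g⁻¹ g
  rw [inv_mul_cancel, B_one_right] at h1
  exact eq_inv_of_mul_eq_one_left h1.symm

theorem B_comp (e : X ≃* X) (he : ∀ (z : X) (h : z ∈ commutator X) (h' : e z ∈ commutator X),
    n.ν ⟨e z, h'⟩ = n.ν ⟨z, h⟩) (x g : X) : n.B (e x) (e g) = n.B x g := by
  unfold B
  have h1 : e (x * g * x⁻¹ * g⁻¹) = e x * e g * (e x)⁻¹ * (e g)⁻¹ := by
    rw [map_mul, map_mul, map_mul, map_inv, map_inv]
  have h2 := he (x * g * x⁻¹ * g⁻¹) (commElt_mem x g) (h1 ▸ commElt_mem (e x) (e g))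
  rw [← h2]
  congr 1
  exact Subtype.ext h1.symm

end Nu

variable [Finite X]

theorem commutator_top_lt (hX : Group.IsNilpotent X) {D : Subgroup X} (hD : D ≠ ⊥) :
    ¬ D ≤ ⁅D, (⊤ : Subgroup X)⁆ := by
  intro hle
  obtain ⟨n, hn⟩ := (Subgroup.nilpotent_iff_lowerCentralSeries (G := X)).1 hX
  have h1 : ∀ m : ℕ, D ≤ (⊤ : Subgroup X).lowerCentralSeries m := by
    intro m
    induction m with
    | zero => exact le_top
    | succ m ih =>
      refine hle.trans ?_
      exact Subgroup.commutator_mono ih le_rfl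
  exact hD (le_bot_iff.1 (hn ▸ h1 n))

/-- existence of a nontrivial invariant linear character of the commutator subgroup -/
theorem exists_nu (hX : Group.IsNilpotent X) (hD : commutator X ≠ ⊥) :
    ∃ n : Nu X, n.ν ≠ 1 := by
  classical
  set D := commutator X with hDdef
  set M : Subgroup X := ⁅D, (⊤ : Subgroup X)⁆ with hM
  have hMn : M.Normal := Subgroup.commutator_normal D ⊤
  haveI : (M.subgroupOf D).Normal := hMn.subgroupOf D
  have hlt := commutator_top_lt hX hD
  obtain ⟨d, hd, hdM⟩ : ∃ d ∈ D, d ∉ M := by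
    by_contra hcon
    push Not at hcon
    exact hlt hcon
  have hab : ∀ a b : D ⧸ M.subgroupOf D, a * b = b * a := by
    intro a b
    obtain ⟨a, rfl⟩ := QuotientGroup.mk_surjective a
    obtain ⟨b, rfl⟩ := QuotientGroup.mk_surjective b
    rw [← QuotientGroup.mk_mul, ← QuotientGroup.mk_mul, QuotientGroup.eq]
    have h1 : ⁅(b : X)⁻¹, (a : X)⁻¹⁆ ∈ M :=
      Subgroup.commutator_mem_commutator (inv_mem b.2) (Subgroup.mem_top _)
    rw [Subgroup.mem_subgroupOf]
    have h2 : (((a * b)⁻¹ * (b * a) : D) : X) = ⁅(b : X)⁻¹, (a : X)⁻¹⁆ := by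
      rw [commutatorElement_def]
      show ((a : X) * b)⁻¹ * ((b : X) * a) = _
      group
    rw [h2]
    exact h1
  have hne : (QuotientGroup.mk (⟨d, hd⟩ : D) : D ⧸ M.subgroupOf D) ≠ 1 := by
    intro h1
    exact hdM (Subgroup.mem_subgroupOf.1 ((QuotientGroup.eq_one_iff _).1 h1))
  obtain ⟨f, hf⟩ := exists_dual_ne hab hne
  refine ⟨⟨f.comp (QuotientGroup.mk' (M.subgroupOf D)), ?_⟩, ?_⟩
  · intro z g h
    rw [MonoidHom.comp_apply, MonoidHom.comp_apply]
    congr 1
    show QuotientGroup.mk (⟨g * z * g⁻¹, h⟩ : D) = QuotientGroup.mk z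
    rw [QuotientGroup.eq, Subgroup.mem_subgroupOf]
    have h1 : ⁅g, (z : X)⁻¹⁆ ∈ M := by
      rw [hM, Subgroup.commutator_comm]
      exact Subgroup.commutator_mem_commutator (Subgroup.mem_top _) (inv_mem z.2)
    have h2 : (((⟨g * z * g⁻¹, h⟩ : D)⁻¹ * z : D) : X) = ⁅g, (z : X)⁻¹⁆ := by
      rw [commutatorElement_def]
      show (g * (z : X) * g⁻¹)⁻¹ * (z : X) = _
      group
    rw [h2]
    exact h1
  · intro h1
    apply hf
    exact DFunLike.congr_fun h1 (⟨d, hd⟩ : D)

/-- an irreducible character over `ν` -/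
theorem Nu.exists_irr (n : Nu X) (hn : n.ν ≠ 1) : ∃ θ : X → ℂ, IsIrrCharacter X θ ∧
    charDegree θ ≠ 1 ∧ ∀ z : commutator X, θ z = θ 1 * (n.ν z : ℂ) := by
  classical
  letI := Fintype.ofFinite (commutator X)
  obtain ⟨θ, hθ, ho⟩ := exists_over (N := commutator X) _ (isIrr_lf n.ν)
  have h0 := ho
  rw [over_iff] at h0
  have hres := comp_eq_smul_of_invariant_hom (commutator X).subtype
    (commutator X).subtype_injective (by rw [Subgroup.range_subtype]; infer_instance) hθ
    (isIrr_lf n.ν) (by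
      intro k h h' e
      have hm : k * (h : X) * k⁻¹ ∈ commutator X :=
        (inferInstance : (commutator X).Normal).conj_mem _ h.2 k
      have e' : h' = ⟨k * (h : X) * k⁻¹, hm⟩ := Subtype.ext e
      rw [e']
      exact congrArg Units.val (n.inv h k hm)) h0
  have hone : classInner (θ ∘ (commutator X).subtype) (lf n.ν) = θ 1 := by
    have h1 := congrFun hres 1
    simp only [Pi.smul_apply, smul_eq_mul, lf_apply, map_one, Units.val_one, mul_one] at h1
    rw [← h1]
    rfl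
  have hval : ∀ z : commutator X, θ z = θ 1 * (n.ν z : ℂ) := by
    intro z
    have h1 := congrFun hres z
    rw [hone] at h1
    exact h1
  refine ⟨θ, hθ, ?_, hval⟩
  intro h1
  obtain ⟨ϕ, rfl⟩ := exists_hom_of_degree_one hθ h1
  apply hn
  ext z
  have h2 := hval z
  have h3 : (z : X) ∈ ϕ.ker := Abelianization.commutator_subset_ker ϕ z.2
  rw [lf_apply, lf_apply, MonoidHom.mem_ker.1 h3, map_one, Units.val_one, one_mul] at h2
  rw [← h2, MonoidHom.one_apply, Units.val_one]

/-- zeros of `θ` -/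
theorem Nu.exists_B_ne (n : Nu X) {θ : X → ℂ} (hθ : IsIrrCharacter X θ)
    (hval : ∀ z : commutator X, θ z = θ 1 * (n.ν z : ℂ)) {x : X} (hx : θ x = 0) :
    ∃ g : X, n.B x g ≠ 1 := by
  classical
  letI := Fintype.ofFinite X
  by_contra hcon
  push Not at hcon
  have h1 := Characters.Central.sum_char_conj_mul hθ x x⁻¹
  rw [hx, mul_zero, zero_mul, zero_div] at h1
  have h2 : ∀ a : X, θ (a * x * a⁻¹ * x⁻¹) = θ 1 := by
    intro a
    have h3 := hval ⟨a * x * a⁻¹ * x⁻¹, commElt_mem a x⟩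
    have h4 := hcon a⁻¹
    have h5 : n.ν ⟨a * x * a⁻¹ * x⁻¹, commElt_mem a x⟩ = 1 := by
      have h6 := n.inv ⟨x * a⁻¹ * x⁻¹ * a⁻¹⁻¹, commElt_mem x a⁻¹⟩ a
        ((inferInstance : (commutator X).Normal).conj_mem _ (commElt_mem x a⁻¹) a)
      have h7 : n.ν ⟨x * a⁻¹ * x⁻¹ * a⁻¹⁻¹, commElt_mem x a⁻¹⟩ = 1 := h4
      rw [h7] at h6
      rw [← h6]
      congr 1
      apply Subtype.ext
      show a * x * a⁻¹ * x⁻¹ = a * (x * a⁻¹ * x⁻¹ * a⁻¹⁻¹) * a⁻¹
      group
    rw [h5, Units.val_one, mul_one] at h3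
    exact h3
  rw [Finset.sum_congr rfl (fun a _ => h2 a), Finset.sum_const, Finset.card_univ, nsmul_eq_mul] at h1
  rcases mul_eq_zero.1 h1 with h3 | h3
  · exact Fintype.card_ne_zero (Nat.cast_eq_zero.1 h3)
  · exact isIrr_apply_one_ne_zero hθ h3

end Cfsg.Agent.H673
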