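import Mathlib
import Cfsg.Agent.H673.ConnE
import Cfsg.Agent.H673.FinB
import Cfsg.Agent.H673.Pair

/-!
# The relative degree graph: connected case, `N` a `p`-group

The case in which the Sylow `p`-subgroup acts trivially on the dual of `N`.
-/

set_option autoImplicit false
set_option linter.style.haveILetI false
set_option linter.unusedSectionVars false
open Cfsg

namespace Cfsg.Agent.H673

open Cfsg.Agent.H672
open Cfsg.Agent.Characters.Core Cfsg.Agent.Characters.Clifford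
open scoped ComplexConjugate

universe u v w

section hall

variable {X : Type u} [Group X] [Finite X]

/-- the subgroup generated by the Sylow `e`-subgroups, `e` dividing `n` -/
def HS (X : Type u) [Group X] (n : ℕ) : Subgroup X :=
  Subgroup.closure {y : X | ∃ e : ℕ, e.Prime ∧ e ∣ n ∧ ∃ R : Sylow e X, y ∈ (R : Subgroup X)}

variable {n : ℕ}

theorem le_HS {e : ℕ} (he : e.Prime) (hen : e ∣ n) (R : Sylow e X) : (R : Subgroup X) ≤ HS X n :=
  fun _ hy => Subgroup.subset_closure ⟨e, he, hen, R, hy⟩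

theorem HS_le {B : Subgroup X}
    (h : ∀ e : ℕ, e.Prime → e ∣ n → ∀ R : Sylow e X, (R : Subgroup X) ≤ B) : HS X n ≤ B := by
  unfold HS
  rw [Subgroup.closure_le]
  rintro y ⟨e, he, hen, R, hy⟩
  exact h e he hen R hy

theorem HS_normal (h : ∀ e : ℕ, e.Prime → e ∣ n → ∀ R : Sylow e X, (R : Subgroup X).Normal) :
    (HS X n).Normal := by
  refine ⟨fun x hx g => ?_⟩
  refine Subgroup.closure_induction (p := fun x _ => g * x * g⁻¹ ∈ HS X n) ?_ ?_ ?_ ?_ hx
  · rintro y ⟨e, he, hen, R, hy⟩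
    exact le_HS he hen R ((h e he hen R).conj_mem y hy g)
  · rw [mul_one, mul_inv_cancel]
    exact (HS X n).one_mem
  · intro x y _ _ hx hy
    have e : g * (x * y) * g⁻¹ = (g * x * g⁻¹) * (g * y * g⁻¹) := by group
    rw [e]
    exact mul_mem hx hy
  · intro x _ hx
    have e : g * x⁻¹ * g⁻¹ = (g * x * g⁻¹)⁻¹ := by group
    rw [e]
    exact inv_mem hx

theorem HS_comm (h : ∀ e : ℕ, e.Prime → e ∣ n → ∀ R : Sylow e X, (R : Subgroup X).Normal)
    (hc : ∀ e : ℕ, e.Prime → e ∣ n → ∀ R : Sylow e X,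
      ∀ x ∈ (R : Subgroup X), ∀ y ∈ (R : Subgroup X), x * y = y * x) :
    ∀ x ∈ HS X n, ∀ y ∈ HS X n, x * y = y * x := by
  have key : ∀ x ∈ {y : X | ∃ e : ℕ, e.Prime ∧ e ∣ n ∧ ∃ R : Sylow e X, y ∈ (R : Subgroup X)},
      ∀ y ∈ {y : X | ∃ e : ℕ, e.Prime ∧ e ∣ n ∧ ∃ R : Sylow e X, y ∈ (R : Subgroup X)},
      x * y = y * x := by
    rintro x ⟨e, he, hen, R, hx⟩ y ⟨e', he', hen', R', hy⟩
    haveI : Fact e.Prime := ⟨he⟩
    haveI : Fact e'.Prime := ⟨he'⟩
    by_cases hee : e = e'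
    · subst hee
      haveI := h e he hen R
      haveI := Sylow.unique_of_normal R (h e he hen R)
      have h1 : R' = R := Subsingleton.elim _ _
      rw [h1] at hy
      exact hc e he hen R x hx y hy
    · have h1 : Disjoint (R : Subgroup X) (R' : Subgroup X) := by
        apply Subgroup.disjoint_of_coprime_natCard
        obtain ⟨a, ha⟩ := IsPGroup.iff_card.1 R.isPGroup'
        obtain ⟨b, hb⟩ := IsPGroup.iff_card.1 R'.isPGroup'
        rw [ha, hb]
        exact Nat.Coprime.pow _ _ ((Nat.coprime_primes he he').2 hee)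
      exact Subgroup.commute_of_normal_of_disjoint _ _ (h e he hen R) (h e' he' hen' R') h1 x y hx hy
  have h1 := (Subgroup.isMulCommutative_closure key).is_comm.comm
  intro x hx y hy
  exact congrArg Subtype.val (h1 ⟨x, hx⟩ ⟨y, hy⟩)

theorem HS_trans {f : ℕ} [Fact f.Prime] (hn : Nat.card (Sylow f X) = n) (R R' : Sylow f X) :
    ∃ g ∈ HS X n, g • R = R' := by
  obtain ⟨g, hg⟩ := MulAction.exists_smul_eq X R R'
  have hcop : Nat.Coprime (HS X n).index (Subgroup.normalizer (R : Set X)).index := by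
    rw [← R.card_eq_index_normalizer, hn]
    apply Nat.Coprime.symm
    by_contra hcon
    obtain ⟨e, he, h1, h2⟩ := Nat.Prime.not_coprime_iff_dvd.1 hcon
    haveI : Fact e.Prime := ⟨he⟩
    obtain ⟨Q⟩ : Nonempty (Sylow e X) := inferInstance
    exact Q.not_dvd_index (h2.trans (Subgroup.index_dvd_of_le (le_HS he h1 Q)))
  obtain ⟨a, ha, c, hc, hac⟩ := S0543.exists_mul_eq_of_coprime_index _ _ hcop g
  refine ⟨a, ha, ?_⟩
  have h1 : c • R = R := Sylow.smul_eq_iff_mem_normalizer.2 hc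
  rw [← hg, hac, mul_smul, h1]

end hall

section

variable {G : Type u} [Group G] [Finite G] {N : Subgroup G} [hN : N.Normal]
variable {p : ℕ} [hp : Fact p.Prime]

/-- the conjugation action on a normal subgroup -/
@[reducible] def conjAct (N : Subgroup G) [N.Normal] : MulDistribMulAction G N where
  smul g n := MulAut.conjNormal g n
  one_smul n := by
    show MulAut.conjNormal (1 : G) n = n
    rw [map_one]; rfl
  mul_smul g k n := by
    show MulAut.conjNormal (g * k) n = _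
    rw [map_mul]; rfl
  smul_one g := map_one (MulAut.conjNormal g)
  smul_mul g m n := map_mul (MulAut.conjNormal g) m n

attribute [local instance] dualAct conjAct

theorem coe_smul_N (g : G) (n : N) : ((g • n : N) : G) = g * n * g⁻¹ := rfl

namespace Bad2

variable {μ : N →* ℂˣ} {b : ℕ} {P : Sylow p G} {K : Subgroup G} (h : Bad2 p N μ b P K)
include h

/-- the centralizer of `P / N` -/
theorem exists_cent : ∃ C : Subgroup G, C.Normal ∧
    ∀ g, g ∈ C ↔ ∀ x ∈ (P : Subgroup G), g * x * g⁻¹ * x⁻¹ ∈ N := by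
  haveI := h.hP
  haveI : ((P : Subgroup G).map (QuotientGroup.mk' N)).Normal :=
    h.hP.map _ (QuotientGroup.mk'_surjective N)
  refine ⟨(Subgroup.centralizer (((P : Subgroup G).map (QuotientGroup.mk' N) : Subgroup (G ⧸ N)) :
    Set (G ⧸ N))).comap (QuotientGroup.mk' N), inferInstance, fun g => ?_⟩
  rw [Subgroup.mem_comap, Subgroup.mem_centralizer_iff]
  constructor
  · intro h1 x hx
    have h2 := h1 (QuotientGroup.mk' N x) ⟨x, hx, rfl⟩
    rw [← QuotientGroup.eq_one_iff]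
    show QuotientGroup.mk' N (g * x * g⁻¹ * x⁻¹) = 1
    rw [map_mul, map_mul, map_mul, map_inv, map_inv, ← h2]
    group
  · rintro h1 _ ⟨x, hx, rfl⟩
    have h2 := h1 x hx
    rw [← QuotientGroup.eq_one_iff] at h2
    have h3 : QuotientGroup.mk' N (g * x * g⁻¹ * x⁻¹) = 1 := h2
    rw [map_mul, map_mul, map_mul, map_inv, map_inv, mul_inv_eq_one, mul_inv_eq_iff_eq_mul] at h3
    exact h3.symm

variable (hβ : ∀ v : N →* ℂˣ, v ∈ Orb.FixP (P : Subgroup G) (N →* ℂˣ))
include hβ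

theorem exists_ext_P (v : N →* ℂˣ) :
    ∃ ν : (P : Subgroup G) →* ℂˣ, ∀ n : N, ν ⟨n, h.hNP n.2⟩ = v n := by
  by_cases hv : v = 1
  · exact ⟨1, fun n => by rw [hv]; rfl⟩
  · obtain ⟨R, hR⟩ := h.mem_ER_of_u hv (h.notp hβ v)
    exact ER_of_stab (R' := P) hR (h.stab_P (h.notp hβ v))

/-- **Case B.** -/
theorem caseB {f : ℕ} [hf : Fact f.Prime] (hfp : f ≠ p)
    {x : ℕ} (hx : x ∈ relCharDegrees N) (hpx : p ∣ x) (hfx : f ∣ x) : False := by
  classical
  haveI := h.hP
  haveI := finite_dual N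
  have hfd : ∀ {d : ℕ}, f ∣ d → ¬ Nat.Coprime x d := fun hd h1 =>
    hf.out.one_lt.ne' (Nat.eq_one_of_dvd_coprimes h1 hfx hd)
  have hND : ∀ χ : G → ℂ, IsIrrCharacter G χ → Over N.subtype χ (lf μ) → ¬ f ∣ charDegree χ :=
    fun χ hχ ho h1 => hfd h1
      ((h.a0 h.hμ1 (h.not_coprime_of_dvd dvd_rfl) hχ ho).2 x hx hpx)
  obtain ⟨hnμ, F, hFK, hFμ, hab, hPF, hk4⟩ := h.krK hfp h.hμ1 h.not_dvd_u hND
  set n := Nat.card (Sylow f K) with hn
  have hn1 : n ≠ 1 := by
    intro h3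
    haveI : Subsingleton (Sylow f K) := (Nat.card_eq_one_iff_unique.1 h3).1
    have h4 := Sylow.normal_of_subsingleton (F.subtype hFK)
    refine h.false_of_normal hfp hx hpx hfx F hFμ hab hPF ?_
    intro k hk y hy
    exact h4.conj_mem ⟨y, hFK hy⟩ hy ⟨k, hk⟩
  -- the primes dividing `n`
  have hep : ∀ e : ℕ, e.Prime → e ∣ n → e ≠ p := by
    rintro e he hen rfl
    exact h.not_dvd_u (hen.trans hnμ)
  have heb : ∀ e : ℕ, e ∣ n → e ∣ b := fun e hen => (hen.trans hnμ).trans h.hb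
  have hez : ∀ e : ℕ, e.Prime → e ∣ n → ∀ z ∈ relCharDegrees N, p ∣ z → ¬ e ∣ z := by
    intro e he hen z hz hpz hez
    exact he.one_lt.ne' (Nat.eq_one_of_dvd_coprimes (h.coprime_b hz hpz) hez (heb e hen))
  have hE : ∀ e : ℕ, e.Prime → e ∣ n → ∀ R : Sylow e K,
      (R : Subgroup K).Normal ∧
      (∀ x ∈ (R : Subgroup K), ∀ y ∈ (R : Subgroup K), x * y = y * x) ∧
      (∀ θ : ↥(P : Subgroup G) → ℂ, IsIrrCharacter _ θ → charDegree θ ≠ 1 →
        ∀ y ∈ (R : Subgroup K), (y : G) ∈ inertia (P : Subgroup G) θ) ∧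
      (∀ l : N →* ℂˣ, ¬ e ∣ (MulAction.stabilizer G l).index →
        ∀ y ∈ (R : Subgroup K), (y : G) • l = l) := by
    intro e he hen R
    haveI : Fact e.Prime := ⟨he⟩
    exact h.sylow_e_props hβ (hep e he hen) (hez e he hen) R
  set H : Subgroup K := HS K n with hHdef
  haveI hHn : H.Normal := HS_normal (fun e he hen R => (hE e he hen R).1)
  have hHc : ∀ a ∈ H, ∀ b ∈ H, a * b = b * a :=
    HS_comm (fun e he hen R => (hE e he hen R).1) (fun e he hen R => (hE e he hen R).2.1)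
  have hHt : ∀ R R' : Sylow f K, ∃ g ∈ H, g • R = R' := fun R R' => HS_trans hn.symm R R'
  have hHθ : ∀ θ : ↥(P : Subgroup G) → ℂ, IsIrrCharacter _ θ → charDegree θ ≠ 1 →
      ∀ g ∈ H, (g : G) ∈ inertia (P : Subgroup G) θ := by
    intro θ hθ hθ1
    have h1 : H ≤ (inertia (P : Subgroup G) θ).subgroupOf K :=
      HS_le (fun e he hen R y hy => (hE e he hen R).2.2.1 θ hθ hθ1 y hy)
    exact fun g hg => h1 hg
  have hHl : ∀ l : N →* ℂˣ,
      (∀ e : ℕ, e.Prime → e ∣ n → ¬ e ∣ (MulAction.stabilizer G l).index) →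
      ∀ g ∈ H, (g : G) • l = l := by
    intro l hl
    have h1 : H ≤ (MulAction.stabilizer G l).subgroupOf K :=
      HS_le (fun e he hen R y hy => (hE e he hen R).2.2.2 l (hl e he hen) y hy)
    exact fun g hg => h1 hg
  have huniq : ∀ l : N →* ℂˣ, (∃ g ∈ H, (g : G) • l ≠ l) →
      ∃! R : Sylow f K, ∀ y ∈ (R : Subgroup K), (y : G) • l = l := by
    rintro l ⟨g, hg, hgl⟩
    have hl1 : l ≠ 1 := by
      rintro rfl
      exact hgl (MonoidHom.ext fun n => rfl)
    have hND' : ∀ χ : G → ℂ, IsIrrCharacter G χ → Over N.subtype χ (lf l) →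
        ¬ f ∣ charDegree χ := by
      intro χ hχ ho hfχ
      have h1 := h.f2 x hx hpx _ (mem_rel_of_over hχ ho hl1) (hfd hfχ)
      refine hgl (hHl l (fun e he hen hel => ?_) g hg)
      exact he.one_lt.ne' (Nat.eq_one_of_dvd_coprimes h1 (hel.trans (stab_dvd_of_over hχ ho))
        (heb e hen))
    obtain ⟨-, Q, hQK, hQl, -, -, hQ4⟩ := h.krK hfp hl1 (h.notp hβ l) hND'
    refine ⟨Q.subtype hQK, fun y hy => hQl hy, fun R' hR' => ?_⟩
    exact h.uniq_K Q hQK hQ4 R' hR'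
  -- the centralizer of `P / N`
  obtain ⟨C, hCn, hC⟩ := h.exists_cent
  set H₁ : Subgroup K := H ⊓ C.subgroupOf K with hH1def
  haveI hCK : (C.subgroupOf K).Normal := hCn.subgroupOf K
  haveI hH1n : H₁.Normal := Subgroup.normal_inf_normal H (C.subgroupOf K)
  have hFC : ∀ y ∈ (F : Subgroup G), y ∈ C := by
    intro y hy
    rw [hC]
    intro z hz
    have h1 := inv_mem (hPF z hz y hy)
    have h2 : y * z * y⁻¹ * z⁻¹ = (z * y * z⁻¹ * y⁻¹)⁻¹ := by group
    rw [h2]; exact h1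
  have hnt : ∃ g ∈ H₁, ∃ v : N →* ℂˣ, g • v ≠ v := by
    by_contra hcon
    push Not at hcon
    apply hn1
    rw [hn]
    refine Nat.card_eq_one_iff_unique.2 ⟨⟨fun R R' => ?_⟩, ⟨F.subtype hFK⟩⟩
    have key : ∀ R : Sylow f K, R = F.subtype hFK := by
      intro R
      obtain ⟨g, hg, rfl⟩ := hHt (F.subtype hFK) R
      apply h.uniq_K F hFK hk4
      intro y hy
      rw [Sylow.coe_subgroup_smul] at hy
      obtain ⟨z, hz, hzy⟩ := hy
      have h1 : g * z * g⁻¹ = y := hzy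
      have hzF : (z : G) ∈ (F : Subgroup G) := hz
      have h2 : g * z * g⁻¹ * z⁻¹ ∈ H₁ := by
        refine ⟨?_, ?_⟩
        · have e : g * z * g⁻¹ * z⁻¹ = g * (z * g⁻¹ * z⁻¹) := by group
          rw [e]
          exact mul_mem hg (hHn.conj_mem _ (inv_mem hg) z)
        · have hzC : z ∈ C.subgroupOf K := hFC _ hzF
          exact (C.subgroupOf K).mul_mem (hCK.conj_mem z hzC g) ((C.subgroupOf K).inv_mem hzC)
      have h3 := hcon _ h2 ((z : G) • μ)
      have h4 : (z : G) • μ = μ := hFμ hzF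
      have h5 : ((g * z * g⁻¹ * z⁻¹ : K) : G) • ((z : G) • μ) = (z : G) • μ := h3
      rw [← mul_smul, h4] at h5
      have h6 : ((g * z * g⁻¹ * z⁻¹ : K) : G) * (z : G) = (y : G) := by
        rw [← h1]
        push_cast
        group
      rwa [h6] at h5
    rw [key R, key R']
  have Y : Fin.YHyp p f K (N →* ℂˣ) H H₁ :=
    { hV := pV_dual h.hNp
      trans := hHt
      uniq := fun v ⟨g, hg, hgv⟩ => huniq v ⟨g, hg.1, hgv⟩
      ne := hn1
      comm := hHc
      le := inf_le_left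
      cop := fun h1 => h.not_dvd_card (h1.trans (Subgroup.card_subgroup_dvd_card H₁))
      nontriv := hnt
      hfp := hfp }
  -- the pairing on `P`
  have hXn : Group.IsNilpotent (P : Subgroup G) := P.isPGroup'.isNilpotent
  have hXc : commutator (P : Subgroup G) ≠ ⊥ := by
    intro hbot
    obtain ⟨⟨χ, hχ⟩, -, rfl⟩ := hx
    dsimp only at hpx
    obtain ⟨θ, hθ, ho⟩ := exists_under (f := (P : Subgroup G).subtype) hχ
    apply h.nonlinear_P hχ hpx hθ ho
    obtain ⟨ϕ, rfl⟩ := Characters.CCBasic.exists_hom_of_comm (fun a c => by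
      have h1 := commElt_mem a c
      rw [hbot, Subgroup.mem_bot] at h1
      calc a * c = (a * c * a⁻¹ * c⁻¹) * (c * a) := by group
        _ = c * a := by rw [h1, one_mul]) hθ
    exact charDegree_lf ϕ
  obtain ⟨ν, hν⟩ := exists_nu hXn hXc
  obtain ⟨θ, hθ, hθ1, hval⟩ := ν.exists_irr hν
  have hθ0 : θ 1 ≠ 0 := isIrr_apply_one_ne_zero hθ
  have hB : ∀ g ∈ H, ∀ x y : (P : Subgroup G),
      ν.B (MulAut.conjNormal (g : G) x) (MulAut.conjNormal (g : G) y) = ν.B x y := by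
    intro g hg x y
    apply ν.B_comp (MulAut.conjNormal (g : G))
    intro z hz hz'
    have h1 := congrFun (mem_inertia.1 (hHθ θ hθ hθ1 g hg)) z
    have h2 : θ (MulAut.conjNormal (g : G) z) = θ z := h1
    have h3 := hval ⟨z, hz⟩
    have h4 := hval ⟨MulAut.conjNormal (g : G) z, hz'⟩
    have h5 : θ 1 * (ν.ν ⟨MulAut.conjNormal (g : G) z, hz'⟩ : ℂ) = θ 1 * (ν.ν ⟨z, hz⟩ : ℂ) := by
      rw [← h3, ← h4]
      exact h2
    exact Units.ext (mul_left_cancel₀ hθ0 h5)
  let ι : N →* (P : Subgroup G) := Subgroup.inclusion h.hNP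
  have hι : ∀ (g : G) (m : N), ι (g • m) = MulAut.conjNormal g (ι m) := fun g m => rfl
  let Φ : N →* (N →* ℂˣ) :=
    { toFun := fun m =>
        { toFun := fun n => ν.B (ι m) (ι n)
          map_one' := by rw [map_one]; exact ν.B_one_right _
          map_mul' := fun a c => by rw [map_mul]; exact ν.B_mul_right _ _ _ }
      map_one' := by
        apply MonoidHom.ext
        intro n
        show ν.B (ι 1) (ι n) = 1
        rw [map_one]; exact ν.B_one_left _
      map_mul' := fun a c => by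
        apply MonoidHom.ext
        intro n
        show ν.B (ι (a * c)) (ι n) = ν.B (ι a) (ι n) * ν.B (ι c) (ι n)
        rw [map_mul]; exact ν.B_mul_left _ _ _ }
  have hΦa : ∀ m n : N, Φ m n = ν.B (ι m) (ι n) := fun m n => rfl
  have ev_smul : ∀ (k : K) (v : N →* ℂˣ) (m : N), (k • v) m = v (k⁻¹ • m) := fun k v m => rfl
  obtain ⟨x1, hx1, g, hg, k, hk, v, hv⟩ := Y.exists_moved (M := N) (T := ℂˣ) (fun v m => v m)
    (fun v w m => rfl) (fun v m m' => map_mul v m m') ev_smul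
    (fun v hv => MonoidHom.ext hv)
  refine Y.false_of_pairing (M := N) (T := ℂˣ) (fun v m => v m)
    (fun v w m => rfl) (fun v m m' => map_mul v m m') ev_smul Φ ?_ ?_ ⟨x1, hx1, ?_⟩
  · intro g hg m
    apply MonoidHom.ext
    intro n
    have h1 := hB g hg (ι m) (ι (g⁻¹ • n))
    have h2 : ι n = MulAut.conjNormal (g : G) (ι (g⁻¹ • n)) := by
      rw [← hι]
      congr 1
      exact (smul_inv_smul g n).symm
    show ν.B (ι (g • m)) (ι n) = ν.B (ι m) (ι (g⁻¹ • n))
    rw [← h1, ← h2]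
    rfl
  · intro m hm
    have h1 : m ∈ commutator N := mem_commutator_of_dual hm
    exact MonoidHom.mem_ker.1 (Abelianization.commutator_subset_ker Φ h1)
  · -- `Φ x1 ≠ 1`
    intro hΦ1
    set x2 : N := (g • x1) * x1⁻¹ with hx2
    obtain ⟨lam, hlam⟩ := h.exists_ext_P hβ v
    have hlam' : ∀ m : N, lam (ι m) = v m := hlam
    have hzero : θ (ι x2) = 0 := by
      have h1 := congrFun (mem_inertia.1 (hHθ θ hθ hθ1 k hk.1)) (ι x2)
      have h2 : θ (ι (k • x2)) = θ (ι x2) := h1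
      have hlθ := isIrr_mul_lf lam hθ
      have h3 := congrFun (mem_inertia.1 (hHθ _ hlθ (by rwa [charDegree_mul_lf]) k hk.1)) (ι x2)
      have h4 : (lam (ι (k • x2)) : ℂ) * θ (ι (k • x2)) = (lam (ι x2) : ℂ) * θ (ι x2) := h3
      rw [h2, hlam', hlam'] at h4
      by_contra h5
      exact hv (Units.ext (mul_right_cancel₀ h5 h4))
    obtain ⟨y, hy⟩ := ν.exists_B_ne hθ hval hzero
    apply hy
    -- the commutator
    have hmem' : (g : G)⁻¹ * y * (g : G) * (y : G)⁻¹ ∈ N := by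
      have h1 := (hC ((g⁻¹ : K) : G)).1 (inv_mem hg.2 : (g⁻¹ : K) ∈ C.subgroupOf K) y y.2
      have h2 : ((g⁻¹ : K) : G) * y * ((g⁻¹ : K) : G)⁻¹ * (y : G)⁻¹ =
          (g : G)⁻¹ * y * (g : G) * (y : G)⁻¹ := by
        push_cast
        group
      rwa [h2] at h1
    set n0 : N := ⟨_, hmem'⟩ with hn0
    have h1 : ν.B (ι (g • x1)) y = ν.B (ι x1) (MulAut.conjNormal (g : G)⁻¹ y) := by
      rw [← hB g hg.1 (ι x1) (MulAut.conjNormal (g : G)⁻¹ y)]
      have e : MulAut.conjNormal (g : G) (MulAut.conjNormal (g : G)⁻¹ y) = y := by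
        apply Subtype.ext
        rw [MulAut.conjNormal_apply, MulAut.conjNormal_apply]
        group
      rw [e]
      rfl
    have h2 : MulAut.conjNormal (g : G)⁻¹ y = ι n0 * y := by
      apply Subtype.ext
      rw [MulAut.conjNormal_apply, Subgroup.coe_mul]
      show (g : G)⁻¹ * y * (g : G)⁻¹⁻¹ = ((g : G)⁻¹ * y * (g : G) * (y : G)⁻¹) * y
      group
    have h3 : ν.B (ι x1) (ι n0) = 1 := by
      rw [← hΦa, hΦ1]
      rfl
    rw [hx2, map_mul, map_inv, ν.B_mul_left, ν.B_inv_left, h1, h2, ν.B_mul_right, h3, one_mul,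
      mul_inv_cancel]

/-- **There is no bad situation.** -/
theorem false_aux : False := by
  obtain ⟨x, hx, y, hy, hpx, hpy, hxy⟩ := h.edge
  obtain ⟨f, hf, h1, h2⟩ := Nat.Prime.not_coprime_iff_dvd.1 hxy
  haveI : Fact f.Prime := ⟨hf⟩
  have hfp : f ≠ p := by
    rintro rfl
    exact hpy h2
  exact h.caseB hβ hfp hx hpx h1

end Bad2

theorem Bad.false {μ : N →* ℂˣ} {b : ℕ} (h : Bad p N μ b) (hIM : AllIM G) : False := by
  obtain ⟨P, K, h2⟩ := h.exists_bad2 hIM
  by_cases hβ : ∀ v : N →* ℂˣ, v ∈ Orb.FixP (P : Subgroup G) (N →* ℂˣ)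
  · exact h2.false_aux hβ
  · push Not at hβ
    obtain ⟨x, hx, y, hy, hpx, hpy, hxy⟩ := h.edge
    obtain ⟨f, hf, h1, h3⟩ := Nat.Prime.not_coprime_iff_dvd.1 hxy
    haveI : Fact f.Prime := ⟨hf⟩
    have hfp : f ≠ p := by
      rintro rfl
      exact hpy h3
    refine h2.caseA hfp hx hpx h1 (fun χ hχ ho h4 => ?_) hβ
    exact hf.one_lt.ne' (Nat.eq_one_of_dvd_coprimes
      ((h.a0 h.hμ1 (h.not_coprime_of_dvd dvd_rfl) hχ ho).2 x hx hpx) h1 h4)

end

end Cfsg.Agent.H673
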