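import Mathlib
import Cfsg.Agent.H673.ConnF
import Cfsg.Agent.S0188

/-!
# The relative degree graph: connected case, nilpotent `N`

Reduction to `p`-groups, and the diameter.
-/

set_option autoImplicit false
set_option linter.style.haveILetI false
set_option linter.unusedSectionVars false
open Cfsg

namespace Cfsg.Agent.H673

open Cfsg.Agent.H672
open Cfsg.Agent.Characters.Core Cfsg.Agent.Characters.Clifford
open scoped ComplexConjugate

universe u v w

variable {G : Type u} [Group G] [Finite G]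

/-- chains of length three -/
def Ch3 (N : Subgroup G) (a b : ℕ) : Prop :=
  ∃ c ∈ relCharDegrees N, ∃ d ∈ relCharDegrees N,
    ¬ Nat.Coprime a c ∧ ¬ Nat.Coprime c d ∧ ¬ Nat.Coprime d b

theorem Ch3.symm {N : Subgroup G} {a b : ℕ} (h : Ch3 N a b) : Ch3 N b a := by
  obtain ⟨c, hc, d, hd, h1, h2, h3⟩ := h
  exact ⟨d, hd, c, hc, fun h => h3 h.symm, fun h => h2 h.symm, fun h => h1 h.symm⟩

/-- the case of a `p`-group -/
theorem ch3_pgroup {p : ℕ} [hp : Fact p.Prime] (N : Subgroup G) [hN : N.Normal]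
    (hNp : IsPGroup p N) (hNG : N ≤ commutator G) (hIM : AllIM G)
    (hconn : ∀ x ∈ relCharDegrees N, ∀ y ∈ relCharDegrees N, Conn N x y) :
    ∀ a ∈ relCharDegrees N, ∀ b ∈ relCharDegrees N, Ch3 N a b := by
  have self : ∀ {x : ℕ}, x ∈ relCharDegrees N → ¬ Nat.Coprime x x := fun hx =>
    not_coprime_self (one_lt_of_mem_rel hNG hx)
  have common : ∀ {x y : ℕ}, p ∣ x → p ∣ y → ¬ Nat.Coprime x y := fun h1 h2 h =>
    hp.out.one_lt.ne' (Nat.eq_one_of_dvd_coprimes h h1 h2)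
  have near : ∀ y ∈ relCharDegrees N, ¬ p ∣ y → ∃ μ : N →* ℂˣ, μ ≠ 1 ∧
      (inertia N (lf μ)).index ∣ y ∧ (∃ R : Sylow p G, μ ∈ ER hNp R) ∧
      ∀ z ∈ relCharDegrees N, ¬ p ∣ z →
      ∃ d ∈ relCharDegrees N, ¬ Nat.Coprime z d ∧ ¬ Nat.Coprime d y := by
    rintro _ ⟨⟨χ, hχ⟩, hk, rfl⟩ hpy
    dsimp only at hk hpy ⊢
    obtain ⟨θ, hθ, ho⟩ := exists_under (f := N.subtype) hχ
    obtain ⟨l, rfl⟩ := lin_of_not_dvd hNp hχ hpy hθ ho
    have hl1 : l ≠ 1 := by
      rintro rfl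
      exact ne_one_of_over N hχ hk (isIrr_lf _) ho lf_one
    have hd := index_dvd_of_over hχ (isIrr_lf l) ho
    obtain ⟨R, hR⟩ := exists_mem_ER hNp hχ ho hpy
    refine ⟨l, hl1, hd, ⟨R, hR⟩, fun z hz hpz => ?_⟩
    obtain ⟨ν, hν⟩ := (mem_ER_iff hNp R l).1 hR
    obtain ⟨k, hk'⟩ := exists_pow_pV hNp
    obtain ⟨d, hd', h1, h2⟩ := caseI' hNG R hl1 (hk' l) ν hν z hz hpz
    exact ⟨d, hd', h1, fun h3 => h2 (h3.coprime_dvd_right hd)⟩
  have key : ∀ a ∈ relCharDegrees N, ∀ b ∈ relCharDegrees N, p ∣ a → ¬ p ∣ b → Ch3 N a b := by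
    intro a ha b hb hpa hpb
    by_contra hcon
    obtain ⟨μ, hμ1, hμb, hμE, hnear⟩ := near b hb hpb
    have hbad : Bad p N μ b :=
      { hNp := hNp
        hNG := hNG
        hb := by rw [stabilizer_eq]; exact hμb
        hμ1 := hμ1
        hμE := hμE
        f1 := by
          refine ⟨a, ha, hpa, fun y hy hpy => ?_⟩
          by_contra hay
          obtain ⟨d, hd, h1, h2⟩ := hnear y hy hpy
          exact hcon ⟨y, hy, d, hd, hay, h1, h2⟩
        f2 := by
          intro z hz hpz d hd hzd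
          by_contra hdb
          exact hcon ⟨z, hz, d, hd, common hpa hpz, hzd, hdb⟩
        edge := by
          obtain ⟨x, hx, y, hy, h1, h2, h3⟩ :=
            exists_edge (hconn a ha b hb) (fun z => p ∣ z) hpa hpb
          exact ⟨x, hx, y, hy, h1, h2, h3⟩ }
    exact hbad.false hIM
  intro a ha b hb
  by_cases hpa : p ∣ a
  · by_cases hpb : p ∣ b
    · exact ⟨a, ha, a, ha, self ha, self ha, common hpa hpb⟩
    · exact key a ha b hb hpa hpb
  · by_cases hpb : p ∣ b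
    · exact (key b hb a ha hpb hpa).symm
    · obtain ⟨-, -, -, -, hnear⟩ := near b hb hpb
      obtain ⟨d, hd, h1, h2⟩ := hnear a ha hpa
      exact ⟨d, hd, d, hd, h1, self hd, h2⟩

/-- the degrees over a nontrivial character have a common factor -/
theorem common_factor {M : Subgroup G} [M.Normal] (hMG : M ≤ commutator G) {θ : M → ℂ}
    (hθ : IsIrrCharacter M θ) (hθ1 : θ ≠ 1) :
    ∃ q, 1 < q ∧ ∀ χ : G → ℂ, IsIrrCharacter G χ → Over M.subtype χ θ → q ∣ charDegree χ := by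
  by_cases h1 : (inertia M θ).index * charDegree θ = 1
  · have h2 : (inertia M θ).index = 1 := Nat.dvd_one.1 (h1 ▸ Dvd.intro _ rfl)
    have h3 : charDegree θ = 1 := Nat.dvd_one.1 (h1 ▸ Dvd.intro_left _ rfl)
    obtain ⟨ϕ, rfl⟩ := exists_hom_of_degree_one hθ h3
    have hϕ : ϕ ≠ 1 := by rintro rfl; exact hθ1 lf_one
    obtain ⟨r, j, hr, hx, hj⟩ := exists_pow_prime ϕ hϕ
    haveI : Fact r.Prime := ⟨hr⟩
    refine ⟨r, hr.one_lt, fun χ hχ ho => ?_⟩
    refine prime_dvd_of_over hMG (k := 1) (j := j) hx (by rwa [pow_one]) ?_ hχ ho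
    rw [Subgroup.index_eq_one] at h2
    exact top_le_iff.1 (h2.symm.le.trans (inertia_pow M ϕ j))
  · have h0 : 0 < (inertia M θ).index * charDegree θ :=
      Nat.mul_pos (Nat.pos_of_ne_zero Subgroup.index_ne_zero_of_finite) (charDegree_pos hθ)
    exact ⟨_, by omega, fun χ hχ ho => index_mul_charDegree_dvd M hχ hθ ho⟩

theorem exists_over_hom {H : Type v} [Group H] [Finite H] (f : H →* G)
    (hf : Function.Injective f) {θ : H → ℂ} (hθ : IsIrrCharacter H θ) :
    ∃ χ : G → ℂ, IsIrrCharacter G χ ∧ Over f χ θ := by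
  let e : H ≃* f.range := MonoidHom.ofInjective hf
  have hθ' : IsIrrCharacter f.range (θ ∘ e.symm) :=
    isIrr_comp (e.symm : f.range →* H) e.symm.surjective hθ
  obtain ⟨χ, hχ, ho⟩ := exists_over_subtype f.range hθ'
  refine ⟨χ, hχ, ?_⟩
  have h1 := (over_comp_equiv f.range.subtype e χ (θ ∘ e.symm)).2 ho
  have h2 : (θ ∘ e.symm) ∘ e = θ := by
    funext x
    simp
  have h3 : f.range.subtype.comp e.toMonoidHom = f := by
    ext x
    rfl
  rwa [h2, h3] at h1

/-- characters over two commuting normal subgroups -/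
theorem exists_over_two (M L : Subgroup G) (hc : ∀ m ∈ M, ∀ l ∈ L, m * l = l * m)
    (hd : Disjoint M L) {θ : M → ℂ} (hθ : IsIrrCharacter M θ) {ν : L → ℂ}
    (hν : IsIrrCharacter L ν) :
    ∃ χ : G → ℂ, IsIrrCharacter G χ ∧ Over M.subtype χ θ ∧ Over L.subtype χ ν := by
  classical
  letI := Fintype.ofFinite M
  letI := Fintype.ofFinite L
  let f : M × L →* G :=
    { toFun := fun x => (x.1 : G) * (x.2 : G)
      map_one' := by simp
      map_mul' := by
        intro x y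
        have h1 := hc (y.1 : G) y.1.2 (x.2 : G) x.2.2
        show (x.1 : G) * y.1 * ((x.2 : G) * y.2) = (x.1 : G) * x.2 * ((y.1 : G) * y.2)
        calc (x.1 : G) * y.1 * ((x.2 : G) * y.2) = (x.1 : G) * ((y.1 : G) * x.2) * y.2 := by group
          _ = (x.1 : G) * ((x.2 : G) * y.1) * y.2 := by rw [h1]
          _ = (x.1 : G) * x.2 * ((y.1 : G) * y.2) := by group }
  have hf : Function.Injective f := by
    rw [injective_iff_map_eq_one]
    intro x hx
    have h1 : (x.1 : G) * (x.2 : G) = 1 := hx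
    have h2 : (x.1 : G) = (x.2 : G)⁻¹ := eq_inv_of_mul_eq_one_left h1
    have h3 : (x.1 : G) ∈ M ⊓ L := ⟨x.1.2, by rw [h2]; exact L.inv_mem x.2.2⟩
    rw [hd.eq_bot, Subgroup.mem_bot] at h3
    rw [h3, one_mul] at h1
    exact Prod.ext (Subtype.ext h3) (Subtype.ext h1)
  have hη : IsIrrCharacter (M × L) (fun x => θ x.1 * ν x.2) :=
    (S0188.result _).2 ⟨θ, ν, hθ, hν, rfl⟩
  obtain ⟨χ, hχ, ho⟩ := exists_over_hom f hf hη
  refine ⟨χ, hχ, ?_, ?_⟩
  · have e : M.subtype = f.comp (MonoidHom.inl M L) := by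
      ext m
      show (m : G) = (m : G) * ((1 : L) : G)
      rw [OneMemClass.coe_one, mul_one]
    rw [e]
    refine (over_comp_iff _ _ (isIrr_isCharacter hχ) hθ).2 ⟨_, hη, ho, ?_⟩
    rw [over_iff]
    have e2 : (fun x : M × L => θ x.1 * ν x.2) ∘ (MonoidHom.inl M L) = ν 1 • θ := by
      funext m
      show θ m * ν 1 = ν 1 * θ m
      rw [mul_comm]
    rw [e2, classInner_smul_left, classInner_irr_self hθ, mul_one]
    exact isIrr_apply_one_ne_zero hν
  · have e : L.subtype = f.comp (MonoidHom.inr M L) := by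
      ext m
      show (m : G) = ((1 : M) : G) * (m : G)
      rw [OneMemClass.coe_one, one_mul]
    rw [e]
    refine (over_comp_iff _ _ (isIrr_isCharacter hχ) hν).2 ⟨_, hη, ho, ?_⟩
    rw [over_iff]
    have e2 : (fun x : M × L => θ x.1 * ν x.2) ∘ (MonoidHom.inr M L) = θ 1 • ν := rfl
    rw [e2, classInner_smul_left, classInner_irr_self hν, mul_one]
    exact isIrr_apply_one_ne_zero hθ

/-- two degrees over commuting normal subgroups -/
theorem link_two {M L N : Subgroup G} [M.Normal] [L.Normal] [N.Normal] (hMN : M ≤ N) (hLN : L ≤ N)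
    (hNG : N ≤ commutator G)
    (hc : ∀ m ∈ M, ∀ l ∈ L, m * l = l * m) (hd : Disjoint M L) {θ : M → ℂ}
    (hθ : IsIrrCharacter M θ) (hθ1 : θ ≠ 1) {ν : L → ℂ} (hν : IsIrrCharacter L ν) (hν1 : ν ≠ 1)
    {χ χ' : G → ℂ} (hχ : IsIrrCharacter G χ) (ho : Over M.subtype χ θ)
    (hχ' : IsIrrCharacter G χ') (ho' : Over L.subtype χ' ν) :
    ∃ e ∈ relCharDegrees N, ¬ Nat.Coprime (charDegree χ) e ∧ ¬ Nat.Coprime e (charDegree χ') := by
  obtain ⟨ψ, hψ, h1, h2⟩ := exists_over_two M L hc hd hθ hν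
  obtain ⟨q, hq, hq'⟩ := common_factor (hMN.trans hNG) hθ hθ1
  obtain ⟨r, hr, hr'⟩ := common_factor (hLN.trans hNG) hν hν1
  refine ⟨charDegree ψ, rel_mono hMN (mem_relCharDegrees_of_over M hψ hθ h1 hθ1), ?_, ?_⟩
  · intro h3
    have := Nat.eq_one_of_dvd_coprimes h3 (hq' χ hχ ho) (hq' ψ hψ h1)
    omega
  · intro h3
    have := Nat.eq_one_of_dvd_coprimes h3 (hr' ψ hψ h2) (hr' χ' hχ' ho')
    omega

/-- **The nilpotent case.** -/
theorem ch3_nilpotent (N : Subgroup G) [hN : N.Normal] (hnil : Group.IsNilpotent N)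
    (hNG : N ≤ commutator G) (hIM : AllIM G)
    (hconn : ∀ x ∈ relCharDegrees N, ∀ y ∈ relCharDegrees N, Conn N x y) :
    ∀ a ∈ relCharDegrees N, ∀ b ∈ relCharDegrees N, Ch3 N a b := by
  classical
  by_cases hpg : ∃ p : ℕ, p.Prime ∧ IsPGroup p N
  · obtain ⟨p, hp, hNp⟩ := hpg
    haveI : Fact p.Prime := ⟨hp⟩
    exact ch3_pgroup N hNp hNG hIM hconn
  -- Sylow subgroups of `N`
  let S : ℕ → Subgroup G := fun t => ((default : Sylow t N) : Subgroup N).map N.subtype
  have hSN : ∀ t, S t ≤ N := fun t => Subgroup.map_subtype_le _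
  have hSn : ∀ t, t.Prime → (S t).Normal := by
    intro t ht
    haveI : Fact t.Prime := ⟨ht⟩
    have h1 : ((default : Sylow t N) : Subgroup N).Normal := by
      have := (Group.isNilpotent_of_finite_tfae (G := N)).out 0 3
      exact this.1 hnil t ⟨ht⟩ default
    haveI : ((default : Sylow t N) : Subgroup N).Characteristic :=
      Sylow.characteristic_of_normal _ h1
    exact inferInstance
  have hdis : ∀ s t, s.Prime → t.Prime → s ≠ t → Disjoint (S s) (S t) := by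
    intro s t hs ht hst
    haveI : Fact s.Prime := ⟨hs⟩
    haveI : Fact t.Prime := ⟨ht⟩
    apply Subgroup.disjoint_of_coprime_natCard
    have h1 : IsPGroup s (S s) := (default : Sylow s N).isPGroup'.map _
    have h2 : IsPGroup t (S t) := (default : Sylow t N).isPGroup'.map _
    obtain ⟨a, ha⟩ := IsPGroup.iff_card.1 h1
    obtain ⟨b, hb⟩ := IsPGroup.iff_card.1 h2
    rw [ha, hb]
    exact Nat.Coprime.pow _ _ ((Nat.coprime_primes hs ht).2 hst)
  have hcom : ∀ s t, s.Prime → t.Prime → s ≠ t → ∀ m ∈ S s, ∀ l ∈ S t, m * l = l * m := by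
    intro s t hs ht hst m hm l hl
    exact Subgroup.commute_of_normal_of_disjoint _ _ (hSn s hs) (hSn t ht) (hdis s t hs ht hst)
      m l hm hl
  have hdeg : ∀ a ∈ relCharDegrees N, ∃ t, t.Prime ∧ ∃ χ : G → ℂ, IsIrrCharacter G χ ∧
      charDegree χ = a ∧ ∃ θ : S t → ℂ, IsIrrCharacter (S t) θ ∧ θ ≠ 1 ∧
        Over (S t).subtype χ θ := by
    rintro _ ⟨⟨χ, hχ⟩, hk, rfl⟩
    dsimp only at hk ⊢
    obtain ⟨t, ht, x, hx, hxne⟩ : ∃ t, t.Prime ∧ ∃ x ∈ S t, χ x ≠ χ 1 := by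
      by_contra hcon
      push Not at hcon
      obtain ⟨x, hx, hxne⟩ := hk
      obtain ⟨d, ρ, hρ, rfl⟩ := id hχ
      let B : Subgroup N := (MonoidHom.ker (ρ : G →* _)).subgroupOf N
      have hB : ∀ t, t.Prime → ((default : Sylow t N) : Subgroup N) ≤ B := by
        intro t ht y hy
        have h1 := hcon t ht y ⟨y, hy, rfl⟩
        rw [Representation.char_one] at h1
        exact (Characters.Values.character_eq_finrank_iff ρ (y : G)).1 h1
      have hB1 : B.index = 1 := by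
        by_contra hne
        obtain ⟨t, ht, htd⟩ := Nat.exists_prime_and_dvd hne
        haveI : Fact t.Prime := ⟨ht⟩
        exact (default : Sylow t N).not_dvd_index
          (htd.trans (Subgroup.index_dvd_of_le (hB t ht)))
      rw [Subgroup.index_eq_one] at hB1
      apply hxne
      have h2 : (⟨x, hx⟩ : N) ∈ B := by rw [hB1]; trivial
      have h3 : ρ x = 1 := h2
      rw [Representation.char_one]
      exact (Characters.Values.character_eq_finrank_iff ρ x).2 h3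
    haveI := hSn t ht
    obtain ⟨θ, hθ, ho⟩ := exists_under (f := (S t).subtype) hχ
    exact ⟨t, ht, χ, hχ, rfl, θ, hθ, ne_one_of_over (S t) hχ ⟨x, hx, hxne⟩ hθ ho, ho⟩
  intro a ha b hb
  have self : ∀ {x : ℕ}, x ∈ relCharDegrees N → ¬ Nat.Coprime x x := fun hx =>
    not_coprime_self (one_lt_of_mem_rel hNG hx)
  obtain ⟨s, hs, χ, hχ, rfl, θ, hθ, hθ1, ho⟩ := hdeg a ha
  obtain ⟨t, ht, χ', hχ', rfl, θ', hθ', hθ1', ho'⟩ := hdeg b hb
  haveI := hSn s hs
  haveI := hSn t ht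
  by_cases hst : s = t
  swap
  · obtain ⟨e, he, h1, h2⟩ := link_two (hSN s) (hSN t) hNG (hcom s t hs ht hst)
      (hdis s t hs ht hst) hθ hθ1 hθ' hθ1' hχ ho hχ' ho'
    exact ⟨e, he, e, he, h1, self he, h2⟩
  subst hst
  -- another prime
  obtain ⟨r, hr, hrs, hrN⟩ : ∃ r : ℕ, r.Prime ∧ r ≠ s ∧ r ∣ Nat.card N := by
    by_contra hcon
    push Not at hcon
    apply hpg
    refine ⟨s, hs, ?_⟩
    haveI : Fact s.Prime := ⟨hs⟩
    rw [IsPGroup.iff_card]
    exact ⟨_, Nat.eq_prime_pow_of_unique_prime_dvd Nat.card_pos.ne' (fun {d} hd hdN => by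
      by_contra hds
      exact hcon d hd hds hdN)⟩
  haveI : Fact r.Prime := ⟨hr⟩
  haveI := hSn r hr
  have hSr : S r ≠ ⊥ := by
    intro hbot
    have h1 : ((default : Sylow r N) : Subgroup N) = ⊥ :=
      (Subgroup.map_eq_bot_iff_of_injective _ N.subtype_injective).1 hbot
    have h2 := (default : Sylow r N).not_dvd_index
    rw [h1, Subgroup.index_bot] at h2
    exact h2 hrN
  haveI : Nontrivial (S r) := (Subgroup.nontrivial_iff_ne_bot _).2 hSr
  have hSrp : IsPGroup r (S r) := (default : Sylow r N).isPGroup'.map _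
  obtain ⟨lam, hlam⟩ := H670.PSing.exists_linear_ne_one hSrp
  have hν := isIrr_lf lam
  have hν1 := lf_ne_one hlam
  obtain ⟨ψ, hψ, h1, h2⟩ := exists_over_two (S s) (S r) (hcom s r hs hr hrs.symm)
    (hdis s r hs hr hrs.symm) hθ hν
  obtain ⟨ψ', hψ', h1', h2'⟩ := exists_over_two (S s) (S r) (hcom s r hs hr hrs.symm)
    (hdis s r hs hr hrs.symm) hθ' hν
  obtain ⟨q, hq, hq'⟩ := common_factor ((hSN s).trans hNG) hθ hθ1
  obtain ⟨q2, hq2, hq2'⟩ := common_factor ((hSN s).trans hNG) hθ' hθ1'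
  obtain ⟨q3, hq3, hq3'⟩ := common_factor ((hSN r).trans hNG) hν hν1
  refine ⟨charDegree ψ, rel_mono (hSN s) (mem_relCharDegrees_of_over (S s) hψ hθ h1 hθ1),
    charDegree ψ', rel_mono (hSN s) (mem_relCharDegrees_of_over (S s) hψ' hθ' h1' hθ1'),
    fun h3 => ?_, fun h3 => ?_, fun h3 => ?_⟩
  · have := Nat.eq_one_of_dvd_coprimes h3 (hq' χ hχ ho) (hq' ψ hψ h1)
    omega
  · have := Nat.eq_one_of_dvd_coprimes h3 (hq3' ψ hψ h2) (hq3' ψ' hψ' h2')
    omega
  · have := Nat.eq_one_of_dvd_coprimes h3 (hq2' ψ' hψ' h1') (hq2' χ' hχ' ho')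
    omega

/-! ### The diameter -/

theorem edist_le_one {D : Set ℕ} (a b : ↥D) (h : ¬ Nat.Coprime (a : ℕ) b)
    (ha : 0 < (a : ℕ)) : (commonDivisorGraph.induce D).edist a b ≤ 1 := by
  by_cases hab : a = b
  · rw [hab, SimpleGraph.edist_self]
    exact zero_le
  · refine le_of_eq (SimpleGraph.edist_eq_one_iff_adj.2 ?_)
    rw [SimpleGraph.comap_adj]
    refine ⟨fun h1 => hab (Subtype.ext h1), ?_⟩
    have h1 : Nat.gcd (a : ℕ) b ≠ 1 := h
    have h2 : 0 < Nat.gcd (a : ℕ) b := Nat.gcd_pos_of_pos_left _ ha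
    show 1 < Nat.gcd (a : ℕ) b
    omega

theorem diam_le_four (N : Subgroup G) [N.Normal] (hs : Group.IsSolvable N)
    (hNG : N ≤ commutator G)
    (hconn : (commonDivisorGraph.induce (relCharDegrees N)).Preconnected) :
    (commonDivisorGraph.induce (relCharDegrees N)).diam ≤ 4 := by
  have hc : ∀ x ∈ relCharDegrees N, ∀ y ∈ relCharDegrees N, Conn N x y :=
    fun x hx y hy => ⟨hx, hy, hconn _ _⟩
  have h1 : (commonDivisorGraph.induce (relCharDegrees N)).ediam ≤ 4 := by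
    apply SimpleGraph.ediam_le_of_edist_le
    rintro ⟨a, ha⟩ ⟨b, hb⟩
    obtain ⟨c, hc', d, hd, e, he, h1, h2, h3, h4⟩ := conn_aux _ N rfl hs hNG hc a ha b hb
    have k1 := edist_le_one (D := relCharDegrees N) ⟨a, ha⟩ ⟨c, hc'⟩ h1 (relCharDegrees_pos ha)
    have k2 := edist_le_one (D := relCharDegrees N) ⟨c, hc'⟩ ⟨d, hd⟩ h2 (relCharDegrees_pos hc')
    have k3 := edist_le_one (D := relCharDegrees N) ⟨d, hd⟩ ⟨e, he⟩ h3 (relCharDegrees_pos hd)
    have k4 := edist_le_one (D := relCharDegrees N) ⟨e, he⟩ ⟨b, hb⟩ h4 (relCharDegrees_pos he)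
    calc _ ≤ _ := SimpleGraph.edist_triangle (v := (⟨d, hd⟩ : relCharDegrees N))
      _ ≤ (1 + 1) + (1 + 1) := add_le_add
        (SimpleGraph.edist_triangle.trans (add_le_add k1 k2))
        (SimpleGraph.edist_triangle.trans (add_le_add k3 k4))
      _ = 4 := by norm_num
  exact ENat.toNat_le_of_le_natCast h1

theorem diam_le_three (N : Subgroup G) [N.Normal] (hnil : Group.IsNilpotent N)
    (hNG : N ≤ commutator G) (hIM : AllIM G)
    (hconn : (commonDivisorGraph.induce (relCharDegrees N)).Preconnected) :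
    (commonDivisorGraph.induce (relCharDegrees N)).diam ≤ 3 := by
  have hc : ∀ x ∈ relCharDegrees N, ∀ y ∈ relCharDegrees N, Conn N x y :=
    fun x hx y hy => ⟨hx, hy, hconn _ _⟩
  have h1 : (commonDivisorGraph.induce (relCharDegrees N)).ediam ≤ 3 := by
    apply SimpleGraph.ediam_le_of_edist_le
    rintro ⟨a, ha⟩ ⟨b, hb⟩
    obtain ⟨c, hc', d, hd, h1, h2, h3⟩ := ch3_nilpotent N hnil hNG hIM hc a ha b hb
    have k1 := edist_le_one (D := relCharDegrees N) ⟨a, ha⟩ ⟨c, hc'⟩ h1 (relCharDegrees_pos ha)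
    have k2 := edist_le_one (D := relCharDegrees N) ⟨c, hc'⟩ ⟨d, hd⟩ h2 (relCharDegrees_pos hc')
    have k3 := edist_le_one (D := relCharDegrees N) ⟨d, hd⟩ ⟨b, hb⟩ h3 (relCharDegrees_pos hd)
    calc _ ≤ _ := SimpleGraph.edist_triangle (v := (⟨d, hd⟩ : relCharDegrees N))
      _ ≤ (1 + 1) + 1 := add_le_add (SimpleGraph.edist_triangle.trans (add_le_add k1 k2)) k3
      _ = 3 := by norm_num
  exact ENat.toNat_le_of_le_natCast h1

end Cfsg.Agent.H673
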