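import Mathlib
import Cfsg.Agent.H673.ConnB
import Cfsg.Agent.H673.DiscAb2

/-!
# The relative degree graph: S4777 and S4778 from the Ito-Michler theorem

`IMStmt` is the statement of S4760, taken here as a hypothesis.
-/

set_option autoImplicit false
open Cfsg

universe u

namespace Cfsg.Agent.H673

/-- The Ito-Michler theorem (statement of S4760) in the universe `u`. -/
def IMStmt : Prop :=
  ∀ (G : Type u) [Group G] [Finite G] (p : ℕ) [Fact p.Prime] (P : Sylow p G),
    ((P : Subgroup G).Normal ∧ IsMulCommutative P) ↔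
      ∀ χ : Cfsg.IrrCharacter G, ¬ p ∣ Cfsg.charDegree (χ : G → ℂ)

/-- S4777 from the Ito-Michler theorem. -/
theorem s4777_of (hIM : IMStmt.{u}) {G : Type u} [Group G] [Finite G] (p : ℕ) [Fact p.Prime]
    (N : Subgroup G) [N.Normal] (hNp : IsPGroup p N) (hNab : IsMulCommutative N)
    (hNG : N ≤ commutator G) (P : Sylow p G)
    (hdisc : ¬ (Cfsg.commonDivisorGraph.induce (Cfsg.relCharDegrees N)).Preconnected) :
    (P : Subgroup G).Normal ∧ commutator G ≤ P ∧ ⁅(P : Subgroup G), (P : Subgroup G)⁆ ≤ N ∧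
      (∀ d ∈ Cfsg.relCharDegrees N, (∃ k : ℕ, d = p ^ k) ∨ Nat.Coprime d p) ∧
      (∃ x ∈ N, ∃ y ∈ (P : Subgroup G), x * y ≠ y * x) ∧
      ∀ M : Subgroup G, M.Normal → M ≠ ⊥ → (∀ K : Subgroup G, K.Normal → K < M → K = ⊥) →
        M ≤ commutator G → M ≤ Subgroup.center G := by
  refine disc_abelian p N hNp hNab hNG P hdisc (fun r _ T _ hT Q => ?_)
  have h := (hIM (T ⧸ N.subgroupOf T) r Q).2 (fun χ => hT χ χ.2)
  exact ⟨h.1, fun a ha b hb => congrArg Subtype.val (h.2.is_comm.comm ⟨a, ha⟩ ⟨b, hb⟩)⟩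

/-- S4778 from the Ito-Michler theorem. -/
theorem s4778_of (hIM : IMStmt.{u}) {G : Type u} [Group G] [Finite G]
    (N : Subgroup G) [N.Normal] [Group.IsSolvable N] (hNG : N ≤ commutator G)
    (hconn : (Cfsg.commonDivisorGraph.induce (Cfsg.relCharDegrees N)).Connected) :
    (Cfsg.commonDivisorGraph.induce (Cfsg.relCharDegrees N)).diam ≤ 4 ∧
      (Group.IsNilpotent N →
        (Cfsg.commonDivisorGraph.induce (Cfsg.relCharDegrees N)).diam ≤ 3) := by
  refine ⟨diam_le_four N inferInstance hNG hconn.preconnected,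
    fun hnil => diam_le_three N hnil hNG ?_ hconn.preconnected⟩
  intro r _ M T _ hMT hT Q
  have h := (hIM (T ⧸ M.subgroupOf T) r Q).2 (fun χ => hT χ χ.2)
  exact ⟨h.1, fun a ha b hb => congrArg Subtype.val (h.2.is_comm.comm ⟨a, ha⟩ ⟨b, hb⟩)⟩

end Cfsg.Agent.H673
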